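import Cfsg.Agent.Lib.CoThreeUniq.Vec
import Cfsg.Agent.Lib.Schur.SpSixTwo
import Cfsg.Prelude.Def_SporadicB

/-!
Every non-split double cover of `Sp(6, 2)` is the group of the table.
-/

set_option autoImplicit false
set_option linter.style.haveILetI false

namespace CfsgLib.CoThreeUniq

open scoped commutatorElement

/-- the derived subgroup of a central extension of a perfect group is perfect and still onto -/
theorem perfect_commutator {A Q : Type*} [Group A] [Group Q] (σ : A →* Q) (hs : Function.Surjective σ)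
    (hc : σ.ker ≤ Subgroup.center A) (hQ : commutator Q = ⊤) :
    commutator ↥(commutator A) = ⊤ ∧ ∀ q, ∃ a ∈ commutator A, σ a = q := by
  have honto : (commutator A).map σ = ⊤ := by
    rw [commutator_def, Subgroup.map_commutator, Subgroup.map_top_of_surjective σ hs, ← commutator_def, hQ]
  have hq : ∀ q, ∃ a ∈ commutator A, σ a = q := fun q =>
    Subgroup.mem_map.1 (honto ▸ Subgroup.mem_top q)
  refine ⟨Subgroup.map_injective (Subgroup.subtype_injective _) ?_, hq⟩
  rw [Subgroup.map_subtype_commutator, ← MonoidHom.range_eq_map, Subgroup.range_subtype]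
  refine le_antisymm (Subgroup.commutator_le.2 fun a ha b hb =>
    Subgroup.commutator_mem_commutator (Subgroup.mem_top a) (Subgroup.mem_top b)) ?_
  conv_lhs => rw [commutator_def]
  refine Subgroup.commutator_le.2 fun a _ b _ => ?_
  obtain ⟨a', ha', ea⟩ := hq (σ a)
  obtain ⟨b', hb', eb⟩ := hq (σ b)
  obtain ⟨k, hk, rfl⟩ : ∃ k ∈ σ.ker, a = a' * k :=
    ⟨a'⁻¹ * a, by rw [MonoidHom.mem_ker, map_mul, map_inv, ea, inv_mul_cancel], by group⟩
  obtain ⟨l, hl, rfl⟩ : ∃ l ∈ σ.ker, b = b' * l :=
    ⟨b'⁻¹ * b, by rw [MonoidHom.mem_ker, map_mul, map_inv, eb, inv_mul_cancel], by group⟩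
  have hkc := fun x => Subgroup.mem_center_iff.1 (hc hk) x
  have hlc := fun x => Subgroup.mem_center_iff.1 (hc hl) x
  have e : ⁅a' * k, b' * l⁆ = ⁅a', b'⁆ := by
    simp only [commutatorElement_def, mul_inv_rev]
    calc a' * k * (b' * l) * (k⁻¹ * a'⁻¹) * (l⁻¹ * b'⁻¹)
        = a' * (k * b') * l * k⁻¹ * a'⁻¹ * l⁻¹ * b'⁻¹ := by group
      _ = a' * b' * (k * l) * k⁻¹ * a'⁻¹ * l⁻¹ * b'⁻¹ := by rw [← hkc b']; group
      _ = a' * b' * (l * a'⁻¹) * l⁻¹ * b'⁻¹ := by rw [← hkc l]; group
      _ = _ := by rw [← hlc a'⁻¹]; group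
  rw [e]
  exact Subgroup.commutator_mem_commutator ha' hb'

theorem sp_perfect : commutator (Matrix.symplecticGroup (Fin 3) (ZMod 2)) = ⊤ :=
  CfsgLib.Classical.SympTrans.commutator_of_card (Or.inl le_rfl)

theorem rho_ker_center : rho.ker ≤ Subgroup.center P := fun a ha => by
  rw [Subgroup.mem_center_iff]
  intro b
  rcases (rho_ker a).1 ha with rfl | rfl
  · simp
  · exact (zP_comm b).symm

theorem P_perfect : commutator P = ⊤ := by
  obtain ⟨-, hq⟩ := perfect_commutator rho rho_surjective rho_ker_center sp_perfect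
  rw [eq_top_iff]
  intro a _
  obtain ⟨b, hb, e⟩ := hq (rho a)
  have hk : rho (b⁻¹ * a) = 1 := by rw [map_mul, map_inv, e, inv_mul_cancel]
  rcases (rho_ker _).1 hk with h | h
  · rw [inv_mul_eq_one.1 h] at hb
    exact hb
  · rw [inv_mul_eq_iff_eq_mul.1 h]
    exact mul_mem hb zP_mem_commutator

theorem center_P : Subgroup.center P = rho.ker := by
  refine le_antisymm (fun a ha => ?_) rho_ker_center
  have h : rho a ∈ Subgroup.center (Matrix.symplecticGroup (Fin 3) (ZMod 2)) := by
    rw [Subgroup.mem_center_iff]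
    intro q
    obtain ⟨b, rfl⟩ := rho_surjective q
    rw [← map_mul, ← map_mul, Subgroup.mem_center_iff.1 ha b]
  rwa [CfsgLib.Schur.SpSixTwo.center_eq_bot (F := ZMod 2) (by decide), Subgroup.mem_bot] at h

/-- The centraliser of the involution is the group of the table, the involution being central. -/
theorem exists_iso {H : Type*} [Group H] [Finite H]
    (h : Cfsg.IsNonsplitDoubleCover H (Matrix.symplecticGroup (Fin 3) (ZMod 2))) :
    ∃ e : P ≃* H, ∀ a ∈ Subgroup.center H, a ≠ 1 → e zP = a := by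
  classical
  obtain ⟨h2, ⟨i⟩, hns⟩ := h
  let σ : H →* Matrix.symplecticGroup (Fin 3) (ZMod 2) := i.toMonoidHom.comp (QuotientGroup.mk' _)
  have hs : Function.Surjective σ := i.surjective.comp (QuotientGroup.mk'_surjective _)
  have hkerσ : σ.ker = Subgroup.center H := by
    ext a
    rw [MonoidHom.mem_ker, show σ a = i (QuotientGroup.mk a) from rfl, map_eq_one_iff _ i.injective,
      QuotientGroup.eq_one_iff]
  obtain ⟨hp', hq⟩ := perfect_commutator σ hs hkerσ.le sp_perfect
  have hH : commutator H = ⊤ := by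
    by_contra hne
    refine hns (commutator H) ?_
    have hdisj : Disjoint (Subgroup.center H) (commutator H) := by
      rw [Subgroup.disjoint_def]
      intro a ha ha'
      by_contra h1
      refine hne ?_
      rw [eq_top_iff]
      intro b _
      obtain ⟨b', hb', eb⟩ := hq (σ b)
      have hk : b'⁻¹ * b ∈ Subgroup.center H := by
        rw [← hkerσ, MonoidHom.mem_ker, map_mul, map_inv, eb, inv_mul_cancel]
      have hza : Subgroup.center H = Subgroup.zpowers a := by
        refine (Subgroup.eq_of_le_of_card_ge (Subgroup.zpowers_le.2 ha) ?_).symm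
        rw [h2, Nat.card_zpowers]
        have := orderOf_pos a
        have : orderOf a ≠ 1 := fun e => h1 (orderOf_eq_one_iff.1 e)
        omega
      rw [hza] at hk
      have := mul_mem hb' (Subgroup.zpowers_le.2 ha' hk)
      rwa [mul_inv_cancel_left] at this
    refine Subgroup.isComplement'_of_disjoint_and_mul_eq_univ hdisj (Set.eq_univ_of_forall fun b => ?_)
    obtain ⟨b', hb', eb⟩ := hq (σ b)
    refine ⟨b'⁻¹ * b, ?_, b', hb', ?_⟩
    · show b'⁻¹ * b ∈ Subgroup.center H
      rw [← hkerσ, MonoidHom.mem_ker, map_mul, map_inv, eb, inv_mul_cancel]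
    · have hk : b'⁻¹ * b ∈ Subgroup.center H := by
        rw [← hkerσ, MonoidHom.mem_ker, map_mul, map_inv, eb, inv_mul_cancel]
      show b'⁻¹ * b * b' = b
      rw [← Subgroup.mem_center_iff.1 hk b', mul_inv_cancel_left]
  let F : Subgroup (P × H) := (rho.comp (MonoidHom.fst P H)).eqLocus (σ.comp (MonoidHom.snd P H))
  let π : F →* Matrix.symplecticGroup (Fin 3) (ZMod 2) := (rho.comp (MonoidHom.fst P H)).comp F.subtype
  have hπs : Function.Surjective π := fun q => by
    obtain ⟨a, rfl⟩ := rho_surjective q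
    obtain ⟨b, hb⟩ := hs (rho a)
    exact ⟨⟨(a, b), hb.symm⟩, rfl⟩
  have hπc : π.ker ≤ Subgroup.center F := fun x hx => by
    have h1 : rho x.1.1 = 1 := hx
    have h2' : σ x.1.2 = 1 := (show rho x.1.1 = σ x.1.2 from x.2) ▸ h1
    rw [Subgroup.mem_center_iff]
    intro y
    refine Subtype.ext (Prod.ext ?_ ?_)
    · exact Subgroup.mem_center_iff.1 (rho_ker_center h1) _
    · exact Subgroup.mem_center_iff.1 (hkerσ ▸ (MonoidHom.mem_ker.2 h2')) _
  obtain ⟨hD, honto⟩ := perfect_commutator π hπs hπc sp_perfect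
  let π' : commutator F →* Matrix.symplecticGroup (Fin 3) (ZMod 2) := π.comp (commutator F).subtype
  have hπ's : Function.Surjective π' := fun q => by
    obtain ⟨a, ha, e⟩ := honto q
    exact ⟨⟨a, ha⟩, e⟩
  have hk2 : Nat.card π'.ker ≤ 2 * 1 :=
    CfsgLib.Schur.SpSixTwo.card_ker_le (F := ZMod 2) (by decide) π' hπ's
      (fun x hx => Subgroup.mem_center_iff.2 fun y => Subtype.ext (Subgroup.mem_center_iff.1 (hπc hx) y.1)) hD
  have hcard : Nat.card (commutator F) ≤ 2903040 := by
    rw [Subgroup.card_eq_card_quotient_mul_card_subgroup π'.ker,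
      Nat.card_congr (QuotientGroup.quotientKerEquivOfSurjective π' hπ's).toEquiv, card_sp]
    omega
  have hcardH : Nat.card H = 2903040 := by
    rw [Subgroup.card_eq_card_quotient_mul_card_subgroup (Subgroup.center H), Nat.card_congr i.toEquiv,
      card_sp, h2]
  let p1 : commutator F →* P := (MonoidHom.fst P H).comp (F.subtype.comp (commutator F).subtype)
  let p2 : commutator F →* H := (MonoidHom.snd P H).comp (F.subtype.comp (commutator F).subtype)
  have hF1 : Function.Surjective ((MonoidHom.fst P H).comp F.subtype) := fun a => by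
    obtain ⟨b, hb⟩ := hs (rho a)
    exact ⟨⟨(a, b), hb.symm⟩, rfl⟩
  have hF2 : Function.Surjective ((MonoidHom.snd P H).comp F.subtype) := fun b => by
    obtain ⟨a, ha⟩ := rho_surjective (σ b)
    exact ⟨⟨(a, b), ha⟩, rfl⟩
  have hs1 : Function.Surjective p1 := fun a => by
    have h : a ∈ (commutator F).map ((MonoidHom.fst P H).comp F.subtype) := by
      rw [commutator_def, Subgroup.map_commutator, Subgroup.map_top_of_surjective _ hF1, ← commutator_def,
        P_perfect]
      trivial
    obtain ⟨x, hx, e⟩ := h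
    exact ⟨⟨x, hx⟩, e⟩
  have hs2 : Function.Surjective p2 := fun b => by
    have h : b ∈ (commutator F).map ((MonoidHom.snd P H).comp F.subtype) := by
      rw [commutator_def, Subgroup.map_commutator, Subgroup.map_top_of_surjective _ hF2, ← commutator_def, hH]
      trivial
    obtain ⟨x, hx, e⟩ := h
    exact ⟨⟨x, hx⟩, e⟩
  have b1 : Function.Bijective p1 := (Nat.bijective_iff_surjective_and_card p1).2
    ⟨hs1, le_antisymm (hcard.trans card_P.ge) (Nat.card_le_card_of_surjective p1 hs1)⟩
  have b2 : Function.Bijective p2 := (Nat.bijective_iff_surjective_and_card p2).2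
    ⟨hs2, le_antisymm (hcard.trans hcardH.ge) (Nat.card_le_card_of_surjective p2 hs2)⟩
  let e : P ≃* H := (MulEquiv.ofBijective p1 b1).symm.trans (MulEquiv.ofBijective p2 b2)
  refine ⟨e, fun a ha ha1 => ?_⟩
  have hzc : e zP ∈ Subgroup.center H := by
    rw [Subgroup.mem_center_iff]
    intro b
    obtain ⟨b', rfl⟩ := e.surjective b
    rw [← map_mul, ← map_mul, zP_comm]
  have hz1 : e zP ≠ 1 := fun h => zP_ne (e.injective (h.trans (map_one e).symm))
  by_contra hne
  have : ({1, e zP, a} : Set H).ncard ≤ Nat.card (Subgroup.center H) := by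
    refine (Set.ncard_le_ncard ?_).trans (Nat.card_coe_set_eq _).ge
    rintro x (rfl | rfl | rfl)
    exacts [one_mem _, hzc, ha]
  rw [Set.ncard_eq_three.2 ⟨1, e zP, a, hz1.symm, fun e => ha1 e.symm, hne, rfl⟩, h2] at this
  omega

end CfsgLib.CoThreeUniq
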