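import Cfsg.Agent.Lib.CoThreeUniq.FinalCtx
import Cfsg.Agent.Lib.CoThreeUniq.Cover

/-!
The group is the vector stabiliser.
-/

set_option autoImplicit false
set_option Elab.async false
set_option maxRecDepth 20000
set_option linter.style.show false

namespace CfsgLib.CoThreeUniq

open CfsgLib.CosetEnum CfsgLib.TwistCoset

/-- the conjugate of the central involution commuting with the four group -/
noncomputable def wW : List ℕ := iw12 wwW ++ (zw ++ wwW)

/-- five copies -/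
noncomputable def fiveW (w : List ℕ) : List ℕ := w ++ (w ++ (w ++ (w ++ w)))

/-- the relations of that conjugate -/
noncomputable def wOK : Bool :=
  Nat.beq (cwP (wW ++ yw7)) (cwP (yw7 ++ wW)) && Nat.beq (cwP (wW ++ uw)) (cwP (uw ++ wW)) &&
    Nat.beq (cwP (wW ++ wW)) (cwP []) && Nat.beq (cwP (fiveW (zw ++ wW))) (cwP []) &&
    Nat.beq (cwP (fiveW (wW ++ g1w))) (cwP [])

theorem w_ok : wOK = true := by decide +kernel

theorem cEv_append (u w : List ℕ) : cEv (u ++ w) = cEv u * cEv w := prodW_append cg u w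

/-- the facts of the four group, unpacked -/
theorem four_facts :
    ((∀ i < 8, ok (rW i) = true ∧ pw (rW i) * u0 = u0 * pw (rW i) ∧ pw (rW i) * y7 = y7 * pw (rW i)) ∧
      pw (rW 0) = 1 ∧ pw (rW 1) = zP) ∧
    (∀ n ∈ y32, ∃ i < 8, ∃ j < 4, yE n = pw (rW i) * pw (vW j)) ∧
    (∀ i < 8, ∀ j < 8, i ≠ j → ∀ k < 4, pw (rW i) * pw (vW k) ≠ pw (rW j)) ∧
    (∀ i < 8, 2 ≤ i → ∃ j < 8, ∀ k < 4, pw (rW i) * pw (rW j) ≠ pw (rW j) * (pw (rW i) * pw (vW k))) ∧
    ((pw g1w * u0 = u0 * pw g1w ∧ pw g1w * y7 = y7 * pw g1w) ∧ Pure (pw g1w) ∧ pw g1w * pw g1w = 1 ∧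
      Pure (zP * pw g1w) ∧ ∀ k < 4, pw g1w ≠ pw (vW k) ∧ pw g1w ≠ zP * pw (vW k)) ∧
    ((pw ew * u0 = u0 * pw ew ∧ pw ew * y7 = y7 * pw ew) ∧
      ∃ k < 4, pw g1w * pw ew = pw ew * (zP * (pw g1w * pw (vW k)))) ∧
    ((pw vw * u0 = u0 * pw vw ∧ pw vw * y7 = y7 * pw vw) ∧ (∃ k < 4, pw vw * pw vw = pw (vW k)) ∧
      ∀ k < 4, ¬Pure (pw vw * pw (vW k)) ∧ pw vw ≠ pw (vW k)) ∧
    ((pw rw4 * u0 = u0 * pw rw4 ∧ pw rw4 * y7 = y7 * pw rw4) ∧
      ∃ k < 4, pw rw4 * pw rw4 = zP * pw (vW k)) ∧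
    (∀ k < 4, k ≠ 0 → ¬Pure (zP * pw (vW k))) := by
  have h := four_ok
  simp only [fourOK, Bool.and_eq_true, List.all_eq_true, List.any_eq_true, List.mem_range,
    Bool.or_eq_true, Bool.not_eq_true', ltB_iff] at h
  obtain ⟨⟨⟨⟨⟨⟨⟨⟨⟨⟨⟨⟨⟨hR, h0⟩, h1⟩, h32⟩, hdist⟩, hcen⟩, hg⟩, he⟩, hv⟩, hr⟩, hzv⟩, -⟩, -⟩, -⟩ := h
  have hzw : ok zw = true := clsKeys_facts.2.2.2.1
  have hvok : ∀ k < 4, ok (vW k) = true := fun k hk => by
    interval_cases k <;> decide +kernel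
  refine ⟨⟨fun i hi => ⟨(hR i hi).1.1, comm_of_same (hR i hi).1.2, comm_of_same (hR i hi).2⟩, ?_, ?_⟩, ?_, ?_, ?_, ?_, ?_, ?_, ?_, ?_⟩
  · rw [eq_of_key (hR 0 (by norm_num)).1.1 (w := []) rfl (Nat.eq_of_beq_eq_true h0), pw_nil]
  · rw [eq_of_key (hR 1 (by norm_num)).1.1 hzw (Nat.eq_of_beq_eq_true h1)]; rfl
  · intro n hn
    obtain ⟨-, i, hi, j, hj, h⟩ := h32 n hn
    exact ⟨i, hi, j, hj, by rw [yE, same_sound h, pw_append]⟩
  · intro i hi j hj hne k hk he
    rcases hdist i hi j hj with h | h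
    · exact hne (Nat.eq_of_beq_eq_true h)
    · have h2 := h k hk
      rw [(same_iff (ok_append.2 ⟨(hR i hi).1.1, hvok k hk⟩) (hR j hj).1.1).2 (by rw [pw_append]; exact he)] at h2
      exact Bool.noConfusion h2
  · intro i hi hi2
    rcases hcen i hi with h | ⟨j, hj, h⟩
    · omega
    · refine ⟨j, hj, fun k hk he => ?_⟩
      have h2 := h k hk
      rw [(same_iff (ok_append.2 ⟨(hR i hi).1.1, (hR j hj).1.1⟩)
        (ok_append.2 ⟨(hR j hj).1.1, ok_append.2 ⟨(hR i hi).1.1, hvok k hk⟩⟩)).2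
        (by simp only [pw_append]; exact he)] at h2
      exact Bool.noConfusion h2
  · obtain ⟨⟨⟨⟨⟨⟨⟨hok, g1⟩, g2⟩, g3⟩, g4⟩, -⟩, g5⟩, g6⟩ := hg
    refine ⟨⟨comm_of_same g1, comm_of_same g2⟩, (pureB_iff hok).1 g3, ?_, ?_, fun k hk => ⟨fun e => ?_, fun e => ?_⟩⟩
    · rw [← pw_append, same_sound g4, pw_nil]
    · rw [zP, ← pw_append]; exact (pureB_iff (ok_append.2 ⟨hzw, hok⟩)).1 g5
    · have := (g6 k hk).1
      rw [(same_iff hok (hvok k hk)).2 e] at this
      exact Bool.noConfusion this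
    · have := (g6 k hk).2
      rw [(same_iff hok (ok_append.2 ⟨hzw, hvok k hk⟩)).2 (by rw [pw_append]; exact e)] at this
      exact Bool.noConfusion this
  · obtain ⟨⟨⟨-, e1⟩, e2⟩, k, hk, e3⟩ := he
    refine ⟨⟨comm_of_same e1, comm_of_same e2⟩, k, hk, ?_⟩
    have := same_sound e3
    simpa only [pw_append, zP] using this
  · obtain ⟨⟨⟨⟨hok, v1⟩, v2⟩, ⟨k, hk, v3⟩⟩, v4⟩ := hv
    refine ⟨⟨comm_of_same v1, comm_of_same v2⟩, ⟨k, hk, by rw [← pw_append, same_sound v3]⟩, fun k hk => ⟨fun e => ?_, fun e => ?_⟩⟩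
    · have := (v4 k hk).1
      rw [(pureB_iff (ok_append.2 ⟨hok, hvok k hk⟩)).2 (by rw [pw_append]; exact e)] at this
      exact Bool.noConfusion this
    · have := (v4 k hk).2
      rw [(same_iff hok (hvok k hk)).2 e] at this
      exact Bool.noConfusion this
  · obtain ⟨⟨⟨-, r1⟩, r2⟩, k, hk, r3⟩ := hr
    refine ⟨⟨comm_of_same r1, comm_of_same r2⟩, k, hk, ?_⟩
    have := same_sound r3
    simpa only [pw_append, zP] using this
  · intro k hk hk0 hp
    rcases hzv k hk with h | h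
    · exact hk0 (Nat.eq_of_beq_eq_true h)
    · rw [(pureB_iff (ok_append.2 ⟨hzw, hvok k hk⟩)).2 (by rw [pw_append]; exact hp)] at h
      exact Bool.noConfusion h

theorem mul_zP (a : P) : a * zP = zP * a := (zP_comm a).symm

attribute [local irreducible] pw zP cls cEv psi cg

namespace Emb

variable {G : Type*} [Group G] (E : Emb G)

/-- fixing the second involution and the pair of the third -/
noncomputable def Cu : Subgroup G where
  carrier := {g | g * E.y = E.y * g ∧ (g⁻¹ * E.u * g = E.u ∨ g⁻¹ * E.u * g = E.u * E.y)}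
  one_mem' := ⟨by simp, Or.inl (by simp)⟩
  mul_mem' := by
    rintro g h ⟨hg, hg'⟩ ⟨hh, hh'⟩
    refine ⟨by rw [mul_assoc, hh, ← mul_assoc, hg, mul_assoc], ?_⟩
    have hy : h⁻¹ * E.y * h = E.y := by rw [mul_assoc, ← hh, inv_mul_cancel_left]
    have e : (g * h)⁻¹ * E.u * (g * h) = h⁻¹ * (g⁻¹ * E.u * g) * h := by group
    rw [e]
    rcases hg' with hg' | hg' <;> rw [hg']
    · exact hh'
    · rw [show h⁻¹ * (E.u * E.y) * h = h⁻¹ * E.u * h * (h⁻¹ * E.y * h) by group, hy]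
      rcases hh' with hh' | hh' <;> rw [hh']
      · exact Or.inr rfl
      · exact Or.inl (by rw [mul_assoc, E.y_sq, mul_one])
  inv_mem' := by
    rintro g ⟨hg, hg'⟩
    have hy : g⁻¹ * E.y = E.y * g⁻¹ := by
      rw [eq_mul_inv_iff_mul_eq, mul_assoc, ← hg, inv_mul_cancel_left]
    refine ⟨hy, ?_⟩
    rw [inv_inv]
    rcases hg' with hg' | hg'
    · left
      conv_lhs => rw [← hg']
      group
    · right
      calc g * E.u * g⁻¹ = g * E.u * (E.y * E.y) * g⁻¹ := by rw [E.y_sq, mul_one]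
        _ = g * (E.u * E.y) * (E.y * g⁻¹) := by group
        _ = g * (g⁻¹ * E.u * g) * (g⁻¹ * E.y) := by rw [hg', hy]
        _ = E.u * E.y := by group

theorem mem_Cu {g : G} : g ∈ E.Cu ↔ g * E.y = E.y * g ∧ (g⁻¹ * E.u * g = E.u ∨ g⁻¹ * E.u * g = E.u * E.y) :=
  Iff.rfl

theorem phi_Cu {a : P} (h : a * u0 = u0 * a ∧ a * y7 = y7 * a) : E.φ a ∈ E.Cu := by
  refine ⟨by rw [y, ← map_mul, ← map_mul, h.2], Or.inl ?_⟩
  rw [u, mul_assoc, ← map_mul, ← h.1, map_mul, inv_mul_cancel_left]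

theorem vW_cases {k : ℕ} (hk : k < 4) : E.φ (pw (vW k)) = 1 ∨ E.φ (pw (vW k)) = E.y ∨ E.φ (pw (vW k)) = E.u ∨
    E.φ (pw (vW k)) = E.u * E.y := by
  interval_cases k
  · left; rw [show vW 0 = [] from rfl, pw_nil, map_one]
  · right; left; rfl
  · right; right; left; rfl
  · right; right; right
    rw [show vW 3 = uw ++ yw7 from rfl, pw_append, map_mul]; rfl

/-- the four group in it -/
noncomputable def V4 : Subgroup E.Cu where
  carrier := {g | ∃ k < 4, (g : G) = E.φ (pw (vW k))}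
  one_mem' := ⟨0, by norm_num, by rw [show vW 0 = [] from rfl, pw_nil, map_one]; rfl⟩
  mul_mem' := by
    have h3 : E.φ (pw (vW 3)) = E.u * E.y := by rw [show vW 3 = uw ++ yw7 from rfl, pw_append, map_mul]; rfl
    rintro a b ⟨i, hi, ea⟩ ⟨j, hj, eb⟩
    rw [Set.mem_setOf_eq, Subgroup.coe_mul, ea, eb]
    rcases E.vW_cases hi with h | h | h | h <;> rcases E.vW_cases hj with h' | h' | h' | h' <;> rw [h, h']
    · exact ⟨0, by norm_num, by rw [show vW 0 = [] from rfl, pw_nil, map_one, mul_one]⟩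
    · exact ⟨1, by norm_num, by rw [one_mul]; rfl⟩
    · exact ⟨2, by norm_num, by rw [one_mul]; rfl⟩
    · exact ⟨3, by norm_num, by rw [one_mul, h3]⟩
    · exact ⟨1, by norm_num, by rw [mul_one]; rfl⟩
    · exact ⟨0, by norm_num, by rw [E.y_sq, show vW 0 = [] from rfl, pw_nil, map_one]⟩
    · exact ⟨3, by norm_num, by rw [← E.u_y, h3]⟩
    · exact ⟨2, by norm_num, by rw [← mul_assoc, ← E.u_y, mul_assoc, E.y_sq, mul_one]; rfl⟩
    · exact ⟨2, by norm_num, by rw [mul_one]; rfl⟩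
    · exact ⟨3, by norm_num, by rw [h3]⟩
    · exact ⟨0, by norm_num, by rw [E.u_sq, show vW 0 = [] from rfl, pw_nil, map_one]⟩
    · exact ⟨1, by norm_num, by rw [← mul_assoc, E.u_sq, one_mul]; rfl⟩
    · exact ⟨3, by norm_num, by rw [mul_one, h3]⟩
    · exact ⟨2, by norm_num, by rw [mul_assoc, E.y_sq, mul_one]; rfl⟩
    · exact ⟨1, by norm_num, by rw [mul_assoc, ← E.u_y, ← mul_assoc, E.u_sq, one_mul]; rfl⟩
    · exact ⟨0, by norm_num, by
        rw [mul_assoc, ← mul_assoc E.y, ← E.u_y, mul_assoc E.u E.y E.y, E.y_sq, mul_one, E.u_sq,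
          show vW 0 = [] from rfl, pw_nil, map_one]⟩
  inv_mem' := by
    rintro a ⟨k, hk, ea⟩
    refine ⟨k, hk, ?_⟩
    rw [Subgroup.coe_inv, ea]
    refine inv_eq_of_mul_eq_one_right ?_
    rcases E.vW_cases hk with h | h | h | h <;> rw [h]
    exacts [one_mul 1, E.y_sq, E.u_sq, by
      rw [mul_assoc, ← mul_assoc E.y, ← E.u_y, mul_assoc E.u E.y E.y, E.y_sq, mul_one, E.u_sq]]

instance V4_normal : E.V4.Normal := by
  refine ⟨fun a ⟨k, hk, ea⟩ g => ?_⟩
  obtain ⟨hy, hu⟩ := E.Cu.inv_mem g.2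
  rw [inv_inv] at hu
  have hgy : (g : G) * E.y * (g : G)⁻¹ = E.y := by
    rw [mul_inv_eq_iff_eq_mul]
    exact (g.2).1
  show ∃ k < 4, _
  rw [Subgroup.coe_mul, Subgroup.coe_mul, Subgroup.coe_inv, ea]
  have h3 : E.φ (pw (vW 3)) = E.u * E.y := by rw [show vW 3 = uw ++ yw7 from rfl, pw_append, map_mul]; rfl
  rcases E.vW_cases hk with h | h | h | h <;> rw [h]
  · exact ⟨0, by norm_num, by rw [show vW 0 = [] from rfl, pw_nil, map_one]; group⟩
  · exact ⟨1, by norm_num, hgy⟩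
  · rcases hu with hu | hu
    exacts [⟨2, by norm_num, hu⟩, ⟨3, by norm_num, hu.trans h3.symm⟩]
  · rw [show (g : G) * (E.u * E.y) * (g : G)⁻¹ = (g : G) * E.u * (g : G)⁻¹ * ((g : G) * E.y * (g : G)⁻¹) by group,
      hgy]
    rcases hu with hu | hu <;> rw [hu]
    exacts [⟨3, by norm_num, h3.symm⟩, ⟨2, by norm_num, by rw [mul_assoc, E.y_sq, mul_one]; rfl⟩]

/-- modulo the four group -/
abbrev Qu : Type _ := E.Cu ⧸ E.V4

theorem mk_eq {a b : E.Cu} : (a : E.Qu) = b ↔ ∃ k < 4, (b : G) = (a : G) * E.φ (pw (vW k)) := by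
  rw [QuotientGroup.eq]
  show (∃ k < 4, ((a⁻¹ * b : E.Cu) : G) = _) ↔ _
  simp only [Subgroup.coe_mul, Subgroup.coe_inv, inv_mul_eq_iff_eq_mul]

variable [Finite G]

/-- fixing the pair lies in the image -/
theorem Cu_le : E.Cu ≤ E.M := by
  obtain ⟨⟨hR, hR0, hR1⟩, h32, hdist, hcen, ⟨hgc, hgp, hg2, hzgp, hgne⟩, ⟨hec, ke, hke, hee⟩,
    ⟨hvc, ⟨kv, hkv, hvv⟩, hvp⟩, ⟨hrc, kr, hkr, hrr⟩, hzv⟩ := four_facts
  have hzc : zP * u0 = u0 * zP ∧ zP * y7 = y7 * zP := ⟨zP_comm _, zP_comm _⟩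
  let C (a : P) (h : a * u0 = u0 * a ∧ a * y7 = y7 * a) : E.Qu := ((⟨E.φ a, E.phi_Cu h⟩ : E.Cu) : E.Qu)
  let N : Subgroup E.Qu := (E.M.subgroupOf E.Cu).map (QuotientGroup.mk' E.V4)
  have hCN : ∀ a h, C a h ∈ N := fun a h => ⟨⟨E.φ a, E.phi_Cu h⟩, E.phi_mem a, rfl⟩
  let s := C zP hzc
  let rr (i : Fin 8) : E.Qu := C (pw (rW i)) ⟨(hR i i.2).2.1, (hR i i.2).2.2⟩
  have hs_comm : ∀ a h, C a h * s = s * C a h := fun a h => by
    show ((_ * _ : E.Cu) : E.Qu) = ((_ * _ : E.Cu) : E.Qu)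
    exact congrArg QuotientGroup.mk (Subtype.ext (by rw [Subgroup.coe_mul, Subgroup.coe_mul, ← map_mul, ← map_mul, mul_zP]))
  have hK : ∀ x : E.Qu, x * s = s * x → ∃ i, rr i = x := by
    intro x hx
    induction x using QuotientGroup.induction_on with
    | H g =>
      change ((g * ⟨E.φ zP, _⟩ : E.Cu) : E.Qu) = ((⟨E.φ zP, E.phi_Cu hzc⟩ * g : E.Cu) : E.Qu) at hx
      obtain ⟨k, hk, e⟩ := E.mk_eq.1 hx
      simp only [Subgroup.coe_mul] at e
      have hgt : (g : G) * E.toCtx.t = E.toCtx.t * g := by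
        by_cases hk0 : k = 0
        · subst hk0
          rw [show vW 0 = [] from rfl, pw_nil, map_one, mul_one] at e
          exact e.symm
        · exfalso
          refine E.not_T (hzv k hk hk0) ?_
          have : E.φ (zP * pw (vW k)) = (g : G)⁻¹ * E.toCtx.t * g := by
            rw [map_mul, mul_assoc (g : G)⁻¹, show E.toCtx.t * g = E.φ zP * g from rfl, e]; group
          rw [this]
          exact E.toCtx.isT_self.conj _
      obtain ⟨a, ha⟩ := E.toCtx.exists_pre hgt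
      obtain ⟨hy, hu⟩ := g.2
      rw [← ha] at hy hu
      have hay : a * y7 = y7 * a := E.inj (by rw [map_mul, map_mul]; exact hy)
      have hau : a * u0 = u0 * a := by
        rcases hu with hu | hu
        · refine E.inj ?_
          rw [map_mul, map_mul]
          change E.φ a * E.u = E.u * E.φ a
          conv_lhs => rw [← hu]
          group
        · exfalso
          refine u0_not_conj hay (E.inj ?_)
          rw [map_mul, map_mul, map_mul]
          show E.φ a * (E.u * E.y) = E.u * E.φ a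
          rw [← hu]
          group
      obtain ⟨n, hn, rfl⟩ := exists_yE hay
      have h := allUp_spec u_ok n (Nat.zero_le _) (by omega)
      simp only [show ltB n 384 = true from ltB_iff.mpr hn, pick_true, band_eq_true] at h
      have h2 := h.2
      rw [u2At, band_eq_true] at h2
      rw [(same_iff (ok_append.2 ⟨ok_yEW hn, uw_facts.1⟩) (ok_append.2 ⟨uw_facts.1, ok_yEW hn⟩)).2
        (by rw [pw_append, pw_append]; exact hau), pick_true, memK_iff] at h2
      obtain ⟨i, hi, j, hj, e'⟩ := h32 n h2.2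
      refine ⟨⟨i, hi⟩, E.mk_eq.2 ⟨j, hj, ?_⟩⟩
      show (g : G) = E.φ (pw (rW i)) * E.φ (pw (vW j))
      rw [← ha, e', map_mul]
  let K := Subgroup.centralizer ({s} : Set E.Qu)
  have hKiff : ∀ x, x * s = s * x ↔ x ∈ K := fun x => by
    rw [Subgroup.mem_centralizer_singleton_iff]
  have hrinj : Function.Injective rr := by
    intro i j h
    obtain ⟨k, hk, e⟩ := E.mk_eq.1 h
    refine Fin.ext (by_contra fun hne => hdist i i.2 j j.2 hne k hk (E.inj ?_))
    rw [map_mul]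
    exact e.symm
  have hK8 : Nat.card K = 8 := by
    let f : Fin 8 → K := fun i => ⟨rr i, (hKiff _).1 (hs_comm _ ⟨(hR i i.2).2.1, (hR i i.2).2.2⟩)⟩
    have hf : Function.Bijective f := ⟨fun i j h => hrinj (congrArg Subtype.val h), fun x => by
      obtain ⟨i, hi⟩ := hK x.1 ((hKiff _).2 x.2)
      exact ⟨i, Subtype.ext hi⟩⟩
    rw [← Nat.card_eq_of_bijective f hf, Nat.card_fin]
  have hKN : K ≤ N := fun x hx => by
    obtain ⟨i, rfl⟩ := hK x ((hKiff _).2 hx)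
    exact hCN _ ⟨(hR i i.2).2.1, (hR i i.2).2.2⟩
  have hone : ∀ a h, C a h = 1 ↔ ∃ k < 4, E.φ a = E.φ (pw (vW k)) := fun a h => by
    show ((_ : E.Cu) : E.Qu) = ((1 : E.Cu) : E.Qu) ↔ _
    rw [eq_comm, E.mk_eq]
    simp
  have hcent : ∀ x ∈ K, x ≠ 1 → x ≠ s → ∃ y ∈ K, x * y ≠ y * x := by
    intro x hx h1 hs'
    obtain ⟨i, rfl⟩ := hK x ((hKiff _).2 hx)
    have hi0 : (i : ℕ) ≠ 0 := fun h => h1 ((hone (pw (rW i)) ⟨(hR i i.2).2.1, (hR i i.2).2.2⟩).2 ⟨0, by norm_num, by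
      rw [h, hR0, show vW 0 = [] from rfl, pw_nil]⟩)
    have hi1 : (i : ℕ) ≠ 1 := fun h => hs' (E.mk_eq.2 ⟨0, by norm_num, by
      show E.φ zP = E.φ (pw (rW i)) * _
      rw [h, hR1, show vW 0 = [] from rfl, pw_nil, map_one, mul_one]⟩)
    obtain ⟨j, hj, hne⟩ := hcen i i.2 (by omega)
    refine ⟨rr ⟨j, hj⟩, (hKiff _).1 (hs_comm _ ⟨(hR j hj).2.1, (hR j hj).2.2⟩), fun e => ?_⟩
    obtain ⟨k, hk, e'⟩ := E.mk_eq.1 (show ((_ * _ : E.Cu) : E.Qu) = ((_ * _ : E.Cu) : E.Qu) from e.symm)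
    simp only [Subgroup.coe_mul] at e'
    exact hne k hk (E.inj (by rw [map_mul, map_mul, map_mul, e', mul_assoc]))
  have hsne : s ≠ 1 := fun h => by
    obtain ⟨k, hk, e⟩ := (hone zP hzc).1 h
    have := hdist 0 (by norm_num) 1 (by norm_num) (by norm_num) k hk
    exact this (by rw [hR0, hR1, one_mul, E.inj e])
  have hsq : ∀ a h, (∃ k < 4, a * a = pw (vW k)) → C a h * C a h = 1 := fun a h ⟨k, hk, e⟩ => by
    rw [← (hone (a * a) ⟨by rw [mul_assoc, h.1, ← mul_assoc, h.1, mul_assoc],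
      by rw [mul_assoc, h.2, ← mul_assoc, h.2, mul_assoc]⟩).2 ⟨k, hk, by rw [e]⟩]
    show ((_ * _ : E.Cu) : E.Qu) = ((_ : E.Cu) : E.Qu)
    exact congrArg QuotientGroup.mk (Subtype.ext (map_mul _ _ _).symm)
  let g' := C (pw g1w) hgc
  let v' := C (pw vw) hvc
  -- the element outside the centraliser of the central involution
  have hw := w_ok
  simp only [wOK, Bool.and_eq_true] at hw
  obtain ⟨⟨⟨⟨hwy, hwu⟩, hw2⟩, hw5⟩, hw5'⟩ := hw
  obtain ⟨cw', hcw⟩ : ∃ c : Co, cEv wW = c := ⟨_, rfl⟩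
  have hev : ∀ {l : List ℕ}, ok l = true → E.f (cEv l) = E.φ (pw l) := fun hl => by
    rw [← psi_pw hl, E.f_psi]
  let w := E.f (cEv wW)
  have hwy' : w * E.y = E.y * w := by
    rw [y, y7, ← hev yw7_facts.1, ← map_mul, ← map_mul, ← cEv_append, ← cEv_append, co_eq hwy]
  have hwu' : w * E.u = E.u * w := by
    rw [u, u0, ← hev uw_facts.1, ← map_mul, ← map_mul, ← cEv_append, ← cEv_append, co_eq hwu]
  have hwC : w ∈ E.Cu := ⟨hwy', Or.inl (by rw [mul_assoc, ← hwu', inv_mul_cancel_left])⟩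
  let w' : E.Qu := ((⟨w, hwC⟩ : E.Cu) : E.Qu)
  have hwN : w' ∈ N := ⟨⟨w, hwC⟩, ⟨_, rfl⟩, rfl⟩
  have hp5 : ∀ l, E.f (cEv (fiveW l)) = E.f (cEv l) ^ 5 := fun l => by
    simp only [fiveW, cEv_append, map_mul, pow_succ, pow_zero, one_mul, mul_assoc]
  have hzok : ok zw = true := clsKeys_facts.2.2.2.1
  have hgok : ok g1w = true := by decide +kernel
  have top := eq_top_of_five N K (s := s) (g := g') (v := v') (e := C (pw ew) hec) (r := C (pw rw4) hrc) (w := w')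
    hKiff hKN hK8 hcent (hsq zP hzc ⟨0, by norm_num, by rw [zP_sq, show vW 0 = [] from rfl, pw_nil]⟩) hsne
    ((hKiff _).1 (hs_comm _ hgc)) (hsq _ hgc ⟨0, by norm_num, by rw [hg2, show vW 0 = [] from rfl, pw_nil]⟩)
    (fun h => by
      obtain ⟨k, hk, e⟩ := (hone _ hgc).1 h
      exact (hgne k hk).1 (E.inj e))
    (fun h => by
      obtain ⟨k, hk, e⟩ := E.mk_eq.1 h.symm
      exact (hgne k hk).2 (E.inj (by rw [map_mul]; exact e)))
    ((hKiff _).1 (hs_comm _ hvc)) (hsq _ hvc ⟨kv, hkv, hvv⟩)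
    (fun h => by
      obtain ⟨k, hk, e⟩ := (hone _ hvc).1 h
      exact (hvp k hk).2 (E.inj e))
    (fun c => by
      induction c using QuotientGroup.induction_on with
      | H g =>
        have hX : ∀ X hXc, Pure X → (g : E.Qu)⁻¹ * v' * g ≠ C X hXc := by
          intro X hXc hX h
          obtain ⟨k, hk, e⟩ := E.mk_eq.1 (show ((g⁻¹ * _ * g : E.Cu) : E.Qu) = ((_ : E.Cu) : E.Qu) from h)
          simp only [Subgroup.coe_mul, Subgroup.coe_inv] at e
          obtain ⟨k', hk', e'⟩ := (E.V4_normal.conj_mem ⟨E.φ (pw (vW k)), E.phi_Cu (by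
            interval_cases k
            · rw [show vW 0 = [] from rfl, pw_nil]; simp
            · exact ⟨u0_comm.symm, rfl⟩
            · exact ⟨rfl, u0_comm⟩
            · rw [show vW 3 = uw ++ yw7 from rfl, pw_append, ← u0, ← y7]
              exact ⟨by rw [mul_assoc, ← u0_comm], by rw [← mul_assoc y7, ← u0_comm]⟩)⟩
            ⟨k, hk, rfl⟩ g : _ ∈ E.V4)
          simp only [Subgroup.coe_mul, Subgroup.coe_inv] at e'
          refine E.not_T (hvp k' hk').1 ?_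
          have hT := (E.toCtx.pure_isT E.hx hX).conj' (g : G)
          rw [e] at hT
          rw [map_mul, ← e']
          convert hT using 1
          group
        exact ⟨hX zP hzc (Or.inl rfl), hX _ hgc hgp,
          fun h => hX (zP * pw g1w) ⟨by rw [mul_assoc, hgc.1, ← mul_assoc, hzc.1, mul_assoc],
            by rw [mul_assoc, hgc.2, ← mul_assoc, hzc.2, mul_assoc]⟩ hzgp (h.trans (by
            show ((_ * _ : E.Cu) : E.Qu) = ((_ : E.Cu) : E.Qu)
            exact congrArg QuotientGroup.mk (Subtype.ext (map_mul _ _ _).symm)))⟩)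
    ((hKiff _).1 (hs_comm _ hec))
    (by
      show ((_ * _ : E.Cu) : E.Qu) = ((_ * (_ * _) : E.Cu) : E.Qu)
      refine (E.mk_eq.2 ⟨ke, hke, ?_⟩).symm
      simp only [Subgroup.coe_mul]
      rw [← map_mul, hee]
      simp only [map_mul, mul_assoc])
    ((hKiff _).1 (hs_comm _ hrc))
    (by
      show ((_ * _ : E.Cu) : E.Qu) = ((_ : E.Cu) : E.Qu)
      refine (E.mk_eq.2 ⟨kr, hkr, ?_⟩).symm
      show E.φ (pw rw4) * E.φ (pw rw4) = E.φ zP * _
      rw [← map_mul, hrr, map_mul])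
    hwN
    (by
      show ((_ * _ : E.Cu) : E.Qu) = ((1 : E.Cu) : E.Qu)
      refine congrArg QuotientGroup.mk (Subtype.ext ?_)
      show E.f (cEv wW) * E.f (cEv wW) = 1
      rw [← map_mul, ← cEv_append, co_one hw2, map_one])
    (by
      show (((⟨E.φ zP, E.phi_Cu hzc⟩ * ⟨w, hwC⟩ : E.Cu) ^ 5 : E.Cu) : E.Qu) = ((1 : E.Cu) : E.Qu)
      refine congrArg QuotientGroup.mk (Subtype.ext ?_)
      show (E.φ zP * E.f (cEv wW)) ^ 5 = 1
      rw [zP, ← hev hzok, ← map_mul, ← cEv_append, ← hp5, co_one hw5, map_one])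
    (by
      show (((⟨w, hwC⟩ * ⟨E.φ (pw g1w), E.phi_Cu hgc⟩ : E.Cu) ^ 5 : E.Cu) : E.Qu) = ((1 : E.Cu) : E.Qu)
      refine congrArg QuotientGroup.mk (Subtype.ext ?_)
      show (E.f (cEv wW) * E.φ (pw g1w)) ^ 5 = 1
      rw [← hev hgok, ← map_mul, ← cEv_append, ← hp5, co_one hw5', map_one])
  intro g hg
  have hgN : ((⟨g, hg⟩ : E.Cu) : E.Qu) ∈ N := by rw [top]; trivial
  obtain ⟨a, ha, e⟩ := hgN
  obtain ⟨k, hk, e'⟩ := E.mk_eq.1 (show ((a : E.Cu) : E.Qu) = _ from e)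
  change g = _ at e'
  rw [e']
  exact mul_mem ha (E.phi_mem _)

theorem cent_T_le {i a : G} (hi : i ∈ E.M) (hT : E.toCtx.IsT i) (h : a * i = i * a) : a ∈ E.M := by
  obtain ⟨m, hm, e⟩ := E.T_conj hi hT
  have : m * a * m⁻¹ ∈ E.M := E.cent_le (by
    calc m * a * m⁻¹ * E.toCtx.t = m * (a * (m⁻¹ * E.toCtx.t * m)) * m⁻¹ := by group
      _ = m * (i * a) * m⁻¹ := by rw [e, h]
      _ = E.toCtx.t * (m * a * m⁻¹) := by rw [← e]; group)
  have h2 := mul_mem (mul_mem (inv_mem hm) this) hm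
  simpa [mul_assoc] using h2

theorem utype_conj {i : G} (hi : i ∈ E.M) (hiy : i * E.y = E.y * i) (hi2 : i * i = 1) (h1 : i ≠ 1)
    (hne : i ≠ E.y) (hT : ¬E.toCtx.IsT i) (hT' : ¬E.toCtx.IsT (i * E.y)) :
    ∃ m ∈ E.M, m * E.y * m⁻¹ = E.y ∧ (m * i * m⁻¹ = E.u ∨ m * i * m⁻¹ = E.u * E.y) := by
  obtain ⟨m1, hm1, a, b, ea, eb⟩ := E.conj_pair (E.phi_mem y7) hi E.y_sq hi2 hiy.symm
  have ha2 : a * a = 1 := E.inj (by
    rw [map_mul, ea, map_one, show m1 * E.φ y7 * m1⁻¹ * (m1 * E.φ y7 * m1⁻¹) = m1 * (E.y * E.y) * m1⁻¹ by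
      rw [y]; group, E.y_sq]
    group)
  have ha1 : a ≠ 1 := fun h => y7_ne (E.inj (by
    rw [map_one]
    exact conj_eq_one_iff.1 (show m1 * E.φ y7 * m1⁻¹ = 1 by rw [← ea, h, map_one])))
  rcases invol_cases ha2 ha1 with hp | ⟨c, hc⟩
  · refine absurd ?_ E.y_notT
    have := (E.toCtx.pure_isT E.hx hp).conj m1
    rw [ea] at this
    simpa [y, mul_assoc] using this
  set m2 := E.φ c * m1 with hm2
  have hm2M : m2 ∈ E.M := mul_mem (E.phi_mem c) hm1
  have hy2 : m2 * E.y * m2⁻¹ = E.y := by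
    calc m2 * E.y * m2⁻¹ = E.φ c * (m1 * E.φ y7 * m1⁻¹) * (E.φ c)⁻¹ := by rw [hm2, y]; group
      _ = E.y := by rw [← ea, ← hc, y, map_mul, map_mul, map_inv]; group
  set b2 := c * b * c⁻¹ with hb2d
  have hb2 : E.φ b2 = m2 * i * m2⁻¹ := by
    rw [hb2d, map_mul, map_mul, map_inv, eb, hm2]; group
  have hb2y : E.φ (b2 * y7) = m2 * (i * E.y) * m2⁻¹ := by
    rw [map_mul, hb2]
    change _ * E.y = _
    conv_lhs => rw [← hy2]
    group
  have hU : UType b2 := by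
    refine ⟨E.inj ?_, E.inj ?_, fun h => h1 ?_, fun h => hne ?_, fun h => hT ?_, fun h => hT' ?_⟩
    · rw [hb2y, map_mul, hb2]
      change _ = E.y * _
      conv_rhs => rw [← hy2]
      rw [show m2 * (i * E.y) * m2⁻¹ = m2 * (E.y * i) * m2⁻¹ by rw [hiy]]
      group
    · rw [map_mul, hb2, map_one, show m2 * i * m2⁻¹ * (m2 * i * m2⁻¹) = m2 * (i * i) * m2⁻¹ by group, hi2]
      group
    · exact conj_eq_one_iff.1 (show m2 * i * m2⁻¹ = 1 by rw [← hb2, h, map_one])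
    · have e : m2 * i * m2⁻¹ = m2 * E.y * m2⁻¹ := by rw [← hb2, h, hy2]; rfl
      exact mul_left_cancel (mul_right_cancel e)
    · have := (E.toCtx.pure_isT E.hx h).conj m2
      rw [hb2] at this
      simpa [mul_assoc] using this
    · have := (E.toCtx.pure_isT E.hx h).conj m2
      rw [hb2y] at this
      simpa [mul_assoc] using this
  obtain ⟨g, hg, hg'⟩ := utype_cases hU
  refine ⟨E.φ g * m2, mul_mem (E.phi_mem g) hm2M, ?_, ?_⟩
  · calc E.φ g * m2 * E.y * (E.φ g * m2)⁻¹ = E.φ g * (m2 * E.y * m2⁻¹) * (E.φ g)⁻¹ := by group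
      _ = E.y := by rw [hy2, y, ← map_mul, hg, map_mul, mul_inv_cancel_right]
  · rcases hg' with h | h
    · left
      calc E.φ g * m2 * i * (E.φ g * m2)⁻¹ = E.φ g * (m2 * i * m2⁻¹) * (E.φ g)⁻¹ := by group
        _ = E.u := by rw [← hb2, ← h, u, map_mul, map_mul, map_inv]; group
    · right
      calc E.φ g * m2 * i * (E.φ g * m2)⁻¹ = E.φ g * (m2 * i * m2⁻¹) * (E.φ g)⁻¹ := by group
        _ = E.u * E.y := by rw [← hb2, ← h, u, y, map_mul, map_mul, map_inv, ← map_mul E.φ u0 y7]; group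

/-- conjugates of the involution commuting with the second one are in the image -/
theorem T_cent_y {a : G} (hT : E.toCtx.IsT a) (hay : a * E.y = E.y * a) : a ∈ E.M := by
  obtain ⟨ha2, ha1⟩ := E.toCtx.isT_sq hT
  obtain ⟨huT, huyT⟩ := E.u_notT
  set h := E.u * a with hh
  have hhy : h * E.y = E.y * h := by rw [hh, mul_assoc, hay, ← mul_assoc, E.u_y, mul_assoc]
  have hinvh : ∀ j : ℕ, E.u * h ^ j * E.u⁻¹ = (h ^ j)⁻¹ ∧ a * h ^ j * a⁻¹ = (h ^ j)⁻¹ := by
    intro j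
    have e1 : E.u * h * E.u⁻¹ = h⁻¹ := by
      rw [hh, mul_inv_rev, inv_eq_of_mul_eq_one_right ha2, ← mul_assoc, E.u_sq, one_mul]
    have e2 : a * h * a⁻¹ = h⁻¹ := by
      rw [hh, mul_inv_rev, inv_eq_of_mul_eq_one_right ha2, inv_eq_of_mul_eq_one_right E.u_sq, mul_assoc, mul_assoc,
        ha2, mul_one]
    constructor
    · rw [← conj_pow, e1, inv_pow]
    · rw [← conj_pow, e2, inv_pow]
  obtain ⟨n, hn⟩ : ∃ n, orderOf h = n := ⟨_, rfl⟩
  have hpow : h ^ n = 1 := hn ▸ pow_orderOf_eq_one h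
  rcases Nat.even_or_odd n with ⟨m, hm⟩ | ⟨m, hm⟩
  swap
  · rw [hm] at hpow
    refine absurd ?_ huT
    have e := conj_of_odd E.u_sq ha2 hpow
    rw [← e] at hT
    have := hT.conj ((E.u * a) ^ m)
    simpa [mul_assoc] using this
  have hmpos : 0 < m := by
    have := orderOf_pos h
    omega
  set i := h ^ m with hi
  have hi2 : i * i = 1 := by rw [hi, ← pow_add, ← hm, hpow]
  have hi1 : i ≠ 1 := pow_ne_one_of_lt_orderOf (by omega) (by omega)
  have hiu : E.u * i * E.u⁻¹ = i := by rw [(hinvh m).1, ← hi, inv_eq_of_mul_eq_one_right hi2]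
  have hia : a * i * a⁻¹ = i := by rw [(hinvh m).2, ← hi, inv_eq_of_mul_eq_one_right hi2]
  by_cases hiy : i = E.y
  · exfalso
    rcases Nat.even_or_odd m with ⟨l, hl⟩ | ⟨l, hl⟩
    · set j := h ^ l with hj
      have hj2 : j * j = E.y := by rw [hj, ← pow_add, ← hl, ← hi, hiy]
      have hjy : j * E.y = E.y * j := by rw [← hj2, mul_assoc]
      have hjinv : j⁻¹ = j * E.y := by
        refine inv_eq_of_mul_eq_one_right ?_
        rw [← mul_assoc, hj2, E.y_sq]
      have e := (hinvh l).2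
      rw [← hj, hjinv] at e
      have e2 : j * a * j⁻¹ = a * E.y := by
        calc j * a * j⁻¹ = a⁻¹ * (a * j * a⁻¹) * (a * a) * j⁻¹ := by group
          _ = a⁻¹ * (j * E.y) * j⁻¹ := by rw [e, ha2, mul_one]
          _ = a * E.y := by rw [inv_eq_of_mul_eq_one_right ha2, hjy, mul_assoc, mul_inv_cancel_right]
      have hT2 : E.toCtx.IsT (a * E.y) := e2 ▸ hT.conj' j
      obtain ⟨g, hg⟩ := hT
      obtain ⟨b, hb⟩ := E.toCtx.exists_pre (g := g * E.y * g⁻¹) (by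
        calc g * E.y * g⁻¹ * E.toCtx.t = g * (E.y * (g⁻¹ * E.toCtx.t * g)) * g⁻¹ := by group
          _ = g * (a * E.y) * g⁻¹ := by rw [hg, hay]
          _ = E.toCtx.t * (g * E.y * g⁻¹) := by rw [← hg]; group)
      have hbT : ¬E.toCtx.IsT (E.φ b) := fun h' => E.y_notT (by
        have := h'.conj g
        rw [hb] at this
        simpa [mul_assoc] using this)
      have hzb : E.toCtx.IsT (E.φ (zP * b)) := by
        rw [map_mul, hb]
        change E.toCtx.IsT (E.toCtx.t * _)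
        have := hT2.conj' g
        rwa [show g * (a * E.y) * g⁻¹ = E.toCtx.t * (g * E.y * g⁻¹) by rw [← hg]; group] at this
      have hp := (E.toCtx.isT_iff_pure E.hx).1 hzb
      by_cases hz1 : zP * b = zP
      · exact hbT (by
          rw [mul_left_cancel (a := zP) (b := b) (c := 1) (by rw [hz1, mul_one]), map_one]
          exfalso
          have hb1 : b = 1 := mul_left_cancel (a := zP) (by rw [hz1, mul_one])
          rw [hb1, map_one] at hb
          refine y7_ne (E.inj ?_)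
          rw [map_one]
          exact conj_eq_one_iff.1 hb.symm)
      · refine hbT (E.toCtx.pure_isT E.hx ?_)
        have := pure_z_mul hp hz1
        rwa [← mul_assoc, zP_sq, one_mul] at this
    · refine huyT ?_
      have hye : h * E.y = E.u * (a * E.y) := by rw [hh, mul_assoc]
      have hay2 : a * E.y * (a * E.y) = 1 := by
        rw [mul_assoc, ← mul_assoc E.y, ← hay, mul_assoc a E.y E.y, E.y_sq, mul_one, ha2]
      have hodd : (E.u * (a * E.y)) ^ (2 * l + 1) = 1 := by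
        rw [← hye, ← hl, Commute.mul_pow (show Commute h E.y from hhy), ← hi, hiy]
        rw [hl, pow_succ, pow_mul, sq, E.y_sq, one_pow, one_mul, E.y_sq]
      have e := conj_of_odd E.u_sq hay2 hodd
      have hcy : Commute ((E.u * (a * E.y)) ^ l) E.y := by
        refine Commute.pow_left ?_ l
        rw [← hye]
        show h * E.y * E.y = E.y * (h * E.y)
        rw [hhy, mul_assoc, hhy]
      have e2 : (E.u * (a * E.y)) ^ l * (E.u * E.y) * ((E.u * (a * E.y)) ^ l)⁻¹ = a := by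
        generalize (E.u * (a * E.y)) ^ l = p at e hcy
        calc p * (E.u * E.y) * p⁻¹ = p * E.u * p⁻¹ * (p * E.y * p⁻¹) := by group
          _ = a * E.y * E.y := by rw [e, hcy.eq, mul_inv_cancel_right]
          _ = a := by rw [mul_assoc, E.y_sq, mul_one]
      rw [← e2] at hT
      have := hT.conj ((E.u * (a * E.y)) ^ l)
      simpa [mul_assoc] using this
  have hiy' : i * E.y = E.y * i := (Commute.pow_left (show Commute h E.y from hhy) m).eq
  have hiu' : i⁻¹ * E.u * i = E.u := by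
    rw [mul_inv_eq_iff_eq_mul] at hiu
    rw [mul_assoc, hiu, inv_mul_cancel_left]
  have hiM : i ∈ E.M := E.Cu_le ⟨hiy', Or.inl hiu'⟩
  have hai : a * i = i * a := mul_inv_eq_iff_eq_mul.1 hia
  by_cases hiT : E.toCtx.IsT i
  · exact E.cent_T_le hiM hiT hai
  by_cases hiyT : E.toCtx.IsT (i * E.y)
  · exact E.cent_T_le (mul_mem hiM (E.phi_mem y7)) hiyT (by
      change a * (i * E.y) = i * E.y * a
      rw [← mul_assoc, hai, mul_assoc, hay, mul_assoc])
  obtain ⟨m', hm', hmy, hmi⟩ := E.utype_conj hiM hiy' hi2 hi1 hiy hiT hiyT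
  have hmem : m' * a * m'⁻¹ ∈ E.Cu := by
    refine ⟨?_, ?_⟩
    · conv_lhs => rw [← hmy]
      conv_rhs => rw [← hmy]
      calc m' * a * m'⁻¹ * (m' * E.y * m'⁻¹) = m' * (a * E.y) * m'⁻¹ := by group
        _ = m' * (E.y * a) * m'⁻¹ := by rw [hay]
        _ = _ := by group
    · have key : (m' * a * m'⁻¹)⁻¹ * (m' * i * m'⁻¹) * (m' * a * m'⁻¹) = m' * i * m'⁻¹ := by
        calc (m' * a * m'⁻¹)⁻¹ * (m' * i * m'⁻¹) * (m' * a * m'⁻¹) = m' * (a⁻¹ * (i * a)) * m'⁻¹ := by group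
          _ = m' * i * m'⁻¹ := by rw [← hai, inv_mul_cancel_left]
      rcases hmi with hmi | hmi <;> rw [hmi] at key
      · exact Or.inl key
      · left
        have hy' : (m' * a * m'⁻¹)⁻¹ * E.y * (m' * a * m'⁻¹) = E.y := by
          conv_lhs => rw [← hmy]
          calc (m' * a * m'⁻¹)⁻¹ * (m' * E.y * m'⁻¹) * (m' * a * m'⁻¹) = m' * (a⁻¹ * (E.y * a)) * m'⁻¹ := by group
            _ = m' * E.y * m'⁻¹ := by rw [← hay, inv_mul_cancel_left]
            _ = E.y := hmy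
        generalize (m' * a * m'⁻¹) = p at key hy'
        refine mul_right_cancel (b := E.y) ?_
        conv_lhs => arg 2; rw [← hy']
        conv_rhs => rw [← key]
        group
  have := mul_mem (mul_mem (inv_mem hm') (E.Cu_le hmem)) hm'
  simpa [mul_assoc] using this

/-- the centraliser of the second involution is in the image -/
theorem cent_y_le {g : G} (hg : g * E.y = E.y * g) : g ∈ E.M := by
  set a := g⁻¹ * E.toCtx.t * g with ha
  have hT : E.toCtx.IsT a := ⟨g, rfl⟩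
  have hgy : g⁻¹ * E.y = E.y * g⁻¹ := by rw [eq_mul_inv_iff_mul_eq, mul_assoc, ← hg, inv_mul_cancel_left]
  have hay : a * E.y = E.y * a := by
    calc a * E.y = g⁻¹ * E.toCtx.t * (g * E.y) := by rw [ha]; group
      _ = g⁻¹ * (E.toCtx.t * E.y) * g := by rw [hg]; group
      _ = g⁻¹ * (E.y * E.toCtx.t) * g := by rw [y, E.toCtx.comm_t]
      _ = g⁻¹ * E.y * (E.toCtx.t * g) := by group
      _ = E.y * a := by rw [hgy, ha]; group
  have haM := E.T_cent_y hT hay
  obtain ⟨m1, hm1, e1⟩ := E.T_conj haM hT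
  obtain ⟨b, hb⟩ := E.toCtx.exists_pre (g := m1 * E.y * m1⁻¹) (by
    calc m1 * E.y * m1⁻¹ * E.toCtx.t = m1 * (E.y * (m1⁻¹ * E.toCtx.t * m1)) * m1⁻¹ := by group
      _ = m1 * (a * E.y) * m1⁻¹ := by rw [e1, hay]
      _ = E.toCtx.t * (m1 * E.y * m1⁻¹) := by rw [← e1]; group)
  have hb2 : b * b = 1 := E.inj (by
    rw [map_mul, hb, map_one, show m1 * E.y * m1⁻¹ * (m1 * E.y * m1⁻¹) = m1 * (E.y * E.y) * m1⁻¹ by group, E.y_sq]
    group)
  have hb1 : b ≠ 1 := fun h => y7_ne (E.inj (by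
    rw [map_one]
    exact conj_eq_one_iff.1 (show m1 * E.φ y7 * m1⁻¹ = 1 by rw [← y, ← hb, h, map_one])))
  rcases invol_cases hb2 hb1 with hp | ⟨c, hc⟩
  · refine absurd ?_ E.y_notT
    have := (E.toCtx.pure_isT E.hx hp).conj m1
    rw [hb] at this
    simpa [mul_assoc] using this
  have hm : E.φ c * m1 ∈ E.M := mul_mem (E.phi_mem c) hm1
  have ht : (E.φ c * m1)⁻¹ * E.toCtx.t * (E.φ c * m1) = a := by
    calc (E.φ c * m1)⁻¹ * E.toCtx.t * (E.φ c * m1) = m1⁻¹ * ((E.φ c)⁻¹ * (E.toCtx.t * E.φ c)) * m1 := by group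
      _ = a := by rw [← E.toCtx.comm_t, inv_mul_cancel_left, e1]
  have h : g * (E.φ c * m1)⁻¹ ∈ E.M := E.cent_le (by
    generalize E.φ c * m1 = m at ht
    calc g * m⁻¹ * E.toCtx.t = g * (m⁻¹ * E.toCtx.t * m) * m⁻¹ := by group
      _ = E.toCtx.t * (g * m⁻¹) := by rw [ht, ha]; group)
  have h2 := mul_mem h hm
  rwa [inv_mul_cancel_right] at h2

/-- the image is everything -/
theorem M_eq_top : E.M = ⊤ := by
  have hcent : ∀ i ∈ E.M, i * i = 1 → i ≠ 1 → ∀ a, a * i = i * a → a ∈ E.M := by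
    intro i hi h2 h1 a ha
    by_cases hT : E.toCtx.IsT i
    · exact E.cent_T_le hi hT ha
    · obtain ⟨m, hm, e⟩ := E.Y_conj hi h2 h1 hT
      have h := E.cent_y_le (g := m * a * m⁻¹) (by
        conv_lhs => rw [← e]
        conv_rhs => rw [← e]
        calc m * a * m⁻¹ * (m * i * m⁻¹) = m * (a * i) * m⁻¹ := by group
          _ = m * i * m⁻¹ * (m * a * m⁻¹) := by rw [ha]; group)
      have := mul_mem (mul_mem (inv_mem hm) h) hm
      simpa [mul_assoc] using this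
  have hall : ∀ a, E.toCtx.IsT a → a ∈ E.M := by
    intro a hT
    obtain ⟨ha2, -⟩ := E.toCtx.isT_sq hT
    obtain ⟨n, hn⟩ : ∃ n, orderOf (E.y * a) = n := ⟨_, rfl⟩
    have hpow : (E.y * a) ^ n = 1 := hn ▸ pow_orderOf_eq_one _
    rcases Nat.even_or_odd n with ⟨m, hm⟩ | ⟨m, hm⟩
    swap
    · rw [hm] at hpow
      refine absurd ?_ E.y_notT
      have e := conj_of_odd E.y_sq ha2 hpow
      rw [← e] at hT
      have := hT.conj ((E.y * a) ^ m)
      simpa [mul_assoc] using this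
    have := orderOf_pos (E.y * a)
    set i := (E.y * a) ^ m with hi
    have hi2 : i * i = 1 := by rw [hi, ← pow_add, ← hm, hpow]
    have hi1 : i ≠ 1 := pow_ne_one_of_lt_orderOf (by omega) (by omega)
    have e1 : E.y * (E.y * a) * E.y⁻¹ = (E.y * a)⁻¹ := by
      rw [mul_inv_rev, inv_eq_of_mul_eq_one_right ha2, ← mul_assoc, E.y_sq, one_mul]
    have e2 : a * (E.y * a) * a⁻¹ = (E.y * a)⁻¹ := by
      rw [mul_inv_rev, inv_eq_of_mul_eq_one_right ha2, inv_eq_of_mul_eq_one_right E.y_sq, mul_assoc, mul_assoc,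
        ha2, mul_one]
    have hiy : E.y * i * E.y⁻¹ = i := by
      rw [hi, ← conj_pow, e1, inv_pow, ← hi, inv_eq_of_mul_eq_one_right hi2]
    have hia : a * i * a⁻¹ = i := by
      rw [hi, ← conj_pow, e2, inv_pow, ← hi, inv_eq_of_mul_eq_one_right hi2]
    have hiM : i ∈ E.M := E.cent_y_le (mul_inv_eq_iff_eq_mul.1 hiy).symm
    exact hcent i hiM hi2 hi1 a (mul_inv_eq_iff_eq_mul.1 hia)
  rw [eq_top_iff]
  intro g _
  obtain ⟨m, hm, e⟩ := E.T_conj (hall _ ⟨g, rfl⟩) ⟨g, rfl⟩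
  have h : g * m⁻¹ ∈ E.M := E.cent_le (by
    calc g * m⁻¹ * E.toCtx.t = g * (m⁻¹ * E.toCtx.t * m) * m⁻¹ := by group
      _ = E.toCtx.t * (g * m⁻¹) := by rw [e]; group)
  simpa using mul_mem h hm

end Emb

/-- A group with this centraliser of an involution is the third Conway group. -/
theorem iso_co3 {G : Type*} [Group G] [Finite G] (hO : Cfsg.oddCore G = ⊥) (hZ : Subgroup.center G = ⊥)
    (t : G) (ht : orderOf t = 2)
    (hC : Cfsg.IsNonsplitDoubleCover (Subgroup.centralizer ({t} : Set G))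
      (Matrix.symplecticGroup (Fin 3) (ZMod 2))) : Cfsg.Spor.IsoCo3 G := by
  obtain ⟨e, he⟩ := exists_iso hC
  have htc : t ∈ Subgroup.centralizer ({t} : Set G) := Subgroup.mem_centralizer_singleton_iff.2 rfl
  have hez : e zP = ⟨t, htc⟩ := he _ (by
    rw [Subgroup.mem_center_iff]
    intro g
    exact Subtype.ext (Subgroup.mem_centralizer_singleton_iff.1 g.2)) (fun h => by
      have h1 : t = 1 := congrArg Subtype.val h
      rw [h1, orderOf_one] at ht
      norm_num at ht)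
  let K : Ctx G :=
    { φ := (Subgroup.centralizer ({t} : Set G)).subtype.comp e.toMonoidHom
      inj := Subtype.val_injective.comp e.injective
      cent := fun g => by
        show g * (e zP : G) = (e zP : G) * g ↔ _
        rw [hez]
        constructor
        · intro h
          exact ⟨e.symm ⟨g, Subgroup.mem_centralizer_singleton_iff.2 h⟩, by simp⟩
        · rintro ⟨a, rfl⟩
          exact Subgroup.mem_centralizer_singleton_iff.1 (e a).2 }
  obtain ⟨E⟩ := exists_emb K (K.x_isT hO hZ)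
  have hb : Function.Bijective E.f := ⟨E.f_inj, MonoidHom.range_eq_top.1 E.M_eq_top⟩
  obtain ⟨i⟩ := Cfsg.Agent.S2071.exists_equiv
  exact ⟨(MulEquiv.ofBijective E.f hb).symm.trans i⟩

end CfsgLib.CoThreeUniq
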