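import Cfsg.Agent.Lib.CoThreeUniq.DataTab

/-!
The maps of the stabiliser of a point induced by an element exchanging two involutions.
-/

set_option autoImplicit false
set_option linter.style.longLine false

namespace CfsgLib.CoThreeUniq
open CfsgLib.CosetEnum CfsgLib.TwistCoset

/-- points commuting with the point zero inside pure elementary groups -/
def vPts : List ℕ := [2,3,4,5,6,7,8,9,10,11,12,13,14,15,16,17,18,19,20,21,22,23,24,27,28,29,32,33,38,39,40,43,46,51,63,64]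

/-- their three groups -/
def triPts : List (List ℕ) := [[2,3,4,5,6,7,9,10,12,13,15,16], [8,11,14,17,18,19,23,24,27,29,32,33], [20,21,22,28,38,39,40,43,46,51,63,64]]

/-- elements moving the three groups to the first -/
noncomputable def kjW : List (List ℕ) := [[], [9,6], [6,9]]

/-- elements normalising the elementary group, by two images -/
noncomputable def tab96 : List (List ℕ) := [[],
  [],
  [],
  [],
  [],
  [],
  [],
  [],
  [],
  [],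
  [],
  [],
  [],
  [],
  [],
  [],
  [],
  [],
  [],
  [],
  [],
  [],
  [],
  [],
  [],
  [],
  [],
  [],
  [],
  [],
  [],
  [],
  [],
  [],
  [],
  [],
  [],
  [],
  [],
  [],
  [],
  [],
  [],
  [],
  [],
  [],
  [],
  [],
  [],
  [],
  [],
  [],
  [],
  [],
  [],
  [],
  [],
  [],
  [],
  [],
  [],
  [],
  [],
  [],
  [],
  [],
  [],
  [],
  [],
  [],
  [],
  [],
  [],
  [1,2],
  [2,4,3,4],
  [0,4,1,4],
  [4,0],
  [3,5],
  [0,2,4,1],
  [0,0,4,1],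
  [],
  [],
  [],
  [],
  [],
  [],
  [],
  [],
  [0,3],
  [6,0,6,3],
  [0,4,3,4],
  [2,4,1,4],
  [0,2,2,5],
  [0,0,2,5],
  [0,2,4,3],
  [0,0,4,3],
  [],
  [],
  [],
  [],
  [],
  [],
  [],
  [],
  [3,4,3,4],
  [4,0,2,5],
  [2,2],
  [1,3],
  [0,5,0,3],
  [2,5],
  [0,3,4,1],
  [4,3],
  [],
  [],
  [],
  [],
  [],
  [],
  [],
  [],
  [8,0,8],
  [3,5,0,5],
  [0,2],
  [0,0],
  [0,5],
  [0,0,3,5],
  [0,3,4,3],
  [4,1],
  [],
  [],
  [],
  [],
  [4,1,4],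
  [2,8,0,8],
  [0,0,2],
  [1],
  [],
  [],
  [],
  [],
  [0,4,1],
  [2,4,1],
  [1,3,5],
  [0,0,5],
  [],
  [],
  [],
  [],
  [8,0,8,3],
  [4,3,4],
  [0,2,2],
  [3],
  [],
  [],
  [],
  [],
  [0,4,3],
  [2,4,3],
  [0,2,5],
  [2,2,5],
  [],
  [],
  [],
  [],
  [0,0,3],
  [1,3,3],
  [7,2,2,8],
  [3,8,0,8],
  [],
  [],
  [],
  [],
  [1,4,3],
  [3,4,1],
  [1,2,5],
  [5,0,3],
  [],
  [],
  [],
  [],
  [0],
  [2],
  [8,0,8,2],
  [1,7,1,7],
  [],
  [],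
  [],
  [],
  [1,4,1],
  [3,4,3],
  [0,3,5],
  [5],
  [],
  [],
  [],
  [],
  [0,0,4],
  [2,2,4],
  [4,1,2],
  [4],
  [0,0,5,0],
  [0,0,5,2],
  [5,2],
  [5,0],
  [],
  [],
  [],
  [],
  [],
  [],
  [],
  [],
  [0,2,4],
  [1,3,4],
  [0,3,4],
  [3,5,1],
  [0,2,5,2],
  [0,2,5,0],
  [0,3,5,2],
  [0,3,5,0],
  [],
  [],
  [],
  [],
  [],
  [],
  [],
  [],
  [3,5,0],
  [3,5,2],
  [2,5,0],
  [2,5,2],
  [2,4],
  [0,0,3,4],
  [3,4],
  [0,0,2,4],
  [],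
  [],
  [],
  [],
  [],
  [],
  [],
  [],
  [4,0,0],
  [4,0,2],
  [0,5,2],
  [0,5,0],
  [0,4],
  [0,4,1,2],
  [0,2,2,4],
  [1,4],
  [],
  [],
  [],
  []]

/-- images of the first three generators -/
noncomputable def im0 : List (List ℕ) := [[0,3,6,1,0,2,3], [1,0,2,4,2], [0,0,6,4,2,4]]

/-- images of the last generator up to the elementary group -/
noncomputable def wks : List (List ℕ) := [[0,2,3,4,6], [0,3,6,4,6], [0,2,3,4,6], [0,3,6,4,6], [0,3,6,4,6], [0,2,3,4,6], [0,3,6,4,6], [0,2,3,4,6], [5,3,6,4,6], [5,2,3,4,6], [5,2,3,4,6], [5,3,6,4,6], [5,2,3,4,6], [5,3,6,4,6], [5,3,6,4,6], [5,2,3,4,6]]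

/-- corrections of the first three images -/
def thEs : List ℕ := [0,2080,51,2067,2050,34,2097,17,4063,2047,2013,4093,1996,4076,4046,2030]

/-- corrections of the last image -/
def thPs : List ℕ := [14,5,13,6,7,12,4,15,15,7,5,13,4,12,14,6]

/-- the images of the generators -/
noncomputable def thV : List (List (List ℕ)) := [[[0,3,6,1,0,2,3], [1,0,2,4,2], [0,0,6,4,2,4], [0,0,5,3,1]],
  [[0,3,6,1,0,2,3], [2,4,2,0,1], [0,2,3,6,3,5], [4,6,3,6,1]],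
  [[0,2,3,1,0,3,6], [4,3,2,3,2], [0,0,6,4,2,4], [0,2,3,1,6]],
  [[0,2,3,1,0,3,6], [4,6,3,6,3], [0,2,3,6,3,5], [0,0,0,6,3,6,1]],
  [[2,4,6,4,2,0], [1,0,2,4,2], [0,2,3,6,3,5], [0,1,1,3,4,1,1]],
  [[2,4,6,4,2,0], [2,4,2,0,1], [0,0,6,4,2,4], [3,1,3,1,1]],
  [[0,2,4,6,4,2], [4,3,2,3,2], [0,2,3,6,3,5], [4,2,3,6,0,2]],
  [[0,2,4,6,4,2], [4,6,3,6,3], [0,0,6,4,2,4], [3,4,2,3,2]],
  [[0,1,1,1,1], [3,0,1,3,4], [0,0,0,6,4], [1,3,5]],
  [[0,1,1,1,1], [1,2,4,2,4], [2], [2,3,1,2,3,6]],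
  [[0], [3,0,1,3,4], [2], [0,3,0]],
  [[0], [1,2,4,2,4], [0,0,0,6,4], [1,3,1,1,1]],
  [[1,0,0,0,5,5,5], [1,0,6,0,6], [2], [0,0,5,3,2,0,2]],
  [[1,0,0,0,5,5,5], [0,0,2,0,1,1,2], [0,0,0,6,4], [1,2,3,0,6]],
  [[4,4,4], [1,0,6,0,6], [0,0,0,6,4], [2,1,3,6,0]],
  [[4,4,4], [0,0,2,0,1,1,2], [2], [0,0,0,3,4]]]

/-- relations of the first three generators -/
noncomputable def selR : List (List ℕ) := [[2,1,6,6,1], [4,5,4,5], [1,4,1,4], [0,0,0,1,2,4,6,1,4,5,2]]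

/-- relations of the four generators -/
noncomputable def selR2 : List (List ℕ) := [[2,3,4,3,5,7,2,4]]

/-- corrections to the two representatives -/
def adjs : List ℕ := [256,256,256,256,64,80,92,76,256,256,88,72,256,256,84,68]

/-- an element making a product of order three -/
noncomputable def ksW : List ℕ := [0,8,2,4,8]

/-- conjugates of a basis by the last generator -/
noncomputable def ycW : List (List ℕ) := [[0,0,0,0,1,1,1,1], [1,1,1,1], [4,1,1,1], [2,1,0,6]]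

end CfsgLib.CoThreeUniq
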