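import Cfsg.Agent.Lib.CoThreeUniq.CentY
import Cfsg.Agent.Lib.CoThreeUniq.DataSwap

/-!
Kernel checks about the maps induced on the stabiliser of point zero.
-/

set_option autoImplicit false
set_option Elab.async false
set_option maxRecDepth 20000

namespace CfsgLib.CoThreeUniq

open CfsgLib.CosetEnum CfsgLib.TwistCoset

/-- exchange of the first two coordinates -/
def rr (a : ℕ) : ℕ :=
  (if a.testBit 0 then 2 else 0) ^^^ (if a.testBit 1 then 1 else 0) ^^^
    (if a.testBit 2 then 4 else 0) ^^^ (if a.testBit 3 then 8 else 0)

theorem rr_facts : ∀ a < 16, rr a < 16 ∧ rr (rr a) = a ∧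
    (a = 0 ∨ rr a ≠ 0) ∧ ∀ b < 16, rr (a ^^^ b) = rr a ^^^ rr b := by decide +kernel

/-- a point of a pure group with point zero -/
noncomputable def vAt (p : ℕ) : Bool :=
  memK p vPts || Nat.beq p 0 || Nat.beq p xzP || !Nat.beq (tC.run p xw) p || !pureB (cw p ++ xw) ||
    !pureB (cw p ++ (zw ++ xw))

theorem v_ok : (List.range 630).all vAt = true ∧ same (cw xzP) (eW 3) = true ∧ vPts.all (fun p => Nat.blt p 630) = true := by
  refine ⟨?_, ?_, ?_⟩ <;> decide +kernel

/-- two points of one of the three groups -/
noncomputable def pairAt (p q : ℕ) : Bool :=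
  triPts.any (fun s => memK p s && memK q s) || !Nat.beq (tC.run q (cw p)) q || !pureB (cw p ++ cw q) ||
    !pureB (cw p ++ (cw q ++ zw)) || !pureB (cw p ++ (cw q ++ xw)) || !pureB (cw p ++ (cw q ++ (zw ++ xw))) ||
    (List.range 4).any fun i => same (cw q) (cw p ++ eW i)

theorem pair_ok : (vPts.all fun p => vPts.all fun q => pairAt p q) = true := by decide +kernel

/-- the three groups are moved to the first -/
noncomputable def kjOK : Bool :=
  (List.range triPts.length).all fun s =>
    ok (nthWord kjW s) && Nat.beq (tC.run 0 (nthWord kjW s)) 0 &&
    ((triPts.getD s []).all fun p => (List.range 16).any fun a =>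
      same (iw (nthWord kjW s) ++ (cw p ++ nthWord kjW s)) (eW a))

theorem kj_ok : kjOK = true := by decide +kernel

/-- a word conjugating one element of the elementary group to another -/
noncomputable def cjE (w : List ℕ) (a b : ℕ) : Bool := same (iw w ++ (eW a ++ w)) (eW b)

/-- the check of a pair of images -/
noncomputable def tabAt (i2 i3 : ℕ) : Bool :=
  Nat.blt i2 4 || Nat.blt i3 4 || (List.range 4).any (fun k => Nat.beq i3 (i2 ^^^ k)) ||
    (ok (nthWord tab96 (16 * i2 + i3)) && Nat.beq (tC.run 0 (nthWord tab96 (16 * i2 + i3))) 0 &&
      cjE (nthWord tab96 (16 * i2 + i3)) i2 4 && cjE (nthWord tab96 (16 * i2 + i3)) i3 8)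

theorem tab_ok : ((List.range 16).all fun i2 => (List.range 16).all fun i3 => tabAt i2 i3) = true := by
  decide +kernel

/-- the first three generators normalise the elementary group as their images do -/
noncomputable def imAt (j : ℕ) : Bool :=
  [1, 4, 8].all (fun b => (List.range 16).any fun a =>
      cjE (glW j) a b && cjE (gWord (nthWord im0 j)) (rr a) (rr b))

theorem im_ok : (List.range 3).all imAt = true := by decide +kernel

/-- the correction of an image -/
noncomputable def thE (t j : ℕ) : ℕ := nth thEs t 0 / 16 ^ j % 16

/-- an image with a correction -/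
noncomputable def imW (j e : ℕ) : List ℕ := gWord (nthWord im0 j) ++ eW e

/-- the value of a product of generators under images given by words -/
noncomputable def subW (f : ℕ → List ℕ) (l : List ℕ) : List ℕ :=
  l.flatMap fun j => if j < 4 then f j else iw (f (j - 4))

/-- three corrections -/
def pick3 (a b c j : ℕ) : ℕ := [a, b, c].getD j 0

/-- relations of the first three generators leave the listed corrections -/
noncomputable def selAt (a b : ℕ) : Bool :=
  pick (band (same (subW (fun j => imW j (pick3 a b 0 j)) (nthWord selR 1)) [])
      (same (subW (fun j => imW j (pick3 a b 0 j)) (nthWord selR 2)) []))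
    ((List.range 16).all fun c => pick (band (same (subW (fun j => imW j (pick3 a b c j)) (nthWord selR 0)) [])
      (same (subW (fun j => imW j (pick3 a b c j)) (nthWord selR 3)) [])) (memK (a + 16 * b + 256 * c) thEs) true) true

theorem sel_ok : ((List.range 16).all fun a => (List.range 16).all fun b => selAt a b) = true ∧
    selR.all (fun r => same (gWord r) [] && r.all fun j => Bool.or (Nat.blt j 3) (Nat.blt 3 j && Nat.blt j 7)) = true := by
  refine ⟨?_, ?_⟩ <;> decide +kernel

/-- the image of a generator in a case -/
noncomputable def thW (t j : ℕ) : List ℕ := nthWord (thV.getD t []) j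

/-- the images are the corrected ones -/
noncomputable def lastAt (t : ℕ) : Bool :=
  (List.range 4).all fun j => pick (ltB j 3)
    (same (gWord (thW t j)) (imW j (thE t j)))
    (same (gWord (thW t j)) (eW (nth thPs t 0) ++ gWord (nthWord wks t)))

theorem last_ok : (List.range 16).all lastAt = true := by decide +kernel

/-- conjugates of the elementary group by the last generator are in the group of the first three -/
noncomputable def yConjAt (b : ℕ) (l : List ℕ) : Bool :=
  same (iw (glW 3) ++ (eW b ++ glW 3)) (gWord l) &&
    l.all (fun j => Bool.or (Nat.blt j 3) (Nat.blt 3 j && Nat.blt j 7)) &&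
    (List.range 16).all fun t => same (iw (gWord (nthWord wks t)) ++ (eW (rr b) ++ gWord (nthWord wks t)))
      (subW (fun j => imW j (thE t j)) l)

theorem yconj_ok : ((List.range 4).all fun i => yConjAt (2 ^ i) (nthWord ycW i)) = true := by decide +kernel

/-- the relations of the four generators leave one correction in each case -/
noncomputable def sel2At (t p : ℕ) : Bool :=
  Nat.beq p (nth thPs t 0) ||
    !selR2.all fun r => same (subW (fun j => if j < 3 then imW j (thE t j) else eW p ++ gWord (nthWord wks t)) r) []

theorem sel2_ok : ((List.range 16).all fun t => (List.range 16).all fun p => sel2At t p) = true ∧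
    selR2.all (fun r => same (gWord r) [] && r.all fun j => Nat.blt j 8) = true := by
  refine ⟨?_, ?_⟩ <;> decide +kernel

/-- the square of the element exchanging, in each case -/
noncomputable def sqAt (t e : ℕ) : Bool :=
  !Nat.beq (rr e) e || (Nat.blt (nth adjs t 256) 256 && (Nat.beq e 0 || Nat.beq e 3)) ||
    !(List.range 4).all fun j => same (subW (fun i => gWord (thW t i)) (thW t j))
      (eW e ++ (glW j ++ eW e))

theorem sq_ok : ((List.range 16).all fun t => (List.range 16).all fun e => sqAt t e) = true := by
  decide +kernel

/-- the corrections to the two representatives -/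
noncomputable def adjAt (t : ℕ) : Bool :=
  strict (nth adjs t 256) fun q => Nat.ble 256 q ||
    ((Nat.beq (q / 16) 4 || Nat.beq (q / 16) 5) && (List.range 4).all fun j =>
      same (eW (q % 16) ++ (gWord (thW t j) ++ eW (q % 16))) (gWord (thW (q / 16) j)))

theorem adj_ok : (List.range 16).all adjAt = true := by decide +kernel

/-- the fixed elements of the product with the exchanging element -/
noncomputable def ksOK : Bool :=
  ok ksW && (List.range 16).all fun a => (List.range 16).any fun b =>
    cjE ksW (rr a) b &&
      (List.range 16).any fun c => cjE ksW (rr b) c &&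
        (List.range 16).any fun d => cjE ksW (rr c) d && Nat.beq d a &&
          (!Nat.beq b a || memK a [0, 7, 8, 15])

theorem ks_ok : ksOK = true := by decide +kernel

end CfsgLib.CoThreeUniq
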