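import Cfsg.Agent.Lib.CoThreeUniq.DataTab

/-!
Generators of the stabiliser of a point, and the elementary group of order sixteen.
-/

set_option autoImplicit false
set_option linter.style.longLine false

namespace CfsgLib.CoThreeUniq
open CfsgLib.CosetEnum CfsgLib.TwistCoset

/-- generators of the stabiliser of point zero -/
noncomputable def glWs : List (List ℕ) := [[0], [2], [4], [1,5,6,10,5]]

/-- the generators of the chain of the stabiliser as products, a number past three being an inverse -/
noncomputable def xchWit : List (List ℕ) := [[0], [2], [1,6], [1,0], [2,0,3,2,0], [5,5], [3,1,0], [1,0,3,5,5]]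

/-- the points of the elementary group -/
def ePts : List ℕ := [12,16]

end CfsgLib.CoThreeUniq
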