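import Cfsg.Agent.Lib.CoThreeUniq.Invol
import Cfsg.Agent.Lib.CoThreeUniq.DataX

/-!
The stabiliser of point zero, its generators, and the elementary group of order sixteen in it.
-/

set_option autoImplicit false
set_option Elab.async false
set_option maxRecDepth 20000

namespace CfsgLib.CoThreeUniq

open CfsgLib.CosetEnum CfsgLib.TwistCoset

/-- the stabiliser of point zero -/
noncomputable def Xs : Subgroup P where
  carrier := {a | img a 0 = 0}
  mul_mem' {a b} ha hb := by
    show img (a * b) 0 = 0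
    rw [img_mul _ _ (by norm_num), show img a 0 = 0 from ha, show img b 0 = 0 from hb]
  one_mem' := img_one 0
  inv_mem' {a} ha := by
    show img a⁻¹ 0 = 0
    conv_lhs => rw [← show img a 0 = 0 from ha, ← img_mul _ _ (show 0 < 934 by norm_num), mul_inv_cancel]
    exact img_one 0

theorem mem_Xs {a : P} : a ∈ Xs ↔ img a 0 = 0 := Iff.rfl

theorem mem_Xs_iff {a : P} : a ∈ Xs ↔ a * cls 0 = cls 0 * a :=
  (commute_cls_iff a (by norm_num)).symm

theorem trans_ok : (List.range 630).all (fun p => ok (trw p) && Nat.beq (tC.run 0 (trw p)) p) = true := by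
  decide +kernel

theorem trw_spec {p : ℕ} (hp : p < 630) : img (pw (trw p)) 0 = p := by
  have h := List.all_eq_true.mp trans_ok p (List.mem_range.mpr hp)
  simp only [Bool.and_eq_true] at h
  rw [img_pw h.1 (by norm_num)]
  exact Nat.eq_of_beq_eq_true h.2

/-- every point is a conjugate of the first -/
theorem cls_conj_zero {p : ℕ} (hp : p < 630) : (pw (trw p))⁻¹ * cls 0 * pw (trw p) = cls p := by
  rw [cls_conj _ (by norm_num), trw_spec hp]

theorem card_Xs : Nat.card Xs = 4608 := by
  let f : Fin 630 × Xs → P := fun q => q.2.1 * pw (trw q.1)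
  have hf : Function.Bijective f := by
    refine ⟨fun q r h => ?_, fun a => ?_⟩
    · have e : ∀ q : Fin 630 × Xs, img (f q) 0 = q.1 := fun q => by
        rw [img_mul _ _ (by norm_num), show img q.2.1 0 = 0 from q.2.2, trw_spec q.1.2]
      have h1 : q.1 = r.1 := Fin.ext (by rw [← e q, h, e r])
      refine Prod.ext h1 (Subtype.ext ?_)
      simp only [f, h1] at h
      exact mul_right_cancel h
    · have hp : img a 0 < 630 := img_block a (by norm_num)
      refine ⟨(⟨_, hp⟩, ⟨a * (pw (trw (img a 0)))⁻¹, ?_⟩), by simp [f]⟩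
      rw [mem_Xs_iff]
      have e := cls_conj_zero hp
      rw [← cls_conj a (p := 0) (by norm_num)] at e
      generalize pw (trw (img a 0)) = b at e ⊢
      calc a * b⁻¹ * cls 0 = a * (b⁻¹ * cls 0 * b) * b⁻¹ := by group
        _ = cls 0 * (a * b⁻¹) := by rw [e]; group
  have h := Nat.card_eq_of_bijective f hf
  rw [Nat.card_prod, Nat.card_fin, card_P] at h
  omega

/-- the word of a generator -/
noncomputable def glW (j : ℕ) : List ℕ := nthWord glWs j

/-- a generator -/
noncomputable def gl (j : ℕ) : P := pw (glW j)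

/-- a product of generators, a number past three being an inverse -/
noncomputable def gWord (l : List ℕ) : List ℕ := l.flatMap fun j => if j < 4 then glW j else iw (glW (j - 4))

theorem gl_facts : glWs.length = 4 ∧ glWs.all (fun w => ok w && Nat.beq (tC.run 0 w) 0) = true ∧
    ((xchChain.map CLev.gens).flatten.length = xchWit.length) ∧
    (((xchChain.map CLev.gens).flatten.zip xchWit).all fun e => same e.1 (gWord e.2)) = true := by
  refine ⟨rfl, ?_, ?_, ?_⟩ <;> decide +kernel

theorem ok_glW (j : ℕ) : ok (glW j) = true := by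
  rw [glW, nthWord_eq]
  by_cases h : j < glWs.length
  · rw [List.getD_eq_getElem _ _ h]
    have := List.all_eq_true.mp gl_facts.2.1 _ (List.getElem_mem h)
    simp only [Bool.and_eq_true] at this
    exact this.1
  · rw [List.getD_eq_default _ _ (Nat.le_of_not_lt h)]
    rfl

theorem gl_big {j : ℕ} (h : 4 ≤ j) : gl j = 1 := by
  rw [gl, glW, nthWord_eq, List.getD_eq_default _ _ (gl_facts.1.symm ▸ h), pw_nil]

theorem gl_mem (j : ℕ) : gl j ∈ Xs := by
  rw [mem_Xs, gl, img_pw (ok_glW j) (by norm_num), glW, nthWord_eq]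
  by_cases h : j < glWs.length
  · rw [List.getD_eq_getElem _ _ h]
    have := List.all_eq_true.mp gl_facts.2.1 _ (List.getElem_mem h)
    simp only [Bool.and_eq_true] at this
    exact Nat.eq_of_beq_eq_true this.2
  · rw [List.getD_eq_default _ _ (Nat.le_of_not_lt h)]
    rfl

/-- the value of a product of generators under some images -/
def evG {G : Type*} [Group G] (v : ℕ → G) : List ℕ → G
  | [] => 1
  | j :: l => (if j < 4 then v j else (v (j - 4))⁻¹) * evG v l

theorem pw_gWord : ∀ l : List ℕ, pw (gWord l) = evG gl l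
  | [] => pw_nil
  | j :: l => by
    rw [gWord, List.flatMap_cons, pw_append, evG, show pw (l.flatMap _) = evG gl l from pw_gWord l]
    split
    · rfl
    · rw [pw_iw]; rfl

theorem ok_gWord : ∀ l : List ℕ, ok (gWord l) = true
  | [] => rfl
  | j :: l => by
    rw [gWord, List.flatMap_cons]
    refine ok_append.2 ⟨?_, ok_gWord l⟩
    split
    exacts [ok_glW j, ok_iw (ok_glW _)]

theorem evG_mem {G : Type*} [Group G] {v : ℕ → G} {H : Subgroup G} (h : ∀ j, v j ∈ H) :
    ∀ l : List ℕ, evG v l ∈ H
  | [] => one_mem H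
  | j :: l => by
    refine mul_mem ?_ (evG_mem h l)
    split
    exacts [h j, inv_mem (h _)]

theorem evG_map {G H : Type*} [Group G] [Group H] (f : G →* H) (v : ℕ → G) :
    ∀ l : List ℕ, f (evG v l) = evG (fun j => f (v j)) l
  | [] => map_one f
  | j :: l => by rw [evG, evG, map_mul, evG_map f v l, apply_ite f, map_inv]

theorem evG_append {G : Type*} [Group G] (v : ℕ → G) : ∀ a b : List ℕ, evG v (a ++ b) = evG v a * evG v b
  | [], b => (one_mul _).symm
  | j :: a, b => by rw [List.cons_append, evG, evG, evG_append v a b, mul_assoc]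

theorem closure_gl : Subgroup.closure {y | ∃ j < 4, gl j = y} = Xs := by
  refine Subgroup.eq_of_le_of_card_ge ((Subgroup.closure_le _).2 ?_) ?_
  · rintro y ⟨j, -, rfl⟩
    exact gl_mem j
  · rw [card_Xs, ← xch_size]
    refine act.card_ge xch_cOK fun l hl g hg => ?_
    obtain ⟨hlen, hall⟩ := gl_facts.2.2
    have hmem : g ∈ (xchChain.map CLev.gens).flatten :=
      List.mem_flatten.2 ⟨_, List.mem_map.2 ⟨l, hl, rfl⟩, hg⟩
    obtain ⟨i, hi, rfl⟩ := List.getElem_of_mem hmem
    have e := List.all_eq_true.mp hall ((xchChain.map CLev.gens).flatten[i], xchWit[i]'(hlen ▸ hi))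
      (List.mem_iff_getElem.2 ⟨i, by rw [List.length_zip, ← hlen, Nat.min_self]; exact hi, by simp⟩)
    show pw _ ∈ _
    rw [same_sound e, pw_gWord]
    refine evG_mem (fun j => ?_) _
    by_cases hj : j < 4
    · exact Subgroup.subset_closure ⟨j, hj, rfl⟩
    · rw [gl_big (Nat.le_of_not_lt hj)]
      exact one_mem _

theorem exists_gWord_inv : ∀ u : List ℕ, ∃ l, evG gl l = (evG gl u)⁻¹
  | [] => ⟨[], by simp [evG]⟩
  | j :: u => by
    obtain ⟨w, hw⟩ := exists_gWord_inv u
    by_cases hj : j < 4
    · refine ⟨w ++ [j + 4], ?_⟩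
      simp [evG_append, evG, hw, hj]
    · by_cases hj' : j - 4 < 4
      · exact ⟨w ++ [j - 4], by simp [evG_append, evG, hw, hj, hj']⟩
      · exact ⟨w, by simp [evG, hw, hj, gl_big (Nat.le_of_not_lt hj')]⟩

theorem exists_gWord {a : P} (ha : a ∈ Xs) : ∃ l, evG gl l = a := by
  rw [← closure_gl] at ha
  induction ha using Subgroup.closure_induction with
  | mem y hy => obtain ⟨j, hj, rfl⟩ := hy; exact ⟨[j], by simp [evG, hj]⟩
  | one => exact ⟨[], rfl⟩
  | mul a b _ _ ha hb =>
    obtain ⟨u, rfl⟩ := ha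
    obtain ⟨w, rfl⟩ := hb
    exact ⟨u ++ w, evG_append gl u w⟩
  | inv a _ ha =>
    obtain ⟨u, rfl⟩ := ha
    exact exists_gWord_inv u

/-- the words of a basis of the elementary group -/
noncomputable def bW (i : ℕ) : List ℕ := nthWord [zw, xw, cw 12, cw 16] i

/-- the word of an element of the elementary group -/
noncomputable def eW (e : ℕ) : List ℕ :=
  (if e.testBit 0 then bW 0 else []) ++ ((if e.testBit 1 then bW 1 else []) ++
    ((if e.testBit 2 then bW 2 else []) ++ (if e.testBit 3 then bW 3 else [])))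

/-- an element of the elementary group -/
noncomputable def eE (e : ℕ) : P := pw (eW e)

/-- the checks of the table of the elementary group -/
noncomputable def eTab : Bool :=
  ((List.range 16).all fun a => ok (eW a) && Nat.beq (tC.run 0 (eW a)) 0 &&
    ((List.range 16).all fun b => same (eW a ++ eW b) (eW (a ^^^ b))) &&
    (Nat.beq a 0 || pureB (eW a))) && newFrom ((List.range 16).map fun a => key (eW a) % 1000003) 0

theorem eTab_ok : eTab = true ∧ (ePts == [12, 16]) = true := by
  refine ⟨?_, ?_⟩ <;> decide +kernel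

theorem eW_facts {a : ℕ} (ha : a < 16) : ok (eW a) = true ∧ eE a ∈ Xs ∧ (a ≠ 0 → Pure (eE a)) ∧
    ∀ b < 16, eE a * eE b = eE (a ^^^ b) := by
  have h := eTab_ok.1
  simp only [eTab, Bool.and_eq_true] at h
  have h1 := List.all_eq_true.mp h.1 a (List.mem_range.mpr ha)
  simp only [Bool.and_eq_true, Bool.or_eq_true] at h1
  obtain ⟨⟨⟨hok, hrun⟩, hmul⟩, hp⟩ := h1
  refine ⟨hok, ?_, fun h0 => ?_, fun b hb => ?_⟩
  · rw [mem_Xs, eE, img_pw hok (by norm_num)]
    exact Nat.eq_of_beq_eq_true hrun
  · rcases hp with hp | hp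
    · exact absurd (Nat.eq_of_beq_eq_true hp) h0
    · exact (pureB_iff hok).1 hp
  · rw [eE, eE, eE, ← pw_append]
    exact same_sound (List.all_eq_true.mp hmul b (List.mem_range.mpr hb))

theorem eE_inj {a b : ℕ} (ha : a < 16) (hb : b < 16) (h : eE a = eE b) : a = b := by
  have hn := eTab_ok.1
  simp only [eTab, Bool.and_eq_true] at hn
  refine List.inj_on_of_nodup_map (newFrom_spec hn.2).1 (List.mem_range.2 ha) (List.mem_range.2 hb) ?_
  rw [key_of_eq (eW_facts ha).1 (eW_facts hb).1 h]

theorem eE_zero : eE 0 = 1 := by rw [eE, show eW 0 = [] from rfl, pw_nil]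

theorem eE_one : eE 1 = zP := by
  rw [eE, show eW 1 = zw ++ [] from rfl, List.append_nil]; rfl

theorem eE_two : eE 2 = cls 0 := by
  rw [eE, show eW 2 = xw ++ [] from rfl, List.append_nil, cls_zero]

theorem eE_four : eE 4 = cls 12 := by
  rw [eE, show eW 4 = cw 12 ++ [] from rfl, List.append_nil]; rfl

theorem eE_eight : eE 8 = cls 16 := rfl

theorem eE_inv {a : ℕ} (ha : a < 16) : (eE a)⁻¹ = eE a :=
  inv_eq_of_mul_eq_one_right (by rw [(eW_facts ha).2.2.2 a ha, Nat.xor_self, eE_zero])

theorem eE_comm {a b : ℕ} (ha : a < 16) (hb : b < 16) : eE a * eE b = eE b * eE a := by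
  rw [(eW_facts ha).2.2.2 b hb, (eW_facts hb).2.2.2 a ha, Nat.xor_comm]

/-- the elementary group -/
noncomputable def EG : Subgroup P where
  carrier := {a | ∃ e < 16, eE e = a}
  mul_mem' := by
    rintro _ _ ⟨a, ha, rfl⟩ ⟨b, hb, rfl⟩
    exact ⟨a ^^^ b, Nat.xor_lt_two_pow (n := 4) ha hb, ((eW_facts ha).2.2.2 b hb).symm⟩
  one_mem' := ⟨0, by norm_num, eE_zero⟩
  inv_mem' := by
    rintro _ ⟨a, ha, rfl⟩
    exact ⟨a, ha, (eE_inv ha).symm⟩

theorem card_EG : Nat.card EG = 16 := by
  let f : Fin 16 → EG := fun a => ⟨eE a, a, a.2, rfl⟩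
  have hf : Function.Bijective f := ⟨fun a b h => Fin.ext (eE_inj a.2 b.2 (congrArg Subtype.val h)), by
    rintro ⟨x, a, ha, rfl⟩
    exact ⟨⟨a, ha⟩, rfl⟩⟩
  rw [← Nat.card_eq_of_bijective f hf, Nat.card_fin]

/-- An element commuting with the elementary group belongs to it. -/
theorem cent_EG {a : P} (hx : a * cls 0 = cls 0 * a) (h2 : a * cls 12 = cls 12 * a)
    (h3 : a * cls 16 = cls 16 * a) : a ∈ EG := by
  set F := act.fixer (⊤ : Subgroup P) [16, 12, 0] with hF
  have hc : cOK tC [] [treeLev 0 fixGens0 fixEnts0, treeLev 12 fixGens1 fixEnts1, treeLev 16 fixGens2 fixEnts2] = true :=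
    cOK_tree fix_lev0 (cOK_tree fix_lev1 (cOK_tree fix_lev2 cOK_nil))
  have h := act.cOK_card (⊤ : Subgroup P) hc fun _ _ _ _ => trivial
  simp only [cSize, List.map_cons, List.map_nil, treeLev_base, treeLev_length, fix_len0, fix_len1, fix_len2,
    List.reverse_cons, List.reverse_nil, List.nil_append, List.cons_append, List.append_nil] at h
  have h' := h.trans ((Subgroup.card_le_card_group _).trans card_P.le)
  rw [← hF] at h'
  have hmem : ∀ b : P, b * cls 0 = cls 0 * b → b * cls 12 = cls 12 * b → b * cls 16 = cls 16 * b → b ∈ F := by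
    intro b e0 e2 e3
    refine ⟨trivial, fun p hp hN => Fin.ext ?_⟩
    have e : ∀ p < 630, b * cls p = cls p * b → img b p = p := fun p hp he => (commute_cls_iff b hp).1 he
    simp only [List.mem_cons, List.not_mem_nil, or_false] at hp
    rcases hp with rfl | rfl | rfl
    · have h := e 16 (by norm_num) e3
      rw [img, dif_pos (by norm_num)] at h
      exact h
    · have h := e 12 (by norm_num) e2
      rw [img, dif_pos (by norm_num)] at h
      exact h
    · have h := e 0 (by norm_num) e0
      rw [img, dif_pos (by norm_num)] at h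
      exact h
  have hle : EG ≤ F := by
    rintro x ⟨e, he, rfl⟩
    refine hmem _ ?_ ?_ ?_
    · rw [← eE_two]; exact eE_comm he (by norm_num)
    · rw [← eE_four]; exact eE_comm he (by norm_num)
    · rw [← eE_eight]; exact eE_comm he (by norm_num)
  rw [Subgroup.eq_of_le_of_card_ge hle (by rw [card_EG]; omega)]
  exact hmem a hx h2 h3

end CfsgLib.CoThreeUniq
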