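import Cfsg.Agent.Lib.TwistCoset.Tree
import Cfsg.Agent.Lib.CoThreeUniq.XSub
import Cfsg.Agent.Lib.CoThreeUniq.SwapChecks

/-!
The certified double cosets of one case.
-/

set_option autoImplicit false
set_option linter.style.longLine false

namespace CfsgLib.CoThreeUniq
open CfsgLib.CosetEnum CfsgLib.TwistCoset

/-- part 0 of the facts -/
noncomputable def t48FactsP0 : List (Fact) := [
  .stab 0 [0],
  .stab 0 [1],
  .stab 0 [2],
  .stab 0 [3],
  .stab 0 [4],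
  .stab 0 [5],
  .stab 0 [6],
  .stab 0 [7],
  .stab 0 [8],
  .stab 0 [9],
  .stab 0 [10],
  .edge 0 [] 1 [],
  .edge 1 [] 0 [],
  .stab 1 [0,0,7,0,7],
  .stab 1 [1,8,2,8,6]]

/-- part 1 of the facts -/
noncomputable def t48FactsP1 : List (Fact) := [
  .stab 1 [4,0,7,0,7],
  .stab 1 [9,6,3,5,6,10],
  .edge 1 [6] 2 [],
  .edge 2 [] 1 [6],
  .stab 2 [3,3,3],
  .stab 2 [0,4,6,3,6],
  .stab 2 [8,0,8,6,1,6],
  .stab 2 [0,9,7,3,7],
  .edge 1 [8] 3 [],
  .edge 3 [] 1 [8],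
  .stab 3 [5,0,5],
  .stab 3 [4,7,0,7,4],
  .stab 3 [2,6,7,2,7],
  .stab 3 [0,0],
  .edge 1 [9,9,8,9,8] 4 []]

/-- part 2 of the facts -/
noncomputable def t48FactsP2 : List (Fact) := [
  .edge 4 [] 1 [9,9,8,9,8],
  .stab 4 [0,0,2,4,10,6],
  .stab 4 [4,9,8,2,8],
  .stab 4 [1,10,4,8,2,8],
  .edge 1 [9,9,8,9,5,8] 5 [],
  .edge 5 [] 1 [9,9,8,9,5,8],
  .stab 5 [0,7,0,7],
  .stab 5 [8,1,3,7,6],
  .stab 5 [2,4,3,4,3],
  .edge 1 [8,9,5,8,9,5,8] 6 [],
  .edge 6 [] 1 [8,9,5,8,9,5,8],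
  .stab 6 [4,1,4,10,6],
  .stab 6 [5,10,6,7,0,7],
  .stab 6 [6,10,1,1,4],
  .edge 3 [4,6,0,10,5,6,7,4] 5 [7,3,6,7,2,6,7,4]]

/-- part 3 of the facts -/
noncomputable def t48FactsP3 : List (Fact) := [
  .edge 5 [7,3,6,7,2,6,7,4] 3 [4,6,0,10,5,6,7,4],
  .edge 6 [7,3,3,8,6,7,4] 5 [9,3,4,10,4,6,7,4],
  .edge 5 [9,3,4,10,4,6,7,4] 6 [7,3,3,8,6,7,4],
  .edge 3 [9,4,10,4,0,6,7,4] 3 [0,6,4,7,4],
  .edge 3 [0,6,4,7,4] 3 [9,4,10,4,0,6,7,4],
  .edge 3 [6] 3 [2,2,6,7,3,7,6],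
  .edge 3 [2,2,6,7,3,7,6] 3 [6],
  .edge 3 [7,1] 3 [9,1,9,0,10,6,7],
  .edge 3 [9,1,9,0,10,6,7] 3 [7,1],
  .edge 3 [6,0,8,2,8,8] 3 [1,3,7,1,7,7],
  .edge 3 [1,3,7,1,7,7] 3 [6,0,8,2,8,8],
  .edge 4 [8,2,4] 3 [5,2,2,6,10,6,7,4],
  .edge 3 [5,2,2,6,10,6,7,4] 4 [8,2,4],
  .edge 5 [8,4] 3 [3,4,10,6,5,7,4],
  .edge 3 [3,4,10,6,5,7,4] 5 [8,4]]

/-- part 4 of the facts -/
noncomputable def t48FactsP4 : List (Fact) := [
  .stab 1 [6,8,2,8,6,8]]

/-- the facts -/
noncomputable def t48Facts : List (Fact) :=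
  [t48FactsP0, t48FactsP1, t48FactsP2, t48FactsP3, t48FactsP4].flatten

/-- part 0 of the justifications -/
noncomputable def t48JustP0 : List (Just) := [
  .base,
  .base,
  .base,
  .base,
  .base,
  .base,
  .base,
  .base,
  .base,
  .base]

/-- part 1 of the justifications -/
noncomputable def t48JustP1 : List (Just) := [
  .base,
  .def',
  .rev 11,
  .ubase [(0,false)],
  .ubase [(1,false)],
  .ubase [(2,false)],
  .ubase [(3,false)],
  .def',
  .rev 17,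
  .lift 1 [6] ⟨17,[],[]⟩ ⟨17,[(14,false)],[(0,true),(2,true),(3,false),(2,true),(3,false)]⟩]

/-- part 2 of the justifications -/
noncomputable def t48JustP2 : List (Just) := [
  .lift 1 [6] ⟨17,[],[]⟩ ⟨17,[(15,false)],[(1,false),(2,false),(0,true),(1,false),(0,false)]⟩,
  .lift 1 [6] ⟨17,[],[]⟩ ⟨17,[(13,false)],[(2,false),(3,false),(2,true),(3,false),(0,true),(2,true)]⟩,
  .lift 1 [6] ⟨17,[],[]⟩ ⟨17,[(16,false)],[(2,false),(0,true),(2,false),(1,true),(3,false),(2,false)]⟩,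
  .def',
  .rev 23,
  .lift 1 [4,1,1,1,8] ⟨23,[(15,false),(13,false)],[]⟩ ⟨23,[(13,false),(15,true),(13,false)],[(0,false),(2,true),(0,false),(2,true),(0,false)]⟩,
  .lift 1 [2,5,1,9,6,8] ⟨23,[(13,false),(16,false),(15,true)],[]⟩ ⟨23,[(15,true),(14,false),(16,false),(13,false)],[(0,false),(2,false),(0,true),(0,true),(2,true)]⟩,
  .lift 1 [5,0,5,9,6,8] ⟨23,[(16,false),(15,false)],[]⟩ ⟨23,[(15,true),(16,false),(14,false)],[(0,false),(0,false),(0,false),(0,false),(1,true),(1,true)]⟩,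
  .lift 1 [10,8,2,6,8,8] ⟨23,[(13,true),(15,true),(16,false)],[]⟩ ⟨23,[(15,false),(14,false),(16,false),(13,false)],[(0,true),(0,true)]⟩,
  .def']

/-- part 3 of the justifications -/
noncomputable def t48JustP3 : List (Just) := [
  .rev 29,
  .lift 1 [0,5,10,6,1,8,9,8] ⟨29,[(16,false),(13,true)],[]⟩ ⟨29,[(13,true),(15,true),(14,true),(13,false)],[(1,false),(3,false),(0,true),(3,false),(2,false),(1,true)]⟩,
  .lift 1 [4,1,4,1,2,8,9,8] ⟨29,[(14,false),(13,false),(13,false)],[]⟩ ⟨29,[(16,false),(15,false),(14,false),(13,true)],[(1,false),(2,true),(3,false),(1,false),(2,true),(0,false)]⟩,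
  .lift 1 [0,0,5,6,0,6,8,9,8] ⟨29,[(15,true),(14,true)],[]⟩ ⟨29,[(16,false),(13,false),(15,false)],[(2,false),(1,true),(3,false),(0,true),(3,false),(0,false)]⟩,
  .def',
  .rev 34,
  .lift 1 [1,1,5,2,10,6,8,9,5,8] ⟨34,[(15,false),(16,false),(14,false),(14,false)],[]⟩ ⟨34,[(13,true),(13,true),(16,false),(15,true)],[(0,false),(0,false),(2,true),(0,true),(2,false),(0,true),(2,true)]⟩,
  .lift 1 [9,6,4,9,6,8,9,5,8] ⟨34,[(16,false),(14,false),(14,false),(13,true)],[]⟩ ⟨34,[(15,true),(16,false),(13,false),(15,false),(13,false)],[(0,true),(2,false),(0,false),(1,false),(2,true)]⟩,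
  .lift 1 [4,0,10,4,6,8,9,5,8] ⟨34,[(16,false),(13,false),(15,true),(14,true)],[]⟩ ⟨34,[(14,false),(13,false),(15,true),(16,false)],[(0,false),(2,true),(0,false),(0,false),(2,false)]⟩,
  .def']

/-- part 4 of the justifications -/
noncomputable def t48JustP4 : List (Just) := [
  .rev 39,
  .lift 1 [1,2,4,8,9,5,8,9,5,8] ⟨39,[(14,false),(15,true),(14,false)],[]⟩ ⟨39,[(13,true),(16,false),(14,true)],[(1,false),(0,false),(2,true),(1,false),(0,false),(3,false)]⟩,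
  .lift 1 [1,9,6,1,5,8,9,5,8,9,5,8] ⟨39,[(15,false),(16,false),(13,true)],[]⟩ ⟨39,[(16,true),(14,true),(15,false),(16,false)],[(1,false),(2,false),(3,false),(0,false),(2,true)]⟩,
  .lift 1 [0,9,0,9,1,8,9,5,8,9,5,8] ⟨39,[(13,true),(16,false),(15,false),(13,true)],[]⟩ ⟨39,[(13,false),(13,false),(16,false),(15,true)],[(0,false),(2,true),(0,false),(3,false),(2,false),(0,false)]⟩,
  .path 0 [⟨24,[],[(1,false),(3,false),(0,true),(2,false),(3,false),(2,true)]⟩,⟨34,[(13,true),(13,true)],[(1,true),(3,false),(2,false),(3,false),(0,true)]⟩],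
  .rev 44,
  .path 0 [⟨40,[],[(0,false),(1,true),(2,false),(1,false),(1,false)]⟩,⟨34,[],[(0,false),(3,false),(1,true),(2,false),(3,false),(2,true)]⟩],
  .rev 46,
  .path 0 [⟨24,[],[(2,false),(0,true),(2,false),(1,true)]⟩,⟨23,[(15,false),(13,false)],[(0,false),(3,false),(0,true),(3,false),(1,false),(3,false)]⟩],
  .rev 48]

/-- part 5 of the justifications -/
noncomputable def t48JustP5 : List (Just) := [
  .path 0 [⟨48,[(27,false)],[(1,false),(2,false),(0,false),(2,true),(1,false)]⟩,⟨48,[(28,false),(27,false)],[(0,false),(0,false),(1,false),(2,true),(0,false),(2,true)]⟩],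
  .rev 50,
  .path 0 [⟨48,[(28,false),(27,false)],[(1,false),(1,false),(2,true),(0,true),(0,true)]⟩,⟨48,[(28,false),(25,false)],[(0,false),(0,false),(0,false),(0,false),(1,false),(1,false),(1,false)]⟩],
  .rev 52,
  .path 0 [⟨48,[(27,false),(25,false)],[(2,false),(0,true),(2,true),(1,false),(0,false)]⟩,⟨48,[(27,false),(25,false)],[(1,false),(1,false),(1,false),(2,true),(0,true)]⟩],
  .rev 54,
  .path 0 [⟨30,[],[(1,false),(2,false),(0,false),(0,false)]⟩,⟨23,[(14,false)],[(3,false),(0,false),(2,false),(0,false),(2,false)]⟩],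
  .rev 56,
  .path 0 [⟨45,[],[(2,false),(0,false),(1,false),(1,false)]⟩,⟨50,[],[(3,false),(0,true),(2,true),(3,false),(0,false)]⟩],
  .rev 58]

/-- part 6 of the justifications -/
noncomputable def t48JustP6 : List (Just) := [
  .loop 0 [9,4,10,3,4,6,7,9] [⟨23,[],[(2,false),(3,false)]⟩,⟨59,[],[(3,false),(0,false),(1,false),(3,false)]⟩,⟨35,[],[(0,false),(1,true),(1,true),(1,true),(2,false)]⟩]]

/-- the justifications -/
noncomputable def t48Just : List (Just) :=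
  [t48JustP0, t48JustP1, t48JustP2, t48JustP3, t48JustP4, t48JustP5, t48JustP6].flatten

/-- the closure -/
noncomputable def t48 : TData where
  C := { tC with N := 630 }
  B := bB
  U := [(glW 0, gWord (thW 4 0)), (glW 1, gWord (thW 4 1)), (glW 2, gWord (thW 4 2)), (glW 3, gWord (thW 4 3))]
  cosL := [[]]
  pgens := [glW 0, glW 1, glW 2, glW 3]
  cosMove := [[(0, [(0, false)])], [(0, [(1, false)])], [(0, [(2, false)])], [(0, [(3, false)])]]
  sq := []
  ns := 7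
  par := [(0,[]),(0,[]),(1,[6]),(1,[8]),(1,[9,9,8,9,8]),(1,[9,9,8,9,5,8]),(1,[8,9,5,8,9,5,8])]
  facts := t48Facts
  prfs := t48Just
  menuE := [(wOf 23 0x17357b17357b17357150005)]
  menuS := [(wOf 24 0x41114084280b84280b84280b)]
  roots := []

/-- where the words equal to the element come from -/
def t48E : List (Bool × ℕ) := [(false, 0)]

/-- where the words equal to one come from -/
def t48S : List (Bool × ℕ) := [(false, 0)]

end CfsgLib.CoThreeUniq
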