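import Cfsg.Agent.Lib.TwistCoset.Tree
import Cfsg.Agent.Lib.CoThreeUniq.XSub
import Cfsg.Agent.Lib.CoThreeUniq.SwapChecks

/-!
The certified double cosets of one case.
-/

set_option autoImplicit false
set_option linter.style.longLine false

namespace CfsgLib.CoThreeUniq
open CfsgLib.CosetEnum CfsgLib.TwistCoset

/-- part 0 of the facts -/
noncomputable def t57FactsP0 : List (Fact) := [
  .stab 0 [0],
  .stab 0 [1],
  .stab 0 [2],
  .stab 0 [3],
  .stab 0 [4],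
  .stab 0 [5],
  .stab 0 [6],
  .stab 0 [7],
  .stab 0 [8],
  .stab 0 [9],
  .stab 0 [10],
  .edge 0 [] 1 [],
  .edge 1 [] 0 [],
  .stab 1 [0,0,7,0,7],
  .stab 1 [1,6,7,3,7]]

/-- part 1 of the facts -/
noncomputable def t57FactsP1 : List (Fact) := [
  .stab 1 [0,7,0,7,4],
  .stab 1 [3,4,9,4,6],
  .edge 1 [6] 2 [],
  .edge 2 [] 1 [6],
  .stab 2 [2],
  .stab 2 [0,4,6,3,6],
  .stab 2 [4,6,3,6,4],
  .stab 2 [9,1,9,3,3],
  .edge 1 [8] 3 [],
  .edge 3 [] 1 [8],
  .stab 3 [4,1,4],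
  .stab 3 [0,4,0,0,5],
  .stab 3 [0,6,3,6],
  .stab 3 [7,0,7,1],
  .edge 1 [9,9,8,9,8] 4 []]

/-- part 2 of the facts -/
noncomputable def t57FactsP2 : List (Fact) := [
  .edge 4 [] 1 [9,9,8,9,8],
  .stab 4 [6,2,8,3,8],
  .stab 4 [6,9,5,6,1,6],
  .stab 4 [9,6,10,5,6],
  .edge 1 [9,9,8,9,5,8] 5 [],
  .edge 5 [] 1 [9,9,8,9,5,8],
  .stab 5 [2,2,2,2],
  .stab 5 [8,2,8,1,6],
  .stab 5 [9,3,9,1,10,6],
  .edge 1 [8,9,5,8,9,5,8] 6 [],
  .edge 6 [] 1 [8,9,5,8,9,5,8],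
  .stab 6 [1,3,4,0,6,9],
  .stab 6 [0,9,6,10,5,6],
  .stab 6 [0,10,8,2,6,8],
  .stab 6 [9,3,4,7,3,7]]

/-- part 3 of the facts -/
noncomputable def t57FactsP3 : List (Fact) := [
  .edge 3 [4,6,0,10,5,6,7,4] 5 [0,5,0,0,4,6,7,4],
  .edge 5 [0,5,0,0,4,6,7,4] 3 [4,6,0,10,5,6,7,4],
  .stab 5 [5,1,5,6,2,6],
  .stab 1 [4,6,2,4,6,8]]

/-- the facts -/
noncomputable def t57Facts : List (Fact) :=
  [t57FactsP0, t57FactsP1, t57FactsP2, t57FactsP3].flatten

/-- part 0 of the justifications -/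
noncomputable def t57JustP0 : List (Just) := [
  .base,
  .base,
  .base,
  .base,
  .base,
  .base,
  .base,
  .base,
  .base,
  .base]

/-- part 1 of the justifications -/
noncomputable def t57JustP1 : List (Just) := [
  .base,
  .def',
  .rev 11,
  .ubase [(0,false)],
  .ubase [(1,false)],
  .ubase [(2,false)],
  .ubase [(3,false)],
  .def',
  .rev 17,
  .lift 1 [6] ⟨17,[],[]⟩ ⟨17,[(14,false)],[(2,false),(0,true),(2,false),(0,false),(1,false)]⟩]

/-- part 2 of the justifications -/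
noncomputable def t57JustP2 : List (Just) := [
  .lift 1 [6] ⟨17,[],[]⟩ ⟨17,[(15,false)],[(0,false),(2,false),(1,false),(0,false),(1,true)]⟩,
  .lift 1 [6] ⟨17,[],[]⟩ ⟨17,[(13,false)],[(2,false),(3,false),(2,true),(3,false),(0,true),(2,true)]⟩,
  .lift 1 [6] ⟨17,[],[]⟩ ⟨17,[(16,false)],[(2,false),(0,false),(0,false),(3,false),(2,true)]⟩,
  .def',
  .rev 23,
  .lift 1 [1,5,8] ⟨23,[(15,false),(13,false)],[]⟩ ⟨23,[(13,false),(15,true),(13,false)],[(2,true),(0,false),(2,true)]⟩,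
  .lift 1 [5,10,5,8,2,8,8] ⟨23,[(13,false),(16,false),(15,true)],[]⟩ ⟨23,[(15,true),(14,false),(16,false),(13,false)],[(0,false),(2,false),(0,false),(2,true),(0,true),(2,false)]⟩,
  .lift 1 [0,0,9,0,9,8] ⟨23,[(16,false),(15,false)],[]⟩ ⟨23,[(15,true),(16,false),(14,false)],[(0,false),(2,true),(0,false),(0,false),(1,false),(2,true)]⟩,
  .lift 1 [0,9,3,9,8] ⟨23,[(13,true),(15,true),(16,false)],[]⟩ ⟨23,[(15,false),(14,false),(16,false),(13,false)],[(2,true),(0,true),(2,false),(0,true),(2,true)]⟩,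
  .def']

/-- part 3 of the justifications -/
noncomputable def t57JustP3 : List (Just) := [
  .rev 29,
  .lift 1 [7,1,3,8,6,4,8,9,8] ⟨29,[(14,true),(15,false)],[]⟩ ⟨29,[(13,true),(13,true),(15,true),(13,false)],[(0,true),(1,false),(0,false),(1,true)]⟩,
  .lift 1 [2,7,1,9,8] ⟨29,[(14,false),(13,false),(13,false)],[]⟩ ⟨29,[(16,true),(13,true),(15,true)],[(2,false),(1,true),(3,false),(0,true),(3,false),(0,false)]⟩,
  .lift 1 [3,6,4,6,3,8,9,8] ⟨29,[(14,true),(15,false),(13,false)],[]⟩ ⟨29,[(16,false),(14,true),(15,false)],[(3,false),(0,false),(2,false)]⟩,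
  .def',
  .rev 34,
  .lift 1 [2,10,4,6,8,9,5,8] ⟨34,[(16,false),(14,true),(13,true),(15,true)],[]⟩ ⟨34,[(14,true),(15,true),(13,true),(16,false)],[(0,false),(0,false),(0,false),(0,false),(1,false),(1,false),(1,false),(1,false)]⟩,
  .lift 1 [6,5,0,9,3,8,9,5,8] ⟨34,[(13,false),(16,false),(14,false),(13,false)],[]⟩ ⟨34,[(15,false),(13,true),(16,false),(15,true),(13,false)],[(2,false),(0,false),(1,false),(2,true),(0,false)]⟩,
  .lift 1 [5,10,8,2,0,9,5,8] ⟨34,[(14,false),(16,false),(14,true)],[]⟩ ⟨34,[(13,false),(14,false),(13,true),(16,false)],[(2,true),(0,false),(1,true),(2,false)]⟩,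
  .def']

/-- part 4 of the justifications -/
noncomputable def t57JustP4 : List (Just) := [
  .rev 39,
  .lift 1 [2,4,1,10,6,8,9,5,8,9,5,8] ⟨39,[(14,false),(16,false)],[]⟩ ⟨39,[(15,false),(13,false),(15,true)],[(3,false),(0,false),(3,false),(2,false),(0,true),(1,false)]⟩,
  .lift 1 (wOf 13 0x85985986a1596) ⟨39,[(14,false),(16,false),(13,true)],[]⟩ ⟨39,[(16,true),(15,true),(14,true),(13,false),(13,false)],[(2,false),(3,false),(0,true),(2,false),(3,false)]⟩,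
  .lift 1 [6,5,0,6,2,8,9,5,8,9,5,8] ⟨39,[(14,true),(13,false),(15,true)],[]⟩ ⟨39,[(13,false),(16,false),(14,false),(15,true)],[(0,false),(2,true),(0,false),(3,false),(0,false),(2,false),(0,true)]⟩,
  .lift 1 [1,5,2,10,6,8,9,5,8,9,5,8] ⟨39,[(13,true),(16,false),(15,true)],[]⟩ ⟨39,[(14,false),(13,false),(15,true),(13,true)],[(1,false),(2,false),(3,false),(0,false),(2,true)]⟩,
  .path 0 [⟨24,[],[(2,false),(3,false),(1,true),(1,true),(1,true)]⟩,⟨34,[(13,false),(13,false)],[(1,true),(3,false),(2,false),(3,false),(0,true)]⟩],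
  .rev 45,
  .lift 3 [0,9,5,6,0,6,7,4] ⟨45,[(25,false)],[]⟩ ⟨45,[(27,true),(26,false)],[(0,false),(1,false),(2,true),(0,true),(2,false),(0,true),(1,false)]⟩,
  .lift 5 [] ⟨35,[],[]⟩ ⟨35,[(47,true)],[(0,false),(0,false),(2,false),(0,true),(1,false),(2,true)]⟩]

/-- the justifications -/
noncomputable def t57Just : List (Just) :=
  [t57JustP0, t57JustP1, t57JustP2, t57JustP3, t57JustP4].flatten

/-- the closure -/
noncomputable def t57 : TData where
  C := { tC with N := 630 }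
  B := bB
  U := [(glW 0, gWord (thW 5 0)), (glW 1, gWord (thW 5 1)), (glW 2, gWord (thW 5 2)), (glW 3, gWord (thW 5 3))]
  cosL := [[]]
  pgens := [glW 0, glW 1, glW 2, glW 3]
  cosMove := [[(0, [(0, false)])], [(0, [(1, false)])], [(0, [(2, false)])], [(0, [(3, false)])]]
  sq := []
  ns := 7
  par := [(0,[]),(0,[]),(1,[6]),(1,[8]),(1,[9,9,8,9,8]),(1,[9,9,8,9,5,8]),(1,[8,9,5,8,9,5,8])]
  facts := t57Facts
  prfs := t57Just
  menuE := [(wOf 23 0x17357b17357b17357111404)]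
  menuS := []
  roots := []

/-- where the words equal to the element come from -/
def t57E : List (Bool × ℕ) := [(false, 0)]

/-- where the words equal to one come from -/
def t57S : List (Bool × ℕ) := []

end CfsgLib.CoThreeUniq
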