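import Cfsg.Agent.Lib.CoThreeUniq.DataTab

/-!
The centraliser of the second involution in the double cover.
-/

set_option autoImplicit false
set_option linter.style.longLine false

namespace CfsgLib.CoThreeUniq
open CfsgLib.CosetEnum CfsgLib.TwistCoset

/-- its points -/
def yPts : List ℕ := [0,1,7,10,13,16]

/-- the fixed points of the second involution -/
def yFix : List ℕ := [0,1,7,10,13,16,18,23,32,33,40,43,51,63,94,110,127,136,146,154,158,162,170,176,179,185,200,202,215,229]

/-- paths to the conjugates under the stabiliser of point zero -/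
noncomputable def yOrb : List (List ℕ) := [[],
  [0],
  [2],
  [3],
  [0,0],
  [0,1],
  [0,2],
  [0,3],
  [2,0],
  [2,2],
  [2,3],
  [3,0],
  [3,1],
  [3,2],
  [0,0,0],
  [0,0,2],
  [0,0,3],
  [0,1,0],
  [0,1,2],
  [0,1,3],
  [0,2,2],
  [0,2,3],
  [0,3,0],
  [0,3,1],
  [0,3,2],
  [2,0,3],
  [2,2,3],
  [2,3,0],
  [2,3,1],
  [3,1,0],
  [3,1,3],
  [3,2,0],
  [3,2,3],
  [0,0,0,1],
  [0,0,0,2],
  [0,0,0,3],
  [0,0,2,0],
  [0,0,2,2],
  [0,0,2,3],
  [0,0,3,0],
  [0,0,3,1],
  [0,0,3,2],
  [0,1,0,2],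
  [0,1,0,3],
  [0,1,2,3],
  [0,2,2,0],
  [0,2,2,3],
  [0,2,3,0],
  [0,2,3,1],
  [0,3,0,2],
  [0,3,2,0],
  [0,3,2,1],
  [0,3,2,2],
  [2,0,3,0],
  [2,0,3,1],
  [2,2,3,0],
  [2,3,1,0],
  [3,1,0,2],
  [3,1,3,0],
  [0,0,0,1,0],
  [0,0,0,2,2],
  [0,0,2,3,0],
  [0,0,2,3,1],
  [0,0,3,1,3],
  [0,0,3,2,0],
  [0,0,3,2,3],
  [0,1,0,2,3],
  [0,1,0,3,2],
  [0,2,3,0,3],
  [0,2,3,1,0],
  [0,3,2,2,1],
  [0,0,0,1,0,2]]

/-- elements fixing point zero -/
noncomputable def yFx : List (List ℕ) := [[],
  [9,9],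
  [0,3],
  [0,6,7,2,7],
  [1,6,0,6],
  [2,6,7,2,7],
  [3,6,2,6],
  [3,8,1,8],
  [7,0,7,2],
  [0,0,7,1,7],
  [0,4,1,4],
  [5,1,3,4],
  [7,2,2,8,0],
  [0,2,6,7,3,7],
  [6,0,3,6],
  [1,3,7,1,7],
  [2,4,1,4],
  [1,8,0,8,2],
  [1,7,1,7,2],
  [2,2,6,7,3,7],
  [8,3,8,6,1],
  [7,2,7,2,6],
  [0,0,0,0],
  [8,0,3,7,6],
  [2,2,2,2],
  [6,8,2,1,7],
  [0,4,0,4],
  [0,4,3,4],
  [0,5,0,6,5,6],
  [2,4,0,4],
  [2,4,3,4],
  [2,5,0,6,5,6],
  [3,5,1,5],
  [5,0,3,4],
  [4,0,4,8,1,8],
  [4,6,4,6,4],
  [9,1,9,6,9,1],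
  [4,1,4,6,1,6],
  [6,1,3,7,3,7],
  [4,3,4,1],
  [4,3,4,3],
  [4,6,8,2,8,5],
  [5,0,0,4],
  [5,1,1,4],
  [2,8,0,2,7,6],
  [0,6,0,8,2,8],
  [9,1,9,1,9,6],
  [2,6,0,8,2,8],
  [0,9,6,1,10,6],
  [2,9,6,1,10,6],
  [3,9,3,6,9,6],
  [6,9,1,1,9,6],
  [0,6,3,4,6,5],
  [3,4,6,5,6,2],
  [9,1,9,0,9,6],
  [1,4,6,5,0,6],
  [9,1,9,0,10,6],
  [9,0,9,1,9,6],
  [9,0,9,1,10,6],
  [4,7,3,7,6,5],
  [9,0,6,9,1,6],
  [3,9,1,9,6,10],
  [3,9,1,9,6,9],
  [0,4,6,1,6,4]]

/-- elements reaching the points -/
noncomputable def yKp : List (List ℕ) := [[],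
  [1,2,6],
  [1,5,7,5],
  [0,0,4,8,5],
  [3,5,6,7,5],
  [0,5,7,2,5]]

/-- the third involution -/
noncomputable def uw : List ℕ := [1,2,6]

/-- part 0 of conjugations to the third involution -/
noncomputable def yWitP0 : List ℕ := nOf 10 384 0x700000000000003700000000000000000000000000000000000000000000000000000000000000000000001fc7400000000001c88100000000001cc8000000000000000600000000000200000000000000000000000000000000000000000000000000000000000000000000000000000000000000000000000000000000000000000000000000000000000000000000000000000000000000000000000000000000000000000000000000000000000000000000000000000000000000000000000000000000000000240000000000000000000000000000003600000000001f87500000000000000000000000000000000000000000e40000000000000000000000000000000000000000000e00000000000001ec0000000000000000000000000001bc0000000000000000000000000000000000000000000000000000000000000000000000000000000000000000000000000000000000000000000000000000000000000cc0000000000000000000000000000000000000000000000000000000000000000000000000000000000000001b80000000000001e800000000000000000000000000000000000000000000000000000000000000000000000000c0000000000000c800000000000000800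

/-- conjugations to the third involution -/
noncomputable def yWit : List ℕ := [yWitP0].flatten

/-- the elements centralising both -/
def y32 : List ℕ := [0,1,6,7,12,13,18,19,30,31,84,85,120,121,126,127,156,157,174,175,192,193,210,211,312,313,324,325,330,331,336,337]

/-- representatives modulo the four group -/
noncomputable def yReps : List (List ℕ) := [[], [9,9], [0,6,7,2,7], [8,3,8,6,1], [0,4,0,4], [3,5,1,5], [4,6,4,6,4], [9,1,9,0,9,6]]

/-- a point in the second coset -/
noncomputable def g1w : List ℕ := [0,4,0,4]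

/-- exchanging two cosets -/
noncomputable def ew : List ℕ := [0,6,7,2,7]

/-- a coset without points -/
noncomputable def vw : List ℕ := [3,5,1,5]

/-- a root of the central coset -/
noncomputable def rw4 : List ℕ := [0,6,7,2,7]

/-- a root of the centre commuting with the second involution -/
noncomputable def zaw : List ℕ := [0,6,7,2,7]

/-- a root of the centre fixing point zero -/
noncomputable def zxw : List ℕ := [0,6,3,6]

end CfsgLib.CoThreeUniq
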