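import Cfsg.Agent.Lib.CoThreeUniq.XSub
import Cfsg.Agent.Lib.CoThreeUniq.DataCentY

/-!
The centraliser of the second involution in the double cover, with a four group in it.
-/

set_option autoImplicit false
set_option Elab.async false
set_option maxRecDepth 20000

namespace CfsgLib.CoThreeUniq

open CfsgLib.CosetEnum CfsgLib.TwistCoset

/-- the points fixed by the second involution that the involution of a point fixes -/
noncomputable def cntY (p : ℕ) : ℕ := (yFix.filter fun q => Nat.beq (tC.run q (cw p)) q).length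

/-- the check of one point -/
noncomputable def ptAt (p : ℕ) : Bool :=
  pick (Nat.beq (tC.run p yw7) p) (band (memK p yFix)
    (pick (Nat.ble 14 (cntY p)) (memK p yPts) true)) (!memK p yFix)

theorem pts_ok : (List.range 630).all ptAt = true ∧ cntY 0 = 14 ∧ memK 0 yFix = true ∧
    yFix.all (fun p => Nat.blt p 630) = true ∧ yFix.Nodup ∧ yPts.length = 6 := by
  refine ⟨?_, ?_, ?_, ?_, ?_, rfl⟩ <;> decide +kernel

/-- the set behind the count -/
def fixSet (p : ℕ) : Set ℕ := {q | q < 630 ∧ img y7 q = q ∧ img (cls p) q = q}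

theorem fixSet_eq {p : ℕ} (hp : p < 630) :
    fixSet p = {q | q ∈ yFix.filter fun q => Nat.beq (tC.run q (cw p)) q} := by
  obtain ⟨hall, -, -, hlt, -, -⟩ := pts_ok
  ext q
  simp only [fixSet, Set.mem_setOf_eq, List.mem_filter, Nat.beq_eq]
  constructor
  · rintro ⟨hq, hy, hc⟩
    have h := List.all_eq_true.mp hall q (List.mem_range.mpr hq)
    rw [y7, img_pw yw7_facts.1 (by omega)] at hy
    rw [ptAt, hy, Nat.beq_refl, pick_true, band_eq_true, memK_iff] at h
    rw [cls, img_pw (cls_facts hp).1 (by omega)] at hc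
    exact ⟨h.1, hc⟩
  · rintro ⟨hm, hc⟩
    have hq : q < 630 := by simpa using List.all_eq_true.mp hlt q hm
    have h := List.all_eq_true.mp hall q (List.mem_range.mpr hq)
    refine ⟨hq, ?_, by rw [cls, img_pw (cls_facts hp).1 (by omega)]; exact hc⟩
    rw [y7, img_pw yw7_facts.1 (by omega)]
    by_contra hne
    rw [ptAt, show Nat.beq (tC.run q yw7) q = false from Bool.eq_false_iff.2 fun e =>
      hne (Nat.eq_of_beq_eq_true e), pick_false, Bool.not_eq_true', ← Bool.not_eq_true, memK_iff] at h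
    exact h hm

theorem fixSet_card {p : ℕ} (hp : p < 630) : (fixSet p).ncard = cntY p := by
  have hnd := pts_ok.2.2.2.2.1.filter (fun q => Nat.beq (tC.run q (cw p)) q)
  rw [fixSet_eq hp, ← List.coe_toFinset, Set.ncard_coe_finset, List.toFinset_card_of_nodup hnd]
  rfl

theorem fixSet_finite (p : ℕ) : (fixSet p).Finite :=
  (Set.finite_lt_nat 630).subset fun _ h => h.1

theorem img_inj (a : P) {p q : ℕ} (hp : p < 934) (hq : q < 934) (h : img a p = img a q) : p = q := by
  have := congrArg (img a⁻¹) h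
  rwa [← img_mul _ _ hp, ← img_mul _ _ hq, mul_inv_cancel, img_one, img_one] at this

theorem orbit_point {a : P} (ha : a * y7 = y7 * a) : img a 0 ∈ yPts := by
  obtain ⟨hall, h14, h0, -, -, -⟩ := pts_ok
  have hp0 : img a 0 < 630 := img_block a (by norm_num)
  have hy0 : img y7 0 = 0 := by
    have h := List.all_eq_true.mp hall 0 (List.mem_range.mpr (by norm_num))
    rw [y7, img_pw yw7_facts.1 (by norm_num)]
    by_contra hne
    rw [ptAt, show Nat.beq (tC.run 0 yw7) 0 = false from Bool.eq_false_iff.2 fun e =>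
      hne (Nat.eq_of_beq_eq_true e), pick_false, h0] at h
    simp at h
  have hyp : img y7 (img a 0) = img a 0 := by
    rw [← img_mul _ _ (by norm_num), ha, img_mul _ _ (by norm_num), hy0]
  have hsub : Set.MapsTo (img a) (fixSet 0) (fixSet (img a 0)) := by
    rintro q ⟨hq, hy, hc⟩
    refine ⟨img_block a hq, by rw [← img_mul _ _ (by omega), ha, img_mul _ _ (by omega), hy], ?_⟩
    have e : a * cls (img a 0) = cls 0 * a := by rw [← cls_conj a (by norm_num)]; group
    rw [← img_mul _ _ (by omega), e, img_mul _ _ (by omega), hc]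
  have hcard : 14 ≤ cntY (img a 0) := by
    rw [← fixSet_card hp0, ← h14, ← fixSet_card (by norm_num)]
    exact Set.ncard_le_ncard_of_injOn (img a) hsub
      (fun p hp q hq h => img_inj a (lt_trans hp.1 (by norm_num)) (lt_trans hq.1 (by norm_num)) h)
      (fixSet_finite _)
  have h := List.all_eq_true.mp hall _ (List.mem_range.mpr hp0)
  rw [y7, img_pw yw7_facts.1 (by omega)] at hyp
  rw [ptAt, hyp, Nat.beq_refl, pick_true, band_eq_true,
    show Nat.ble 14 (cntY (img a 0)) = true from Nat.ble_eq_true_of_le hcard, pick_true] at h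
  exact memK_iff.1 h.2

/-- the word of an element of the centraliser -/
noncomputable def yEW (n : ℕ) : List ℕ := nthWord yFx (n / 6) ++ nthWord yKp (n % 6)

/-- an element of the centraliser -/
noncomputable def yE (n : ℕ) : P := pw (yEW n)

/-- a conjugate of the second involution under the stabiliser of point zero -/
noncomputable def yOW (i : ℕ) : List ℕ :=
  iw (gWord (nthWord yOrb i)) ++ (yw7 ++ gWord (nthWord yOrb i))

theorem cent_ok : yFx.length = 64 ∧ yKp.length = 6 ∧
    (List.range 64).all (fun i => ok (nthWord yFx i) && Nat.beq (tC.run 0 (nthWord yFx i)) 0 &&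
      same (nthWord yFx i ++ yw7) (yw7 ++ nthWord yFx i)) = true ∧
    newFrom ((List.range 64).map fun i => key (nthWord yFx i) % 1000003) 0 = true ∧
    (List.range 6).all (fun i => ok (nthWord yKp i) && Nat.beq (tC.run 0 (nthWord yKp i)) (nth yPts i 0) &&
      same (nthWord yKp i ++ yw7) (yw7 ++ nthWord yKp i)) = true ∧
    newFrom ((List.range 72).map fun i => key (yOW i) % 1000003) 0 = true := by
  refine ⟨rfl, rfl, ?_, ?_, ?_, ?_⟩ <;> decide +kernel

theorem comm_of_same {u w : List ℕ} (h : same (u ++ w) (w ++ u) = true) : pw u * pw w = pw w * pw u := by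
  rw [← pw_append, ← pw_append, same_sound h]

/-- The centraliser of the second involution in the stabiliser of point zero has at most 64 elements. -/
theorem card_cent_X : Nat.card {a : P // a ∈ Xs ∧ a * y7 = y7 * a} ≤ 64 := by
  let x : Fin 72 → P := fun i => evG gl (nthWord yOrb i)
  have hy : ∀ i : Fin 72, pw (yOW i) = (x i)⁻¹ * y7 * x i := fun i => by
    rw [yOW, pw_append, pw_append, pw_iw, pw_gWord, mul_assoc]; rfl
  let f : {a : P // a ∈ Xs ∧ a * y7 = y7 * a} × Fin 72 → Xs := fun q =>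
    ⟨q.1.1 * x q.2, mul_mem q.1.2.1 (evG_mem gl_mem _)⟩
  have hf : Function.Injective f := by
    rintro ⟨a, i⟩ ⟨b, j⟩ h
    have e : a.1 * x i = b.1 * x j := congrArg Subtype.val h
    have e1 : ∀ (a : {a : P // a ∈ Xs ∧ a * y7 = y7 * a}) (i : Fin 72),
        (a.1 * x i)⁻¹ * y7 * (a.1 * x i) = pw (yOW i) := fun a i => by
      rw [hy]
      calc (a.1 * x i)⁻¹ * y7 * (a.1 * x i) = (x i)⁻¹ * (a.1⁻¹ * (y7 * a.1)) * x i := by group
        _ = (x i)⁻¹ * y7 * x i := by rw [← a.2.2, inv_mul_cancel_left]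
    have h2 := e1 a i
    rw [e, e1] at h2
    have hij : i = j := by
      refine Fin.ext (List.inj_on_of_nodup_map (newFrom_spec cent_ok.2.2.2.2.2).1
        (List.mem_range.2 i.2) (List.mem_range.2 j.2) ?_)
      rw [← keyP_pw (w := yOW i) (ok_append.2 ⟨ok_iw (ok_gWord _), ok_append.2 ⟨yw7_facts.1, ok_gWord _⟩⟩),
        ← keyP_pw (w := yOW j) (ok_append.2 ⟨ok_iw (ok_gWord _), ok_append.2 ⟨yw7_facts.1, ok_gWord _⟩⟩), h2]
    subst hij
    exact Prod.ext (Subtype.ext (mul_right_cancel e)) rfl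
  have h := Nat.card_le_card_of_injective f hf
  rw [Nat.card_prod, Nat.card_fin, card_Xs] at h
  omega

theorem fx_spec {i : ℕ} (hi : i < 64) :
    pw (nthWord yFx i) ∈ Xs ∧ pw (nthWord yFx i) * y7 = y7 * pw (nthWord yFx i) := by
  have h := List.all_eq_true.mp cent_ok.2.2.1 i (List.mem_range.mpr hi)
  simp only [Bool.and_eq_true] at h
  refine ⟨?_, comm_of_same h.2⟩
  rw [mem_Xs, img_pw h.1.1 (by norm_num)]
  exact Nat.eq_of_beq_eq_true h.1.2

theorem exists_fx {a : P} (ha : a ∈ Xs) (hc : a * y7 = y7 * a) : ∃ i < 64, pw (nthWord yFx i) = a := by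
  let f : Fin 64 → {a : P // a ∈ Xs ∧ a * y7 = y7 * a} := fun i => ⟨pw (nthWord yFx i), fx_spec i.2⟩
  have hf : Function.Injective f := fun i j h => by
    refine Fin.ext (List.inj_on_of_nodup_map (newFrom_spec cent_ok.2.2.2.1).1
      (List.mem_range.2 i.2) (List.mem_range.2 j.2) ?_)
    have hi := List.all_eq_true.mp cent_ok.2.2.1 i (List.mem_range.mpr i.2)
    have hj := List.all_eq_true.mp cent_ok.2.2.1 j (List.mem_range.mpr j.2)
    simp only [Bool.and_eq_true] at hi hj
    rw [key_of_eq hi.1.1 hj.1.1 (congrArg Subtype.val h)]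
  have hb := hf.bijective_of_nat_card_le (card_cent_X.trans (Nat.card_fin 64).ge)
  obtain ⟨i, hi⟩ := hb.2 ⟨a, ha, hc⟩
  exact ⟨i, i.2, congrArg Subtype.val hi⟩

theorem yE_comm {n : ℕ} (hn : n < 384) : yE n * y7 = y7 * yE n := by
  have h1 := (fx_spec (i := n / 6) (by omega)).2
  have h := List.all_eq_true.mp cent_ok.2.2.2.2.1 (n % 6) (List.mem_range.mpr (by omega))
  simp only [Bool.and_eq_true] at h
  have h2 := comm_of_same h.2
  rw [← y7] at h2
  rw [yE, yEW, pw_append, mul_assoc, h2, ← mul_assoc, h1, mul_assoc]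

theorem ok_yEW {n : ℕ} (hn : n < 384) : ok (yEW n) = true := by
  have h1 := List.all_eq_true.mp cent_ok.2.2.1 (n / 6) (List.mem_range.mpr (by omega))
  have h := List.all_eq_true.mp cent_ok.2.2.2.2.1 (n % 6) (List.mem_range.mpr (by omega))
  simp only [Bool.and_eq_true] at h h1
  exact ok_append.2 ⟨h1.1.1, h.1.1⟩

/-- The centraliser of the second involution is listed. -/
theorem exists_yE {a : P} (ha : a * y7 = y7 * a) : ∃ n < 384, yE n = a := by
  obtain ⟨i, hi, e⟩ := List.getElem_of_mem (orbit_point ha)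
  have hi6 : i < 6 := pts_ok.2.2.2.2.2 ▸ hi
  have h := List.all_eq_true.mp cent_ok.2.2.2.2.1 i (List.mem_range.mpr hi6)
  simp only [Bool.and_eq_true] at h
  obtain ⟨⟨hok, hrun⟩, hsame⟩ := h
  have hk : img (pw (nthWord yKp i)) 0 = img a 0 := by
    rw [img_pw hok (by norm_num), Nat.eq_of_beq_eq_true hrun, nth_eq, List.getD_eq_getElem _ _ hi, e]
  have hc := comm_of_same hsame
  rw [← y7] at hc
  obtain ⟨j, hj, ej⟩ := exists_fx (a := a * (pw (nthWord yKp i))⁻¹) (by
      rw [mem_Xs, img_mul _ _ (by norm_num), ← hk, ← img_mul _ _ (by norm_num), mul_inv_cancel, img_one]) (by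
      generalize pw (nthWord yKp i) = b at hc ⊢
      calc a * b⁻¹ * y7 = a * (b⁻¹ * (y7 * b) * b⁻¹) := by group
        _ = a * y7 * b⁻¹ := by rw [← hc]; group
        _ = _ := by rw [ha]; group)
  refine ⟨6 * j + i, by omega, ?_⟩
  rw [yE, yEW, show (6 * j + i) / 6 = j by omega, show (6 * j + i) % 6 = i by omega, pw_append, ej,
    inv_mul_cancel_right]

/-- the third involution -/
noncomputable def u0 : P := pw uw

/-- commuting with the second involution, an involution of its class as is its product with it -/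
def UType (a : P) : Prop := a * y7 = y7 * a ∧ a * a = 1 ∧ a ≠ 1 ∧ a ≠ y7 ∧ ¬Pure a ∧ ¬Pure (a * y7)

/-- the check of one element of the centraliser -/
noncomputable def uAt (n : ℕ) : Bool :=
  strict (nth yWit n 0) fun c => pick (Nat.beq c 0)
    (Nat.beq (key (yEW n)) (key []) || Nat.beq (key (yEW n)) (key yw7) || !same (yEW n ++ yEW n) [] ||
      pureB (yEW n) || pureB (yEW n ++ yw7))
    (band (ltB ((c - 2) / 2) 384) (same (yEW n)
      (iw (yEW ((c - 2) / 2)) ++ ((pick (Nat.beq (c % 2) 0) uw (uw ++ yw7)) ++ yEW ((c - 2) / 2)))))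

/-- the check of one element against the third involution -/
noncomputable def u2At (n : ℕ) : Bool :=
  band (!same (yEW n ++ (uw ++ yw7)) (uw ++ yEW n))
    (pick (same (yEW n ++ uw) (uw ++ yEW n)) (memK n y32) true)

theorem u_ok : allUp (fun n => pick (ltB n 384) (band (uAt n) (u2At n)) true) 9 0 = true := by
  decide +kernel

theorem uw_facts : ok uw = true ∧ same (uw ++ uw) [] = true ∧ same (uw ++ yw7) (yw7 ++ uw) = true ∧
    Nat.beq (key uw) (key []) = false ∧ Nat.beq (key uw) (key yw7) = false ∧ pureB uw = false ∧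
    pureB (uw ++ yw7) = false := by
  refine ⟨?_, ?_, ?_, ?_, ?_, ?_, ?_⟩ <;> decide +kernel

theorem u0_sq : u0 * u0 = 1 := by rw [u0, ← pw_append, same_sound uw_facts.2.1, pw_nil]

theorem u0_comm : u0 * y7 = y7 * u0 := comm_of_same uw_facts.2.2.1

theorem u0_utype : UType u0 := by
  obtain ⟨hok, -, -, h1, h2, h3, h4⟩ := uw_facts
  refine ⟨u0_comm, u0_sq, fun h => ?_, fun h => ?_, fun h => ?_, fun h => ?_⟩
  · rw [key_of_eq hok (w := []) rfl (by rw [pw_nil]; exact h), Nat.beq_refl] at h1
    exact Bool.noConfusion h1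
  · rw [key_of_eq hok yw7_facts.1 h, Nat.beq_refl] at h2
    exact Bool.noConfusion h2
  · rw [(pureB_iff hok).2 h] at h3
    exact Bool.noConfusion h3
  · rw [(pureB_iff (ok_append.2 ⟨hok, yw7_facts.1⟩)).2 (by rw [pw_append]; exact h)] at h4
    exact Bool.noConfusion h4

/-- Such an involution is conjugate to the third one, or to its product with the second. -/
theorem utype_cases {a : P} (ha : UType a) :
    ∃ g : P, g * y7 = y7 * g ∧ (g⁻¹ * u0 * g = a ∨ g⁻¹ * (u0 * y7) * g = a) := by
  obtain ⟨hc, hsq, h1, hy, hp, hpy⟩ := ha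
  obtain ⟨n, hn, rfl⟩ := exists_yE hc
  have h := allUp_spec u_ok n (Nat.zero_le _) (by omega)
  simp only [show ltB n 384 = true from ltB_iff.mpr hn, pick_true, band_eq_true] at h
  have hu := h.1
  unfold uAt at hu
  rw [strict_eq] at hu
  cases hb : Nat.beq (nth yWit n 0) 0
  · rw [hb, pick_false, band_eq_true, ltB_iff] at hu
    obtain ⟨hm, hs⟩ := hu
    refine ⟨yE ((nth yWit n 0 - 2) / 2), yE_comm hm, ?_⟩
    have e := same_sound hs
    rw [pw_append, pw_append, pw_iw] at e
    cases hp2 : Nat.beq (nth yWit n 0 % 2) 0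
    · rw [hp2, pick_false, pw_append] at e
      exact Or.inr (by rw [yE, yE, e, u0, y7, mul_assoc])
    · rw [hp2, pick_true] at e
      exact Or.inl (by rw [yE, yE, e, u0, mul_assoc])
  · rw [hb, pick_true] at hu
    simp only [Bool.or_eq_true, Bool.not_eq_true'] at hu
    exfalso
    rcases hu with (((hu | hu) | hu) | hu) | hu
    · exact h1 ((eq_of_key (ok_yEW hn) rfl (Nat.eq_of_beq_eq_true hu)).trans pw_nil)
    · exact hy (eq_of_key (ok_yEW hn) yw7_facts.1 (Nat.eq_of_beq_eq_true hu))
    · rw [(same_iff (ok_append.2 ⟨ok_yEW hn, ok_yEW hn⟩) rfl).2 (by rw [pw_append, pw_nil]; exact hsq)] at hu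
      exact Bool.noConfusion hu
    · exact hp ((pureB_iff (ok_yEW hn)).1 hu)
    · have := (pureB_iff (ok_append.2 ⟨ok_yEW hn, yw7_facts.1⟩)).1 hu
      rw [pw_append] at this
      exact hpy this

theorem u0_not_conj {a : P} (ha : a * y7 = y7 * a) : a * (u0 * y7) ≠ u0 * a := by
  obtain ⟨n, hn, rfl⟩ := exists_yE ha
  have h := allUp_spec u_ok n (Nat.zero_le _) (by omega)
  simp only [show ltB n 384 = true from ltB_iff.mpr hn, pick_true, band_eq_true] at h
  have h2 := h.2
  rw [u2At, band_eq_true, Bool.not_eq_true'] at h2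
  intro e
  rw [(same_iff (ok_append.2 ⟨ok_yEW hn, ok_append.2 ⟨uw_facts.1, yw7_facts.1⟩⟩)
    (ok_append.2 ⟨uw_facts.1, ok_yEW hn⟩)).2 (by simp only [pw_append]; exact e)] at h2
  exact Bool.noConfusion h2.1

/-- the four group -/
noncomputable def vW (i : ℕ) : List ℕ := nthWord [[], yw7, uw, uw ++ yw7] i

/-- a representative modulo the four group -/
noncomputable def rW (i : ℕ) : List ℕ := nthWord yReps i

/-- the checks of the group of order 32 -/
noncomputable def fourOK : Bool :=
  ((List.range 8).all fun i => ok (rW i) && same (rW i ++ uw) (uw ++ rW i) &&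
    same (rW i ++ yw7) (yw7 ++ rW i)) &&
  Nat.beq (key (rW 0)) (key []) && Nat.beq (key (rW 1)) (key zw) &&
  (y32.all fun n => ltB n 384 && (List.range 8).any fun i => (List.range 4).any fun j =>
    same (yEW n) (rW i ++ vW j)) &&
  ((List.range 8).all fun i => (List.range 8).all fun j => Nat.beq i j || ((List.range 4).all fun k =>
    !same (rW i ++ vW k) (rW j))) &&
  ((List.range 8).all fun i => ltB i 2 || (List.range 8).any fun j => (List.range 4).all fun k =>
    !same (rW i ++ rW j) (rW j ++ (rW i ++ vW k))) &&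
  (ok g1w && same (g1w ++ uw) (uw ++ g1w) && same (g1w ++ yw7) (yw7 ++ g1w) && pureB g1w &&
    same (g1w ++ g1w) [] && !same g1w zw && pureB (zw ++ g1w) &&
    ((List.range 4).all fun k => !same g1w (vW k) && !same g1w (zw ++ vW k))) &&
  (ok ew && same (ew ++ uw) (uw ++ ew) && same (ew ++ yw7) (yw7 ++ ew) &&
    (List.range 4).any fun k => same (g1w ++ ew) (ew ++ (zw ++ (g1w ++ vW k)))) &&
  (ok vw && same (vw ++ uw) (uw ++ vw) && same (vw ++ yw7) (yw7 ++ vw) &&
    ((List.range 4).any fun k => same (vw ++ vw) (vW k)) &&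
    (List.range 4).all fun k => !pureB (vw ++ vW k) && !same vw (vW k)) &&
  (ok rw4 && same (rw4 ++ uw) (uw ++ rw4) && same (rw4 ++ yw7) (yw7 ++ rw4) &&
    (List.range 4).any fun k => same (rw4 ++ rw4) (zw ++ vW k)) &&
  ((List.range 4).all fun k => Nat.beq k 0 || !pureB (zw ++ vW k)) &&
  (ok zaw && same (zaw ++ yw7) (yw7 ++ zaw) && same (zaw ++ zaw) zw) &&
  (ok zxw && Nat.beq (tC.run 0 zxw) 0 && same (zxw ++ zxw) zw) &&
  (pureB (zw ++ xw) && !same zw xw)

theorem four_ok : fourOK = true := by decide +kernel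

end CfsgLib.CoThreeUniq
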