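import Cfsg.Agent.Lib.CoThreeUniq.DataChains

/-!
Kernel checks of the chains.
-/

set_option autoImplicit false
set_option linter.style.longLine false
set_option Elab.async false

namespace CfsgLib.CoThreeUniq
open CfsgLib.CosetEnum CfsgLib.TwistCoset
theorem top_lev0 : levOK tC [] 630 topGens0 topEnts0 = true := by decide +kernel

theorem top_len0 : topEnts0.length = 239 := by decide +kernel

theorem top_lev1 : levOK tC [630] 631 topGens1 topEnts1 = true := by decide +kernel

theorem top_len1 : topEnts1.length = 125 := by decide +kernel

theorem top_lev2 : levOK tC [631,630] 635 topGens2 topEnts2 = true := by decide +kernel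

theorem top_len2 : topEnts2.length = 11 := by decide +kernel

theorem top_lev3 : levOK tC [635,631,630] 633 topGens3 topEnts3 = true := by decide +kernel

theorem top_len3 : topEnts3.length = 7 := by decide +kernel

theorem top_cOK : cOK tC [] topChain = true :=
  cOK_tree top_lev0 (cOK_tree top_lev1 (cOK_tree top_lev2 (cOK_tree top_lev3 (cOK_nil))))

theorem top_size : cSize topChain = 2903040 := by
  simp [topChain, cSize, treeLev_length, top_len0, top_len1, top_len2, top_len3]

theorem fix_lev0 : levOK tC [] 0 fixGens0 fixEnts0 = true := by decide +kernel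

theorem fix_len0 : fixEnts0.length = 629 := by decide +kernel

theorem fix_lev1 : levOK tC [0] 12 fixGens1 fixEnts1 = true := by decide +kernel

theorem fix_len1 : fixEnts1.length = 35 := by decide +kernel

theorem fix_lev2 : levOK tC [12,0] 16 fixGens2 fixEnts2 = true := by decide +kernel

theorem fix_len2 : fixEnts2.length = 7 := by decide +kernel

theorem fix_lev3 : levOK tC [16,12,0] 630 fixGens3 fixEnts3 = true := by decide +kernel

theorem fix_len3 : fixEnts3.length = 3 := by decide +kernel

theorem fix_lev4 : levOK tC [630,16,12,0] 631 fixGens4 fixEnts4 = true := by decide +kernel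

theorem fix_len4 : fixEnts4.length = 1 := by decide +kernel

theorem fix_lev5 : levOK tC [631,630,16,12,0] 635 fixGens5 fixEnts5 = true := by decide +kernel

theorem fix_len5 : fixEnts5.length = 1 := by decide +kernel

theorem fix_cOK : cOK tC [] fixChain = true :=
  cOK_tree fix_lev0 (cOK_tree fix_lev1 (cOK_tree fix_lev2 (cOK_tree fix_lev3 (cOK_tree fix_lev4 (cOK_tree fix_lev5 (cOK_nil))))))

theorem fix_size : cSize fixChain = 2903040 := by
  simp [fixChain, cSize, treeLev_length, fix_len0, fix_len1, fix_len2, fix_len3, fix_len4, fix_len5]

theorem sub_lev0 : levOK tC [] 0 subGens0 subEnts0 = true := by decide +kernel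

theorem sub_len0 : subEnts0.length = 629 := by decide +kernel

theorem sub_lev1 : levOK tC [0] 630 subGens1 subEnts1 = true := by decide +kernel

theorem sub_len1 : subEnts1.length = 23 := by decide +kernel

theorem sub_lev2 : levOK tC [630,0] 631 subGens2 subEnts2 = true := by decide +kernel

theorem sub_len2 : subEnts2.length = 5 := by decide +kernel

theorem sub_lev3 : levOK tC [631,630,0] 635 subGens3 subEnts3 = true := by decide +kernel

theorem sub_len3 : subEnts3.length = 7 := by decide +kernel

theorem sub_lev4 : levOK tC [635,631,630,0] 633 subGens4 subEnts4 = true := by decide +kernel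

theorem sub_len4 : subEnts4.length = 3 := by decide +kernel

theorem sub_cOK : cOK tC [] subChain = true :=
  cOK_tree sub_lev0 (cOK_tree sub_lev1 (cOK_tree sub_lev2 (cOK_tree sub_lev3 (cOK_tree sub_lev4 (cOK_nil)))))

theorem sub_size : cSize subChain = 2903040 := by
  simp [subChain, cSize, treeLev_length, sub_len0, sub_len1, sub_len2, sub_len3, sub_len4]

theorem xch_lev0 : levOK tC [] 630 xchGens0 xchEnts0 = true := by decide +kernel

theorem xch_len0 : xchEnts0.length = 23 := by decide +kernel

theorem xch_lev1 : levOK tC [630] 631 xchGens1 xchEnts1 = true := by decide +kernel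

theorem xch_len1 : xchEnts1.length = 5 := by decide +kernel

theorem xch_lev2 : levOK tC [631,630] 635 xchGens2 xchEnts2 = true := by decide +kernel

theorem xch_len2 : xchEnts2.length = 7 := by decide +kernel

theorem xch_lev3 : levOK tC [635,631,630] 633 xchGens3 xchEnts3 = true := by decide +kernel

theorem xch_len3 : xchEnts3.length = 3 := by decide +kernel

theorem xch_cOK : cOK tC [] xchChain = true :=
  cOK_tree xch_lev0 (cOK_tree xch_lev1 (cOK_tree xch_lev2 (cOK_tree xch_lev3 (cOK_nil))))

theorem xch_size : cSize xchChain = 4608 := by
  simp [xchChain, cSize, treeLev_length, xch_len0, xch_len1, xch_len2, xch_len3]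

theorem vec_lev0 : levOK tC [] 871 vecGens0 vecEnts0 = true := by decide +kernel

theorem vec_len0 : vecEnts0.length = 62 := by decide +kernel

theorem vec_lev1 : levOK tC [871] 872 vecGens1 vecEnts1 = true := by decide +kernel

theorem vec_len1 : vecEnts1.length = 29 := by decide +kernel

theorem vec_lev2 : levOK tC [872,871] 874 vecGens2 vecEnts2 = true := by decide +kernel

theorem vec_len2 : vecEnts2.length = 11 := by decide +kernel

theorem vec_lev3 : levOK tC [874,872,871] 878 vecGens3 vecEnts3 = true := by decide +kernel

theorem vec_len3 : vecEnts3.length = 7 := by decide +kernel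

theorem vec_lev4 : levOK tC [878,874,872,871] 886 vecGens4 vecEnts4 = true := by decide +kernel

theorem vec_len4 : vecEnts4.length = 3 := by decide +kernel

theorem vec_lev5 : levOK tC [886,878,874,872,871] 902 vecGens5 vecEnts5 = true := by decide +kernel

theorem vec_len5 : vecEnts5.length = 1 := by decide +kernel

theorem vec_cOK : cOK tC [] vecChain = true :=
  cOK_tree vec_lev0 (cOK_tree vec_lev1 (cOK_tree vec_lev2 (cOK_tree vec_lev3 (cOK_tree vec_lev4 (cOK_tree vec_lev5 (cOK_nil))))))

theorem vec_size : cSize vecChain = 1451520 := by
  simp [vecChain, cSize, treeLev_length, vec_len0, vec_len1, vec_len2, vec_len3, vec_len4, vec_len5]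

end CfsgLib.CoThreeUniq
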