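import Cfsg.Agent.Lib.CoThreeUniq.DataTab

/-!
Words for the relation of the product of order three.
-/

set_option autoImplicit false
set_option linter.style.longLine false

namespace CfsgLib.CoThreeUniq
open CfsgLib.CosetEnum CfsgLib.TwistCoset

/-- words of the inverses of the possible values -/
noncomputable def cInvW : List (ℕ × List ℕ) := [(0, []), (7, [0,0,0,5,1,5]), (8, [0,4,1,1,1,4]), (15, [0,7,0,7])]

end CfsgLib.CoThreeUniq
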