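import Cfsg.Agent.Lib.Leech.Mult.Check

/-!
Composition of tables on one number.
-/

set_option autoImplicit false

namespace CfsgLib.CoThreeUniq.PackMul

open CfsgLib.Golay CfsgLib.Leech CfsgLib.Leech.Mult

attribute [local irreducible] CfsgLib.Leech.key keyL coord packB linL bits

theorem and_split (x o : ℕ) : x &&& (1 + 16777216 * o) = x % 2 + 16777216 * (x / 16777216 &&& o) := by
  refine Nat.eq_of_testBit_eq fun j => ?_
  rw [show (16777216 : ℕ) = 2 ^ 24 from rfl, Nat.add_comm 1, Nat.add_comm (x % 2), Nat.testBit_and,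
    Nat.testBit_two_pow_mul_add _ (show 1 < 2 ^ 24 by norm_num),
    Nat.testBit_two_pow_mul_add _ (lt_trans (Nat.mod_lt x (by norm_num : 0 < 2)) (by norm_num : 2 < 2 ^ 24))]
  by_cases h : j < 24
  · simp only [h, if_true]
    rcases j with _ | j
    · simp [Nat.testBit_zero]
    · simp [Nat.testBit_succ, show x % 2 / 2 = 0 by omega]
  · simp only [h, if_false, Nat.testBit_and, Nat.testBit_div_two_pow]
    rw [show j - 24 + 24 = j by omega]

theorem xor_split {a b : ℕ} (ha : a < 16777216) (hb : b < 16777216) (x y : ℕ) :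
    (a + 16777216 * x) ^^^ (b + 16777216 * y) = (a ^^^ b) + 16777216 * (x ^^^ y) := by
  refine Nat.eq_of_testBit_eq fun j => ?_
  rw [show (16777216 : ℕ) = 2 ^ 24 from rfl] at *
  rw [Nat.add_comm a, Nat.add_comm b, Nat.add_comm (a ^^^ b), Nat.testBit_xor,
    Nat.testBit_two_pow_mul_add _ ha, Nat.testBit_two_pow_mul_add _ hb,
    Nat.testBit_two_pow_mul_add _ (Nat.xor_lt_two_pow ha hb)]
  by_cases h : j < 24 <;> simp [h]

/-- one in each block -/
def onesN : ℕ → ℕ
  | 0 => 0
  | n + 1 => 1 + 16777216 * onesN n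

/-- one in each of the twenty-four blocks -/
noncomputable def ONES : ℕ := 0x1000001000001000001000001000001000001000001000001000001000001000001000001000001000001000001000001000001000001000001000001000001000001000001

theorem ONES_eq : ONES = onesN 24 := by decide +kernel

theorem block_mul {i r : ℕ} (hi : i < 24) : ∀ {d : List ℕ}, (∀ a ∈ d, a < 16777216) →
    ((packC d / 2 ^ i) &&& onesN d.length) * r = packC (d.map fun a => if a.testBit i then r else 0)
  | [], _ => by simp [packC, onesN]
  | a :: d, h => by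
    rw [List.forall_mem_cons] at h
    have ih := block_mul (r := r) hi h.2
    have e : packC (a :: d) = a + 16777216 * packC d := rfl
    have h1 : (a + 16777216 * packC d) / 2 ^ i % 2 = if a.testBit i then 1 else 0 := by
      have h2 : (a + 16777216 * packC d) / 2 ^ i = a / 2 ^ i + 2 ^ (24 - i) * packC d := by
        rw [show (16777216 : ℕ) = 2 ^ i * 2 ^ (24 - i) by rw [← pow_add, show i + (24 - i) = 24 by omega]; rfl,
          mul_assoc, Nat.add_mul_div_left _ _ (pow_pos (by norm_num) i)]
      rw [h2, show (2 : ℕ) ^ (24 - i) = 2 * 2 ^ (23 - i) by rw [← pow_succ']; congr 1; omega, mul_assoc,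
        Nat.add_mul_mod_self_left, Nat.testBit_eq_decide_div_mod_eq]
      rcases Nat.mod_two_eq_zero_or_one (a / 2 ^ i) with h | h <;> simp [h]
    have h3 : (a + 16777216 * packC d) / 2 ^ i / 16777216 = packC d / 2 ^ i := by
      rw [Nat.div_div_eq_div_mul, Nat.mul_comm (2 ^ i), ← Nat.div_div_eq_div_mul,
        Nat.add_mul_div_left _ _ (show 0 < 16777216 by norm_num), Nat.div_eq_of_lt h.1, zero_add]
    rw [List.length_cons, onesN, e, and_split, h1, h3, List.map_cons,
      show ∀ (x : ℕ) l, packC (x :: l) = x + 16777216 * packC l from fun _ _ => rfl, ← ih]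
    split <;> ring

theorem comb_lt : ∀ {c : List ℕ} (k : ℕ), (∀ r ∈ c, r < 16777216) → comb c k < 16777216
  | [], _, _ => by norm_num [comb]
  | r :: c, k, h => by
    rw [List.forall_mem_cons] at h
    rw [comb, show (16777216 : ℕ) = 2 ^ 24 from rfl]
    refine Nat.xor_lt_two_pow ?_ (comb_lt _ h.2)
    split
    exacts [h.1, by norm_num]

/-- apply a table to every block -/
noncomputable def mulP (c : List ℕ) (D : ℕ) : ℕ :=
  List.rec (motive := fun _ => ℕ → ℕ) (fun _ => 0)
    (fun r _ ih i => Nat.xor (Nat.mul (Nat.land (Nat.shiftRight D i) ONES) r) (ih (Nat.succ i))) c 0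

theorem packC_xor : ∀ {u v : List ℕ}, u.length = v.length → (∀ a ∈ u, a < 16777216) → (∀ a ∈ v, a < 16777216) →
    packC u ^^^ packC v = packC (List.zipWith (· ^^^ ·) u v)
  | [], [], _, _, _ => rfl
  | a :: u, b :: v, hl, hu, hv => by
    rw [List.forall_mem_cons] at hu hv
    simp only [List.length_cons, Nat.add_right_cancel_iff] at hl
    show (a + 16777216 * packC u) ^^^ (b + 16777216 * packC v) = _
    rw [xor_split hu.1 hv.1, packC_xor hl hu.2 hv.2]
    rfl

theorem packC_zero : ∀ d : List ℕ, packC (d.map fun _ => 0) = 0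
  | [] => rfl
  | a :: d => by
    show 0 + 16777216 * packC (d.map fun _ => 0) = 0
    rw [packC_zero d]

theorem mulP_aux {d : List ℕ} (hd : d.length = 24) (hb : ∀ a ∈ d, a < 16777216) :
    ∀ (c : List ℕ) (i : ℕ), i + c.length ≤ 24 → (∀ r ∈ c, r < 16777216) →
      (List.rec (motive := fun _ => ℕ → ℕ) (fun _ => 0)
        (fun r _ ih i => Nat.xor (Nat.mul (Nat.land (Nat.shiftRight (packC d) i) ONES) r) (ih (Nat.succ i))) c i) =
        packC (d.map fun a => comb c (a / 2 ^ i))
  | [], i, _, _ => by
    show 0 = _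
    simp only [comb]
    rw [packC_zero]
  | r :: c, i, hi, hc => by
    rw [List.forall_mem_cons] at hc
    rw [List.length_cons] at hi
    show Nat.xor (Nat.mul (Nat.land (Nat.shiftRight (packC d) i) ONES) r) _ = _
    rw [mulP_aux hd hb c (i + 1) (by omega) hc.2]
    show ((packC d >>> i) &&& ONES) * r ^^^ _ = _
    rw [Nat.shiftRight_eq_div_pow, ONES_eq, ← hd, block_mul (by omega) hb, packC_xor (by simp) (fun x hx => ?_)
      (fun x hx => ?_)]
    · congr 1
      rw [List.zipWith_map, List.zipWith_self]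
      refine List.map_congr_left fun a _ => ?_
      rw [comb, Nat.div_div_eq_div_mul, ← pow_succ, Nat.testBit_eq_decide_div_mod_eq]
      congr 1
      simp [decide_eq_true_eq]
    · obtain ⟨a, -, rfl⟩ := List.mem_map.mp hx
      split
      exacts [hc.1, by norm_num]
    · obtain ⟨a, -, rfl⟩ := List.mem_map.mp hx
      exact comb_lt _ hc.2

/-- twenty-four numbers of twenty-four bits -/
def Good (d : List ℕ) : Prop := d.length = 24 ∧ ∀ a ∈ d, a < 16777216

theorem mulP_eq {c d : List ℕ} (hc : Good c) (hd : Good d) : mulP c (packC d) = packC (mulC c d) := by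
  rw [mulP, mulP_aux hd.1 hd.2 c 0 (by rw [hc.1]) hc.2, mulC]
  simp

theorem good_mulC {c d : List ℕ} (hc : Good c) (hd : Good d) : Good (mulC c d) :=
  ⟨by rw [mulC, List.length_map, hd.1], fun a ha => by
    obtain ⟨k, -, rfl⟩ := List.mem_map.mp ha
    exact comb_lt _ hc.2⟩

theorem packC_inj : ∀ {u v : List ℕ}, u.length = v.length → (∀ a ∈ u, a < 16777216) → (∀ a ∈ v, a < 16777216) →
    packC u = packC v → u = v
  | [], [], _, _, _, _ => rfl
  | a :: u, b :: v, hl, hu, hv, h => by
    rw [List.forall_mem_cons] at hu hv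
    simp only [List.length_cons, Nat.add_right_cancel_iff] at hl
    change a + 16777216 * packC u = b + 16777216 * packC v at h
    have h1 : a = b := by omega
    rw [h1, packC_inj hl hu.2 hv.2 (by omega)]

theorem good_pow2L : Good pow2L := by
  refine ⟨rfl, ?_⟩
  decide +kernel

theorem good_tabOf (x : ℕ) : Good (unpackC x) :=
  ⟨by simp [unpackC], fun a ha => by
    obtain ⟨j, -, rfl⟩ := List.mem_map.mp ha
    exact Nat.mod_lt _ (by norm_num)⟩

end CfsgLib.CoThreeUniq.PackMul
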