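import Cfsg.Agent.Lib.CoThreeUniq.Swap
import Cfsg.Agent.Lib.CoThreeUniq.DataCo
import Cfsg.Agent.Lib.CoThreeUniq.DataRel
import Cfsg.Agent.Lib.CoThreeUniq.PackMul
import Cfsg.Agent.S2071
import Cfsg.Agent.Lib.Leech.StabSimple

/-!
The double cover inside the vector stabiliser, with an exchanging element.
-/

set_option autoImplicit false
set_option Elab.async false
set_option maxRecDepth 20000

namespace CfsgLib.CoThreeUniq

open Cfsg CfsgLib.CosetEnum CfsgLib.TwistCoset CfsgLib.Golay CfsgLib.Leech CfsgLib.Leech.Mult CfsgLib.Leech.OutStab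

attribute [local irreducible] dL bL CfsgLib.Leech.key keyL coord packB linL bits stabOK

/-- the vector stabiliser -/
abbrev Co : Type := ↥(stabL threeV_inL)

theorem co_card : Nat.card Co = 495766656000 := by
  rw [natCard_stab48 Cfsg.Agent.S2071.sqNorm_threeV]

instance co_finite : Finite Co := Nat.finite_of_card_ne_zero (by rw [co_card]; norm_num)

theorem co_simple : IsSimpleGroup Co := (isCo3_stab Cfsg.Agent.S2071.sqNorm_threeV).1

theorem exists_rep (i : ℕ) (hi : i < threeCert.T.length) :
    ∃ g : Co, Rep threeV_inL g (tabOf threeCert.T i) := by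
  have he := three_elts
  have h := he
  simp only [Cert.eltsOK, Bool.and_eq_true, beq_iff_eq] at h
  obtain ⟨g, -, hg⟩ := slp_mem (hV := threeV_inL) ⊤ three_prog
    ⟨gX threeV_inL threeCert he, trivial, h.1.1.1.2 ▸ rep_gX threeV_inL threeCert he⟩
    ⟨gC threeV_inL threeCert, trivial, h.1.1.2 ▸ rep_gC threeV_inL threeCert he⟩ i hi
  exact ⟨g, hg⟩

/-- an element for each table -/
noncomputable def coElt (i : ℕ) : Co := if hi : i < threeCert.T.length then (exists_rep i hi).choose else 1

theorem rep_coElt {i : ℕ} (hi : i < threeCert.T.length) : Rep threeV_inL (coElt i) (tabOf threeCert.T i) := by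
  rw [coElt, dif_pos hi]
  exact (exists_rep i hi).choose_spec

/-- the images of the letters and of the exchanging element -/
noncomputable def cg (c : ℕ) : Co := ((coW.getD c []).map coElt).prod

/-- the table of a letter -/
def cTab (c : ℕ) : List ℕ := coTabs.getD c pow2L

open PackMul in
/-- an element and its table on one number -/
def RepP (g : Co) (D : ℕ) : Prop := ∃ c, Rep threeV_inL g c ∧ Good c ∧ packC c = D

/-- the product of tables on one number -/
noncomputable def foldP (cs : List (List ℕ)) : ℕ := cs.foldr PackMul.mulP (packC pow2L)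

/-- the packed table of a word -/
noncomputable def cwP (w : List ℕ) : ℕ := foldP (w.map cTab)

theorem repP_foldP {ι : Type*} (g : ι → Co) (c : ι → List ℕ) :
    ∀ l : List ι, (∀ i ∈ l, Rep threeV_inL (g i) (c i) ∧ PackMul.Good (c i)) →
      RepP (l.map g).prod (foldP (l.map c))
  | [], _ => ⟨pow2L, rep_one _, PackMul.good_pow2L, rfl⟩
  | i :: l, h => by
    rw [List.forall_mem_cons] at h
    obtain ⟨d, h1, h2, h3⟩ := repP_foldP g c l h.2
    refine ⟨mulC (c i) d, h.1.1.mul _ h1, PackMul.good_mulC h.1.2 h2, ?_⟩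
    rw [List.map_cons, foldP, List.foldr_cons, ← foldP, ← h3, PackMul.mulP_eq h.1.2 h2]

theorem repP_unique {g h : Co} {D : ℕ} (hg : RepP g D) (hh : RepP h D) : g = h := by
  obtain ⟨c, c1, c2, c3⟩ := hg
  obtain ⟨d, d1, d2, d3⟩ := hh
  have e : c = d := PackMul.packC_inj (c2.1.trans d2.1.symm) c2.2 d2.2 (c3.trans d3.symm)
  exact Rep.eq threeV_inL (ne_zero threeV_inL threeCert three_elts) c1 (e ▸ d1)

/-- the letters are products of the tables -/
noncomputable def coWOK : Bool :=
  (coW.all fun w => w.all fun i => decide (i < threeCert.T.length)) &&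
  ((List.range 12).all fun c =>
    Nat.beq (foldP ((coW.getD c []).map (tabOf threeCert.T))) (packC (cTab c)) &&
      Nat.beq (cTab c).length 24 && (cTab c).all fun a => Nat.blt a 16777216) &&
  Nat.beq coW.length 12 && Nat.beq coTabs.length 12

theorem coW_ok : coWOK = true := by decide +kernel

theorem rep_cg (c : ℕ) : Rep threeV_inL (cg c) (cTab c) ∧ PackMul.Good (cTab c) := by
  have h := coW_ok
  simp only [coWOK, Bool.and_eq_true, List.all_eq_true, List.mem_range, decide_eq_true_eq, Nat.beq_eq,
    Nat.blt_eq] at h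
  obtain ⟨⟨⟨hlt, heq⟩, hl⟩, hl'⟩ := h
  by_cases hc : c < 12
  · obtain ⟨⟨e, hg1⟩, hg2⟩ := heq c hc
    have hw : ∀ i ∈ coW.getD c [], i < threeCert.T.length := by
      rw [List.getD_eq_getElem _ _ (hl.symm ▸ hc)]
      exact hlt _ (List.getElem_mem (hl.symm ▸ hc))
    obtain ⟨d, d1, d2, d3⟩ := repP_foldP coElt (tabOf threeCert.T) (coW.getD c [])
      fun i hi => ⟨rep_coElt (hw i hi), PackMul.good_tabOf _⟩
    rw [e] at d3
    have hd : d = cTab c := PackMul.packC_inj (d2.1.trans hg1.symm) d2.2 hg2 d3
    exact ⟨hd ▸ d1, hg1, hg2⟩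
  · rw [cg, cTab, List.getD_eq_default _ _ (by omega), List.getD_eq_default _ _ (by omega)]
    exact ⟨rep_one _, PackMul.good_pow2L⟩

/-- the value of a word -/
noncomputable def cEv (w : List ℕ) : Co := prodW cg w

theorem rep_cEv (w : List ℕ) : RepP (cEv w) (cwP w) := repP_foldP cg cTab w fun i _ => rep_cg i

theorem co_eq {u w : List ℕ} (h : Nat.beq (cwP u) (cwP w) = true) : cEv u = cEv w :=
  repP_unique (rep_cEv u) (Nat.eq_of_beq_eq_true h ▸ rep_cEv w)

theorem co_one {u : List ℕ} (h : Nat.beq (cwP u) (cwP []) = true) : cEv u = 1 :=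
  co_eq (u := u) (w := []) h

/-- the checks in the vector stabiliser -/
noncomputable def coOK : Bool :=
  ((List.range 11).all fun c => Nat.beq (cwP [c, tC.inv c]) (cwP [])) &&
  ((certA.rels ++ certB.rels ++ certC.rels).all fun r => Nat.beq (cwP r) (cwP [])) &&
  Nat.beq (cwP [11, 11]) (cwP []) &&
  ((List.range 4).all fun j => Nat.beq (cwP (glW j ++ [11])) (cwP ([11] ++ gWord (thW 4 j)))) &&
  Nat.beq (cwP ([11] ++ ksW ++ ([11] ++ ksW ++ ([11] ++ ksW)))) (cwP (eW 15)) &&
  ((List.range 2).all fun i => Nat.beq (cwP (coT.getD i [])) (packC (tabOf threeCert.T i))) &&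
  (coT.all fun w => w.all fun c => decide (c < 12)) &&
  (zw.all fun c => decide (c < 11))

theorem co_checks : coOK = true := by decide +kernel

theorem co_inv {c : ℕ} (hc : c < 11) : cg c * cg (tC.inv c) = 1 := by
  have h := co_checks
  simp only [coOK, Bool.and_eq_true, List.all_eq_true, List.mem_range] at h
  simpa [cEv] using co_one (h.1.1.1.1.1.1.1 c hc)

/-- the letters in both groups -/
noncomputable def pg (c : ℕ) : P × Co := (g0 c, if c < 11 then cg c else 1)

/-- the first letters in both groups -/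
noncomputable def pK (k c : ℕ) : P × Co := if c < k then pg c else 1

theorem prodW_pg : ∀ {w : List ℕ}, (∀ c ∈ w, c < 11) → prodW pg w = (pw w, cEv w)
  | [], _ => rfl
  | c :: w, h => by
    rw [List.forall_mem_cons] at h
    rw [prodW_cons, prodW_pg h.2, pg, if_pos h.1, Prod.mk_mul_mk]
    simp only [pw, cEv, prodW_cons]

theorem card_pg_le {C : CosetEnum.Cert} {k : ℕ} (c : C.Complete) (hK : C.K = k) (hk : k ≤ 11)
    (hi : invsOK k C.invs = true) (hr : relsOK C.rels = true) (hc : ∀ r ∈ C.rels, cEv r = 1)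
    (hrl : (C.rels.all fun r => r.all fun g => Nat.blt g k) = true) {H : Subgroup (P × Co)}
    (hs : (C.subs.all fun w => w.all fun g => Nat.blt g k) = true)
    (hH : ∀ w ∈ C.subs, prodW pg w ∈ H) {n : ℕ} (hn : Nat.card H ≤ n) :
    Nat.card (Subgroup.closure {y | ∃ g < k, pg g = y}) ≤ C.N * n := by
  simp only [List.all_eq_true, Nat.blt_eq] at hrl hs
  simp only [invsOK, Bool.and_eq_true, List.all_eq_true, List.mem_range, Nat.blt_eq] at hi
  obtain ⟨hi, hlen⟩ := hi
  have hlen' := Nat.eq_of_beq_eq_true hlen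
  have hp : ∀ {w : List ℕ}, (∀ g ∈ w, g < k) → prodW (pK k) w = prodW pg w := fun h =>
    prodW_congr fun g hg => if_pos (h g hg)
  have m : Model C H (pK k) :=
    { gen_K := by rw [hK]; simp [pK]
      inv_mul := fun g => by
        rcases Nat.lt_or_ge g k with hg | hg
        · obtain ⟨h1, h2⟩ := hi g hg
          rw [pK, pK, if_pos hg, if_pos (show C.inv g < k from h1),
            show C.inv g = tC.inv g from Nat.eq_of_beq_eq_true h2, pg, pg, if_pos (by omega),
            if_pos (inv_lt (by omega)).1, Prod.mk_mul_mk, g0_inv, co_inv (by omega)]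
          rfl
        · rw [show C.inv g = g from by rw [Cert.inv, List.getD_eq_default _ _ (by omega)]]
          simp [pK, Nat.not_lt.mpr hg]
      rel := fun r hr' => by
        rw [hp (hrl r hr'), prodW_pg fun g hg => lt_of_lt_of_le (hrl r hr' g hg) hk, rel_of_ok hr r hr', hc r hr']
        rfl
      sub := fun w hw => by
        rw [hp (hs w hw)]
        exact hH w hw }
  have h := (finite_card_le c m n hn).2
  rw [hK] at h
  have e : {y | ∃ g < k, pK k g = y} = {y | ∃ g < k, pg g = y} := by
    ext y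
    constructor <;> rintro ⟨g, hg, rfl⟩ <;> exact ⟨g, hg, by simp [pK, hg]⟩
  rwa [e] at h

theorem exists_psi : ∃ ψ : P →* Co, ∀ w, (∀ c ∈ w, c < 11) → ψ (pw w) = cEv w := by
  have h := co_checks
  simp only [coOK, Bool.and_eq_true, List.all_eq_true, List.mem_range] at h
  have hrels : ∀ r, r ∈ certA.rels ++ certB.rels ++ certC.rels → cEv r = 1 := fun r hr =>
    co_one (h.1.1.1.1.1.1.2 r hr)
  have hsub : ∀ {C : CosetEnum.Cert} {j : ℕ}, C.subs = (List.range j).map (fun g => [g]) →
      ∀ w ∈ C.subs, prodW pg w ∈ Subgroup.closure {y | ∃ g < j, pg g = y} := by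
    intro C j hs w hw
    rw [hs, List.mem_map] at hw
    obtain ⟨g, hg, rfl⟩ := hw
    exact Subgroup.subset_closure ⟨g, List.mem_range.mp hg, by simp⟩
  have hA := card_pg_le certA_complete (k := 6) rfl (by norm_num) (by decide +kernel) relsA_ok
    (fun r hr => hrels r (by simp [hr])) (by decide +kernel) (H := ⊥) (by decide +kernel) (fun w hw => by
      rw [show certA.subs = [] from rfl] at hw; simp at hw) (n := 1) (by simp)
  have hB := card_pg_le certB_complete (k := 9) rfl (by norm_num) (by decide +kernel) relsB_ok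
    (fun r hr => hrels r (by simp [hr])) (by decide +kernel) (by decide +kernel)
    (hsub (C := certB) (j := 6) rfl) hA
  have hC := card_pg_le certC_complete (k := 11) rfl le_rfl (by decide +kernel) relsC_ok
    (fun r hr => hrels r (by simp [hr])) (by decide +kernel) (by decide +kernel)
    (hsub (C := certC) (j := 9) rfl) hB
  rw [show certA.N = 1536 from rfl, show certB.N = 14 from rfl, show certC.N = 135 from rfl] at hC
  set Γ := Subgroup.closure {y : P × Co | ∃ g < 11, pg g = y}
  have hs : Function.Surjective ((MonoidHom.fst P Co).comp Γ.subtype) := by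
    intro a
    obtain ⟨w, hw, rfl⟩ := exists_word a
    refine ⟨⟨prodW pg w, list_prod_mem fun x hx => ?_⟩, ?_⟩
    · obtain ⟨g, hg, rfl⟩ := List.mem_map.mp hx
      exact Subgroup.subset_closure ⟨g, ok_iff.1 hw g hg, rfl⟩
    · show (prodW pg w).1 = pw w
      rw [prodW_pg (ok_iff.1 hw)]
  have hb : Function.Bijective ((MonoidHom.fst P Co).comp Γ.subtype) :=
    hs.bijective_of_nat_card_le (hC.trans (by rw [card_P]))
  refine ⟨((MonoidHom.snd P Co).comp Γ.subtype).comp (MulEquiv.ofBijective _ hb).symm.toMonoidHom,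
    fun w hw => ?_⟩
  have hm : prodW pg w ∈ Γ := list_prod_mem fun x hx => by
    obtain ⟨g, hg, rfl⟩ := List.mem_map.mp hx
    exact Subgroup.subset_closure ⟨g, hw g hg, rfl⟩
  have e : (MulEquiv.ofBijective _ hb).symm (pw w) = ⟨_, hm⟩ := by
    rw [MulEquiv.symm_apply_eq]
    show pw w = (prodW pg w).1
    rw [prodW_pg hw]
  show ((MulEquiv.ofBijective _ hb).symm (pw w) : P × Co).2 = cEv w
  rw [e, show ((⟨prodW pg w, hm⟩ : Γ) : P × Co) = prodW pg w from rfl, prodW_pg hw]

/-- the map of the double cover -/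
noncomputable def psi : P →* Co := exists_psi.choose

theorem psi_pw {w : List ℕ} (hw : ok w = true) : psi (pw w) = cEv w := exists_psi.choose_spec w (ok_iff.1 hw)

/-- the exchanging element -/
noncomputable def delta : Co := cg 11

theorem delta_sq : delta * delta = 1 := by
  have h := co_checks
  simp only [coOK, Bool.and_eq_true] at h
  simpa [cEv, delta] using co_one h.1.1.1.1.1.2

theorem delta_twist {j : ℕ} (hj : j < 4) : psi (gl j) * delta = delta * psi (pw (gWord (thW 4 j))) := by
  have h := co_checks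
  simp only [coOK, Bool.and_eq_true, List.all_eq_true, List.mem_range] at h
  have e := co_eq (h.1.1.1.1.2 j hj)
  rw [gl, psi_pw (ok_glW j), psi_pw (ok_gWord _)]
  simpa [cEv, prodW_append, delta] using e

theorem delta_ks : delta * psi (pw ksW) * (delta * psi (pw ksW) * (delta * psi (pw ksW))) = psi (eE 15) := by
  have h := co_checks
  simp only [coOK, Bool.and_eq_true, List.all_eq_true, List.mem_range] at h
  have e := co_eq h.1.1.1.2
  have hk := ks_ok
  simp only [ksOK, Bool.and_eq_true] at hk
  rw [eE, psi_pw (eW_facts (by norm_num)).1, psi_pw hk.1]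
  simpa [cEv, prodW_append, delta, mul_assoc] using e

theorem co_gen : Subgroup.closure (insert delta (psi.range : Set Co)) = ⊤ := by
  have h := co_checks
  simp only [coOK, Bool.and_eq_true, List.all_eq_true, List.mem_range, decide_eq_true_eq] at h
  obtain ⟨⟨⟨-, hT⟩, hlt⟩, -⟩ := h
  set H := Subgroup.closure (insert delta (psi.range : Set Co))
  have hw : ∀ w : List ℕ, (∀ c ∈ w, c < 12) → cEv w ∈ H := by
    intro w hw
    refine list_prod_mem fun x hx => ?_
    obtain ⟨c, hc, rfl⟩ := List.mem_map.mp hx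
    rcases Nat.lt_or_ge c 11 with hc' | hc'
    · refine Subgroup.subset_closure (Set.mem_insert_of_mem _ ⟨pw [c], ?_⟩)
      rw [psi_pw (by simp [ok, hc'])]
      simp [cEv]
    · obtain rfl : c = 11 := by have := hw c hc; omega
      exact Subgroup.subset_closure (Set.mem_insert _ _)
  have hT' : ∀ i < 2, ∃ g ∈ H, Rep threeV_inL g (tabOf threeCert.T i) := fun i hi => by
    obtain ⟨d, d1, d2, d3⟩ := rep_cEv (coT.getD i [])
    rw [Nat.eq_of_beq_eq_true (hT i hi)] at d3
    refine ⟨cEv (coT.getD i []), hw _ fun c hc => ?_, ?_⟩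
    · by_cases hl : i < coT.length
      · rw [List.getD_eq_getElem _ _ hl] at hc
        exact hlt _ (List.getElem_mem hl) c hc
      · rw [List.getD_eq_default _ _ (Nat.le_of_not_lt hl)] at hc
        simp at hc
    · rwa [← PackMul.packC_inj (v := tabOf threeCert.T i) (d2.1.trans (PackMul.good_tabOf _).1.symm) d2.2
        (PackMul.good_tabOf _).2 d3]
  obtain ⟨a, ha, har⟩ := hT' 0 (by norm_num)
  obtain ⟨b, hb, hbr⟩ := hT' 1 (by norm_num)
  have := closure_eq_top three_prog three_levs har hbr (co_card.le.trans three_bound.ge)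
  rw [eq_top_iff, ← this, Subgroup.closure_le]
  rintro x (rfl | rfl)
  exacts [ha, hb]

end CfsgLib.CoThreeUniq
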