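import Cfsg.Agent.Lib.TwistCoset.Tree
import Cfsg.Agent.Lib.CoThreeUniq.DataTab

/-!
Chains of the stabilisers of the double cosets.
-/

set_option autoImplicit false
set_option linter.style.longLine false

namespace CfsgLib.CoThreeUniq
open CfsgLib.CosetEnum CfsgLib.TwistCoset

/-- level 0 of state 1 -/
noncomputable def st1Ents0 : List ℕ := nOf 34 23 0x170035c005800d8801500360005000d940130035f004800d640110035b004020d5800f0035e0038009f800d003630030009e800b0035d0028009f4009003580020109e4007003610018009dc00500357001000bd40030035a0008009e000100364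

/-- its generators -/
noncomputable def st1Gens0 : List (List ℕ) := [[0,0,7,0,7], [1,8,2,8,6], [4,0,7,0,7]]

/-- as products of facts -/
def st1Wit0 : List (List (ℕ × Bool)) := [[(13,false)], [(14,false)], [(15,false)]]

/-- level 1 of state 1 -/
noncomputable def st1Ents1 : List ℕ := nOf 34 5 0x30427a0010109e40030027d0008109f800100278

/-- its generators -/
noncomputable def st1Gens1 : List (List ℕ) := [[0,3,8,0,8], [2,5,1,9,6]]

/-- as products of facts -/
def st1Wit1 : List (List (ℕ × Bool)) := [[(13,false),(14,true)], [(13,false),(16,false),(15,true)]]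

/-- level 2 of state 1 -/
noncomputable def st1Ents2 : List ℕ := nOf 34 7 0x304281000820a080050427f001020a0000300283000810a100010027c

/-- its generators -/
noncomputable def st1Gens2 : List (List ℕ) := [[4,0,2,5], [9,5,1,8,2,8], [4,9,6,2,5]]

/-- as products of facts -/
def st1Wit2 : List (List (ℕ × Bool)) := [[(15,true),(13,true),(14,true),(15,false)], [(13,false),(14,true),(14,true),(16,false),(14,false)], [(14,false),(14,false),(16,false),(13,true),(16,false)]]

/-- level 3 of state 1 -/
noncomputable def st1Ents3 : List ℕ := nOf 34 3 0x30027d0008009e80010027e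

/-- its generators -/
noncomputable def st1Gens3 : List (List ℕ) := [[6,9,5,1,10,6]]

/-- as products of facts -/
def st1Wit3 : List (List (ℕ × Bool)) := [[(13,false),(13,false),(13,false),(16,false),(14,true)]]

/-- the chain -/
noncomputable def st1Chain : List CLev := [treeLev 630 st1Gens0 st1Ents0, treeLev 631 st1Gens1 st1Ents1, treeLev 635 st1Gens2 st1Ents2, treeLev 633 st1Gens3 st1Ents3]

/-- its witnesses -/
def st1Wits : List (List (ℕ × Bool)) := [st1Wit0, st1Wit1, st1Wit2, st1Wit3].flatten

/-- level 0 of state 2 -/
noncomputable def st2Ents0 : List ℕ := nOf 34 15 0xb003580028109f400a002f5002410d68009003570020109e00070035e0018209e8005003640010109dc00400279000c10d74003003630008109f800100361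

/-- its generators -/
noncomputable def st2Gens0 : List (List ℕ) := [[1,4,0,2,6,5,6], [4,1,2,2,4], [5,9,6,2,6,9]]

/-- as products of facts -/
def st2Wit0 : List (List (ℕ × Bool)) := [[(19,false)], [(20,false)], [(21,false)]]

/-- level 1 of state 2 -/
noncomputable def st2Ents1 : List ℕ := nOf 34 2 0x8009e80010027e

/-- its generators -/
noncomputable def st2Gens1 : List (List ℕ) := [[6,2,10,1,4]]

/-- as products of facts -/
def st2Wit1 : List (List (ℕ × Bool)) := [[(19,false),(20,false),(20,false),(21,false)]]

/-- level 2 of state 2 -/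
noncomputable def st2Ents2 : List ℕ := nOf 34 1 0x10027c

/-- its generators -/
noncomputable def st2Gens2 : List (List ℕ) := [[2,2,2,2]]

/-- as products of facts -/
def st2Wit2 : List (List (ℕ × Bool)) := [[(20,false),(20,false),(20,false),(20,false)]]

/-- the chain -/
noncomputable def st2Chain : List CLev := [treeLev 630 st2Gens0 st2Ents0, treeLev 631 st2Gens1 st2Ents1, treeLev 635 st2Gens2 st2Ents2]

/-- its witnesses -/
def st2Wits : List (List (ℕ × Bool)) := [st2Wit0, st2Wit1, st2Wit2].flatten

/-- level 0 of state 3 -/
noncomputable def st3Ents0 : List ℕ := nOf 34 53 0x33002d800c800c8c031042cf00c000d1c02f002fb00b810ac802d0031f00b000b1c02b082d700a800c60029002ca00a010b8402700300009800a9c02504354009000b48023002e2008830c70023002cd008800b800210431b008000c5c01f002c5007810b7c01d002ff007000ab001b08353006800d20019002fc006010ab401700320005800b30015042d9005000b6801300324004830b5001100278004000bd400f0427d003800d8c00d00364003010d7400b00359002800d7c00908360002000d7800700358001810d5c0050035b001000d880030435c0008009f800100277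

/-- its generators -/
noncomputable def st3Gens0 : List (List ℕ) := [[0,9,3,6,5], [0,4,1,1,1], [3,4,0,2,6,9], (wOf 13 0x7597094751522)]

/-- as products of facts -/
def st3Wit0 : List (List (ℕ × Bool)) := [[(24,false)], [(25,false)], [(27,false)], [(76,false)]]

/-- level 1 of state 3 -/
noncomputable def st3Ents1 : List ℕ := nOf 34 2 0x800b28001002c5

/-- its generators -/
noncomputable def st3Gens1 : List (List ℕ) := [(wOf 13 0x7597094751522)]

/-- as products of facts -/
def st3Wit1 : List (List (ℕ × Bool)) := [[(76,false)]]

/-- level 2 of state 3 -/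
noncomputable def st3Ents2 : List ℕ := nOf 34 1 0x10027c

/-- its generators -/
noncomputable def st3Gens2 : List (List ℕ) := [[2,2,2,2]]

/-- as products of facts -/
def st3Wit2 : List (List (ℕ × Bool)) := [[(25,false),(26,true)]]

/-- the chain -/
noncomputable def st3Chain : List CLev := [treeLev 630 st3Gens0 st3Ents0, treeLev 631 st3Gens1 st3Ents1, treeLev 635 st3Gens2 st3Ents2]

/-- its witnesses -/
def st3Wits : List (List (ℕ × Bool)) := [st3Wit0, st3Wit1, st3Wit2].flatten

/-- level 0 of state 4 -/
noncomputable def st4Ents0 : List ℕ := nOf 34 2 0x800d6800100359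

/-- its generators -/
noncomputable def st4Gens0 : List (List ℕ) := [[0,5,10,1,6]]

/-- as products of facts -/
def st4Wit0 : List (List (ℕ × Bool)) := [[(30,false)]]

/-- level 1 of state 4 -/
noncomputable def st4Ents1 : List ℕ := nOf 34 5 0x40027a000c109e40030027e0008109e00010027d

/-- its generators -/
noncomputable def st4Gens1 : List (List ℕ) := [[2,2,4,3], [1,10,1,4,6,4]]

/-- as products of facts -/
def st4Wit1 : List (List (ℕ × Bool)) := [[(32,false)], [(30,false),(31,false)]]

/-- level 2 of state 4 -/
noncomputable def st4Ents2 : List ℕ := nOf 34 1 0x10027c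

/-- its generators -/
noncomputable def st4Gens2 : List (List ℕ) := [[2,2,2,2]]

/-- as products of facts -/
def st4Wit2 : List (List (ℕ × Bool)) := [[(30,false),(30,false),(30,false)]]

/-- the chain -/
noncomputable def st4Chain : List CLev := [treeLev 630 st4Gens0 st4Ents0, treeLev 631 st4Gens1 st4Ents1, treeLev 635 st4Gens2 st4Ents2]

/-- its witnesses -/
def st4Wits : List (List (ℕ × Bool)) := [st4Wit0, st4Wit1, st4Wit2].flatten

/-- level 0 of state 5 -/
noncomputable def st5Ents0 : List ℕ := nOf 34 29 0x1b002ab006800a400190430f006000b88017002a2005810b3c016002fa005400a580140434d004c00ba40120029f004410b7c010002d1003c00b3800e04353003800cdc00d0032a003010be000b003650028009f000904284002000bb800700333001810b5800500318001000c280030435a000800c9400100310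

/-- its generators -/
noncomputable def st5Gens0 : List (List ℕ) := [[9,0,9,6,10,7], [9,5,10,5,7,9,4,8,5]]

/-- as products of facts -/
def st5Wit0 : List (List (ℕ × Bool)) := [[(59,false)], [(77,false)]]

/-- level 1 of state 5 -/
noncomputable def st5Ents1 : List ℕ := nOf 34 1 0x1002b8

/-- its generators -/
noncomputable def st5Gens1 : List (List ℕ) := [[9,4,10,4,7,5,9,8,4]]

/-- as products of facts -/
def st5Wit1 : List (List (ℕ × Bool)) := [[(77,false),(59,true),(77,false),(59,false),(77,false),(59,true),(77,false),(59,false),(77,false)]]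

/-- the chain -/
noncomputable def st5Chain : List CLev := [treeLev 630 st5Gens0 st5Ents0, treeLev 631 st5Gens1 st5Ents1]

/-- its witnesses -/
def st5Wits : List (List (ℕ × Bool)) := [st5Wit0, st5Wit1].flatten

/-- level 0 of state 6 -/
noncomputable def st6Ents0 : List ℕ := nOf 34 71 0x21002fe008000aa801f04348007800ae001d00337007020cd0035002a200d000aec033042e700c800af8031002f200c020a5c031002c600c000b8802f042ab00b800b4002d002d900b020ac40300032f00bc00c3002e042e900b400c9002c0034b00ac20b7402b0035300a800bf4029042af00a000d1002700327009820b040250031c009000b1c02304305008800a7402100314008020cf00220028b008400a440200428a007c00a3801e00288007420a3c01d002bf007000bcc01b04296006800a8c019002ba006020b98017002d3005800b5c015042ae005000b24013002e0004820aa0011002dc004000c5c00f04350003800c3c00d002f0003020cb000b00307002800cfc0090429c002000bd80070031f001820b4800500364001000d7c003042f5000800d5c0010035c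

/-- its generators -/
noncomputable def st6Gens0 : List (List ℕ) := [[9,1,9,3,4], [1,5,10,5,6], [0,0,6,10,4,8,5,9,1]]

/-- as products of facts -/
def st6Wit0 : List (List (ℕ × Bool)) := [[(37,false)], [(38,false)], [(152,false)]]

/-- level 1 of state 6 -/
noncomputable def st6Ents1 : List ℕ := nOf 34 6 0xc10b38004002f1000c00a1c002042d1000800a24001002e5

/-- its generators -/
noncomputable def st6Gens1 : List (List ℕ) := [(wOf 13 0x3947947717a63), [5,0,5,6,9,6,8,9]]

/-- as products of facts -/
def st6Wit1 : List (List (ℕ × Bool)) := [[(37,false),(152,true),(37,false),(152,true)], [(37,false),(152,true),(37,true),(38,false)]]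

/-- level 2 of state 6 -/
noncomputable def st6Ents2 : List ℕ := nOf 34 2 0x8009f40010027f

/-- its generators -/
noncomputable def st6Gens2 : List (List ℕ) := [[6,4,9,0,7,9,0,5]]

/-- as products of facts -/
def st6Wit2 : List (List (ℕ × Bool)) := [[(37,false),(38,false),(152,true)]]

/-- the chain -/
noncomputable def st6Chain : List CLev := [treeLev 630 st6Gens0 st6Ents0, treeLev 631 st6Gens1 st6Ents1, treeLev 635 st6Gens2 st6Ents2]

/-- its witnesses -/
def st6Wits : List (List (ℕ × Bool)) := [st6Wit0, st6Wit1, st6Wit2].flatten

end CfsgLib.CoThreeUniq
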