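import Mathlib

/-!
Matrices of the letters on six dimensional vectors.
-/

set_option autoImplicit false
set_option linter.style.longLine false

namespace CfsgLib.CoThreeUniq

/-- the matrices, row by row -/
def matRows : List (List ℕ) := [[3,2,33,15,63,6],
  [3,2,34,43,31,7],
  [3,2,32,43,24,7],
  [3,2,33,13,29,4],
  [2,3,7,25,46,35],
  [3,1,6,53,62,34],
  [1,2,34,9,52,6],
  [39,2,42,5,22,43],
  [36,2,44,13,62,11],
  [1,2,4,15,23,39],
  [1,2,4,15,23,39]]

end CfsgLib.CoThreeUniq
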