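import Mathlib

/-!
A finite group with a dihedral Sylow subgroup of order eight that contains the centraliser of its
central involution, inside a subgroup in which two products with a third involution have order five.
-/

set_option autoImplicit false
set_option linter.style.show false

namespace CfsgLib.CoThreeUniq

variable {Q : Type*} [Group Q]

/-- An involution without fixed points on twice an odd number of points is odd. -/
theorem sign_of_free {α : Type*} [Fintype α] [DecidableEq α] {σ : Equiv.Perm α} (h2 : σ * σ = 1)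
    (hfree : ∀ x, σ x ≠ x) {m : ℕ} (hm : Odd m) (hc : Fintype.card α = 2 * m) :
    Equiv.Perm.sign σ = -1 := by
  have hall : ∀ c ∈ σ.cycleType, c = 2 := fun c hc => by
    have h1 := (Equiv.Perm.dvd_of_mem_cycleType hc).trans (orderOf_dvd_of_pow_eq_one (n := 2) (by rw [sq, h2]))
    have := Equiv.Perm.two_le_of_mem_cycleType hc
    have := Nat.le_of_dvd (by norm_num) h1
    omega
  have hrep : σ.cycleType = Multiset.replicate σ.cycleType.card 2 := Multiset.eq_replicate.2 ⟨rfl, hall⟩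
  have hsup : σ.support = Finset.univ := by
    ext x
    simp [hfree x]
  have hsum := σ.sum_cycleType
  rw [hsup, Finset.card_univ, hc, hrep, Multiset.sum_replicate, smul_eq_mul] at hsum
  have hk : σ.cycleType.card = m := by omega
  rw [Equiv.Perm.sign_of_cycleType, hrep, hk, Multiset.sum_replicate, Multiset.card_replicate, smul_eq_mul]
  exact Odd.neg_one_pow (by obtain ⟨j, rfl⟩ := hm; exact ⟨3 * j + 1, by ring⟩)

/-- A homomorphism kills elements of order five in a group whose exponent is prime to five. -/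
theorem map_eq_one_of_five {A B : Type*} [Group A] [Group B] (f : A →* B) {a : A} (h : a ^ 5 = 1)
    (hB : ¬ 5 ∣ Nat.card B) : f a = 1 := by
  rw [← orderOf_eq_one_iff]
  rcases (Nat.dvd_prime (by norm_num)).1 (orderOf_dvd_of_pow_eq_one (n := 5) (show f a ^ 5 = 1 by rw [← map_pow, h, map_one])) with
    h' | h'
  · exact h'
  · exact absurd (h' ▸ orderOf_dvd_natCard (f a)) hB

/-- Two involutions with a product of order five are conjugate in the group they generate. -/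
theorem conj_of_five {s w : Q} (hs : s * s = 1) (hw : w * w = 1) (h : (s * w) ^ 5 = 1) :
    (s * w * (s * w) * (s * w))⁻¹ * s * (s * w * (s * w) * (s * w)) = w := by
  have e1 : s⁻¹ = s := inv_eq_of_mul_eq_one_right hs
  have e2 : w⁻¹ = w := inv_eq_of_mul_eq_one_right hw
  calc (s * w * (s * w) * (s * w))⁻¹ * s * (s * w * (s * w) * (s * w))
      = w⁻¹ * s⁻¹ * (w⁻¹ * s⁻¹) * (w⁻¹ * s⁻¹) * (s * s) * w * (s * w) * (s * w) := by group
    _ = w * s * (w * s) * (w * s) * w * (s * w) * (s * w) := by rw [e1, e2, hs, mul_one]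
    _ = w * (s * w) ^ 5 := by simp only [pow_succ, pow_zero, one_mul, mul_assoc]
    _ = w := by rw [h, mul_one]

open Classical in
/-- The number of conjugates under a subgroup. -/
theorem card_conj_range [Finite Q] (H : Subgroup Q) (s : Q) :
    Nat.card {x : Q // ∃ c ∈ H, c * s * c⁻¹ = x} * Nat.card {c : Q // c ∈ H ∧ c * s = s * c} = Nat.card H := by
  rw [← Nat.card_prod]
  refine Nat.card_eq_of_bijective (fun q => (⟨q.1.2.choose * q.2.1,
    mul_mem q.1.2.choose_spec.1 q.2.2.1⟩ : H)) ⟨fun q r h => ?_, fun a => ?_⟩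
  · have e : q.1.2.choose * q.2.1 = r.1.2.choose * r.2.1 := congrArg Subtype.val h
    have hx : ∀ q : {x : Q // ∃ c ∈ H, c * s * c⁻¹ = x} × {c : Q // c ∈ H ∧ c * s = s * c},
        (q.1.2.choose * q.2.1) * s * (q.1.2.choose * q.2.1)⁻¹ = q.1.1 := fun q => by
      rw [mul_assoc _ q.2.1 s, q.2.2.2, mul_inv_rev]
      conv_rhs => rw [← q.1.2.choose_spec.2]
      group
    have h1 : q.1 = r.1 := Subtype.ext (by rw [← hx q, e, hx r])
    refine Prod.ext h1 (Subtype.ext ?_)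
    obtain ⟨q1, q2⟩ := q
    obtain ⟨r1, r2⟩ := r
    subst h1
    exact mul_left_cancel e
  · let x : {x : Q // ∃ c ∈ H, c * s * c⁻¹ = x} := ⟨a.1 * s * a.1⁻¹, a.1, a.2, rfl⟩
    obtain ⟨hc, he⟩ := x.2.choose_spec
    refine ⟨(x, ⟨x.2.choose⁻¹ * a.1, mul_mem (inv_mem hc) a.2, ?_⟩), Subtype.ext (mul_inv_cancel_left _ _)⟩
    generalize x.2.choose = c at he ⊢
    calc c⁻¹ * a.1 * s = c⁻¹ * (a.1 * s * a.1⁻¹) * a.1 := by group
      _ = c⁻¹ * (c * s * c⁻¹) * a.1 := by rw [he]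
      _ = s * (c⁻¹ * a.1) := by group

open Classical in
/-- The subgroup is everything. -/
theorem eq_top_of_five [Finite Q] (N K : Subgroup Q) {s g v e r w : Q}
    (hK : ∀ x, x * s = s * x ↔ x ∈ K) (hKN : K ≤ N) (hK8 : Nat.card K = 8)
    (hcent : ∀ x ∈ K, x ≠ 1 → x ≠ s → ∃ y ∈ K, x * y ≠ y * x)
    (hs : s * s = 1) (hs1 : s ≠ 1) (hgK : g ∈ K) (hg : g * g = 1) (hg1 : g ≠ 1) (hgs : g ≠ s)
    (hvK : v ∈ K) (hv : v * v = 1) (hv1 : v ≠ 1)
    (hvn : ∀ c : Q, c⁻¹ * v * c ≠ s ∧ c⁻¹ * v * c ≠ g ∧ c⁻¹ * v * c ≠ s * g)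
    (heK : e ∈ K) (he : g * e = e * (s * g)) (hrK : r ∈ K) (hr : r * r = s)
    (hwN : w ∈ N) (hw : w * w = 1) (h5 : (s * w) ^ 5 = 1) (h5' : (w * g) ^ 5 = 1) : N = ⊤ := by
  have : Fact (Nat.Prime 2) := ⟨Nat.prime_two⟩
  have hsK : s ∈ K := (hK s).1 rfl
  have hcom : g * s = s * g := (hK g).2 hgK
  let S0 : Subgroup Q :=
    { carrier := {x | x = 1 ∨ x = s ∨ x = g ∨ x = s * g}
      one_mem' := Or.inl rfl
      mul_mem' := by
        have a1 : s * (s * g) = g := by rw [← mul_assoc, hs, one_mul]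
        have a2 : g * (s * g) = s := by rw [← mul_assoc, hcom, mul_assoc, hg, mul_one]
        have a3 : s * g * s = g := by rw [mul_assoc, hcom, a1]
        have a4 : s * g * g = s := by rw [mul_assoc, hg, mul_one]
        have a5 : s * g * (s * g) = 1 := by rw [mul_assoc, a2, hs]
        rintro a b (rfl | rfl | rfl | rfl) (rfl | rfl | rfl | rfl) <;>
          simp [hs, hg, hcom, a1, a2, a3, a4, a5]
      inv_mem' := by
        rintro a (rfl | rfl | rfl | rfl)
        · simp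
        · exact Or.inr (Or.inl (inv_eq_of_mul_eq_one_right hs))
        · exact Or.inr (Or.inr (Or.inl (inv_eq_of_mul_eq_one_right hg)))
        · refine Or.inr (Or.inr (Or.inr ?_))
          rw [mul_inv_rev, inv_eq_of_mul_eq_one_right hs, inv_eq_of_mul_eq_one_right hg, hcom] }
  have hS0K : S0 ≤ K := by
    rintro x (rfl | rfl | rfl | rfl)
    exacts [one_mem _, hsK, hgK, mul_mem hsK hgK]
  have hS04 : Nat.card S0 = 4 := by
    refine le_antisymm ?_ ?_
    · refine (Nat.card_mono (Set.toFinite _) (show (S0 : Set Q) ⊆ {1, s, g, s * g} from fun x hx => hx)).trans ?_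
      rw [Nat.card_coe_set_eq]
      exact ((Set.ncard_insert_le _ _).trans (Nat.succ_le_succ ((Set.ncard_insert_le _ _).trans
        (Nat.succ_le_succ ((Set.ncard_insert_le _ _).trans (by simp))))))
    · have h : ({1, s, g, s * g} : Finset Q).card = 4 := by
        have : s ≠ s * g := fun h => hg1 (by simpa using h)
        have : g ≠ s * g := fun h => hs1 (by simpa using h)
        have : s * g ≠ 1 := fun h => hgs (by rw [← inv_eq_of_mul_eq_one_right hs]; exact (inv_eq_of_mul_eq_one_right h).symm)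
        simp [*, Ne.symm hs1, Ne.symm hg1, Ne.symm hgs, Ne.symm this]
      rw [← h, ← Set.ncard_coe_finset]
      refine (Set.ncard_le_ncard ?_).trans (Nat.card_coe_set_eq _).ge
      intro x hx
      simpa [S0] using hx
  obtain ⟨T, hT⟩ := (IsPGroup.of_card (p := 2) (n := 3) (G := K) (by rw [hK8]; norm_num)).exists_le_sylow
  have hKT : K = (T : Subgroup Q) := by
    by_contra hne
    have := T.2.isNilpotent
    have hlt : K.subgroupOf T < ⊤ := lt_top_iff_ne_top.2 fun h => hne (le_antisymm hT fun x hx => by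
      have : (⟨x, hx⟩ : (T : Subgroup Q)) ∈ K.subgroupOf T := by rw [h]; trivial
      exact this)
    obtain ⟨x, hxn, hxK⟩ := SetLike.exists_of_lt (Group.normalizerCondition_of_isNilpotent _ hlt)
    refine hxK ((hK _).1 ?_)
    have hxs : (x : Q) * s * (x : Q)⁻¹ ∈ K :=
      (Subgroup.mem_normalizer_iff.1 hxn ⟨s, hT hsK⟩).1 hsK
    by_contra hne'
    have h1 : (x : Q) * s * (x : Q)⁻¹ ≠ 1 := fun h => hs1 (conj_eq_one_iff.1 h)
    have h2 : (x : Q) * s * (x : Q)⁻¹ ≠ s := fun h => hne' (mul_inv_eq_iff_eq_mul.1 h)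
    obtain ⟨y, hy, hyc⟩ := hcent _ hxs h1 h2
    refine hyc ?_
    have hy' : (x : Q)⁻¹ * y * x ∈ K := by
      have := (Subgroup.mem_normalizer_iff.1 (inv_mem hxn) ⟨y, hT hy⟩).1 hy
      simpa [Subgroup.mem_subgroupOf] using this
    have hc := (hK _).2 hy'
    calc (x : Q) * s * (x : Q)⁻¹ * y = x * (s * ((x : Q)⁻¹ * y * x)) * (x : Q)⁻¹ := by group
      _ = x * ((x : Q)⁻¹ * y * x * s) * (x : Q)⁻¹ := by rw [hc]
      _ = y * ((x : Q) * s * (x : Q)⁻¹) := by group
  obtain ⟨m, hm, hcard⟩ : ∃ m, Odd m ∧ Nat.card Q = 8 * m := by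
    refine ⟨(T : Subgroup Q).index, ?_, ?_⟩
    · rw [← Nat.not_even_iff_odd, even_iff_two_dvd]
      exact T.not_dvd_index
    · rw [← Subgroup.card_mul_index (T : Subgroup Q), ← hKT, hK8]
  have := Fintype.ofFinite (Q ⧸ S0)
  let π : Q →* ℤˣ := Equiv.Perm.sign.comp (MulAction.toPermHom Q (Q ⧸ S0))
  have hπv : π v = -1 := by
    refine sign_of_free (σ := MulAction.toPermHom Q (Q ⧸ S0) v) ?_ ?_ hm ?_
    · rw [← map_mul, hv, map_one]
    · intro x
      induction x using QuotientGroup.induction_on with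
      | H c =>
        intro h
        change ((v * c : Q) : Q ⧸ S0) = c at h
        rw [QuotientGroup.eq] at h
        have h' : c⁻¹ * v * c ∈ S0 := by
          have := inv_mem h
          simpa [mul_assoc] using this
        obtain ⟨n1, n2, n3⟩ := hvn c
        rcases h' with h' | h' | h' | h'
        · exact hv1 (by
            calc v = c * (c⁻¹ * v * c) * c⁻¹ := by group
              _ = 1 := by rw [h']; group)
        · exact n1 h'
        · exact n2 h'
        · exact n3 h'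
    · have h := Subgroup.card_mul_index S0
      rw [hS04, hcard] at h
      rw [← Nat.card_eq_fintype_card]
      show S0.index = _
      omega
  have hπs : π s = 1 := by rw [← hr, map_mul, Int.units_mul_self]
  have h2u : ¬ 5 ∣ Nat.card ℤˣ := by rw [Nat.card_eq_fintype_card, Fintype.card_units_int]; norm_num
  have hπw : π w = 1 := by
    have h := map_eq_one_of_five π h5 h2u
    rwa [map_mul, hπs, one_mul] at h
  have hπg : π g = 1 := by
    have h := map_eq_one_of_five π h5' h2u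
    rwa [map_mul, hπw, one_mul] at h
  set Q0 := π.ker with hQ0
  by_cases hle : Q0 ≤ N
  · rw [eq_top_iff]
    intro x _
    rcases Int.units_eq_one_or (π x) with hx | hx
    · exact hle hx
    · have h : x * v⁻¹ ∈ N := hle (by rw [hQ0, MonoidHom.mem_ker, map_mul, map_inv, hx, hπv, mul_inv_cancel])
      simpa using mul_mem h (hKN hvK)
  exfalso
  set M0 := Q0 ⊓ N with hM0
  have hS0Q : S0 ≤ Q0 := by
    rintro x (rfl | rfl | rfl | rfl)
    exacts [one_mem _, hπs, hπg, by rw [hQ0, MonoidHom.mem_ker, map_mul, hπs, hπg, one_mul]]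
  have hKQ : ∀ x ∈ K, x ∈ Q0 → x ∈ S0 := by
    intro x hxK hxQ
    by_contra hx
    have hmem : x⁻¹ * v ∈ S0 := by
      by_contra hxv
      have hsub : ∀ f : (Fin 3) × S0, ([1, x, v].getD f.1 1) * f.2.1 ∈ K := fun f => by
        refine mul_mem ?_ (hS0K f.2.2)
        obtain ⟨⟨i, hi⟩, _⟩ := f
        interval_cases i <;> simp [hxK, hvK, one_mem]
      have hinj : Function.Injective fun f : (Fin 3) × S0 => (⟨_, hsub f⟩ : K) := by
        rintro ⟨i, a⟩ ⟨j, b⟩ h
        have h' : ([1, x, v].getD i 1) * a.1 = ([1, x, v].getD j 1) * b.1 := congrArg Subtype.val h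
        have hd : ([1, x, v].getD i 1)⁻¹ * ([1, x, v].getD j 1) ∈ S0 := by
          rw [show ([1, x, v].getD i 1)⁻¹ * ([1, x, v].getD j 1) = a.1 * b.1⁻¹ by
            rw [inv_mul_eq_iff_eq_mul, ← mul_assoc, h', mul_inv_cancel_right]]
          exact mul_mem a.2 (inv_mem b.2)
        have hvS : v ∉ S0 := fun h => by
          have := hS0Q h
          rw [hQ0, MonoidHom.mem_ker, hπv] at this
          exact absurd this (by decide)
        have hij : i = j := by
          have hxv' : v⁻¹ * x ∉ S0 := fun h => hxv (by simpa using inv_mem h)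
          fin_cases i <;> fin_cases j <;> simp [hx, hxv, hvS, hxv', Subgroup.inv_mem_iff] at hd ⊢
        subst hij
        exact Prod.ext rfl (Subtype.ext (mul_left_cancel h'))
      have := Nat.card_le_card_of_injective _ hinj
      rw [Nat.card_prod, Nat.card_fin, hS04, hK8] at this
      omega
    have hvQ : v ∈ Q0 := by simpa using mul_mem hxQ (hS0Q hmem)
    rw [hQ0, MonoidHom.mem_ker, hπv] at hvQ
    exact absurd hvQ (by decide)
  have hkind : ∀ (H : Subgroup Q), K ≤ H → N ⊓ K ≤ H → ∀ i ∈ H, i ∈ Q0 → i * i = 1 → i ≠ 1 →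
      (N ≤ H) → ∃ c ∈ H, c ∈ Q0 ∧ c * s * c⁻¹ = i := by
    intro H hKH _ i hiH hiQ hi2 hi1 hNH
    obtain ⟨c, hc, hci⟩ : ∃ c ∈ H, c⁻¹ * i * c ∈ K := by
      have hPi : IsPGroup 2 (Subgroup.zpowers (⟨i, hiH⟩ : H)) := by
        refine IsPGroup.of_card (n := 1) ?_
        rw [Nat.card_zpowers, pow_one, orderOf_eq_prime (p := 2) (by rw [sq]; exact Subtype.ext hi2)]
        exact fun h => hi1 (congrArg Subtype.val h)
      obtain ⟨U, hU⟩ := hPi.exists_le_sylow
      obtain ⟨c, hc⟩ := MulAction.exists_smul_eq H U (T.subtype (hKT ▸ hKH))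
      refine ⟨(c : Q)⁻¹, inv_mem c.2, ?_⟩
      have h : (c * ⟨i, hiH⟩ * c⁻¹ : H) ∈ (T.subtype (hKT ▸ hKH) : Subgroup H) := by
        rw [← hc]
        simp only [Sylow.coe_subgroup_smul, Subgroup.mem_pointwise_smul_iff_inv_smul_mem, MulAut.smul_def,
          MulAut.conj_inv_apply]
        simpa [mul_assoc] using hU (Subgroup.mem_zpowers _)
      rw [inv_inv, hKT]
      simpa [Subgroup.mem_subgroupOf] using h
    have hmem : c⁻¹ * i * c ∈ S0 := hKQ _ hci (by
      rw [hQ0, MonoidHom.mem_ker, map_mul, map_mul, MonoidHom.mem_ker.1 hiQ, mul_one, ← map_mul,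
        inv_mul_cancel, map_one])
    obtain ⟨d, hd, hdi⟩ : ∃ d ∈ N, d * s * d⁻¹ = c⁻¹ * i * c := by
      have hw' := conj_of_five hs hw h5
      have hg' := conj_of_five hw hg h5'
      set c1 := s * w * (s * w) * (s * w)
      set c2 := w * g * (w * g) * (w * g)
      have hc1 : c1 ∈ N := by
        have := mul_mem (hKN hsK) hwN
        exact mul_mem (mul_mem this this) this
      have hc2 : c2 ∈ N := by
        have := mul_mem hwN (hKN hgK)
        exact mul_mem (mul_mem this this) this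
      rcases hmem with h | h | h | h
      · exact absurd (by
          calc i = c * (c⁻¹ * i * c) * c⁻¹ := by group
            _ = 1 := by rw [h]; group) hi1
      · exact ⟨1, one_mem _, by rw [h]; group⟩
      · refine ⟨(c1 * c2)⁻¹, inv_mem (mul_mem hc1 hc2), ?_⟩
        rw [h, ← hg', ← hw']; group
      · refine ⟨(c1 * c2 * e)⁻¹, inv_mem (mul_mem (mul_mem hc1 hc2) (hKN heK)), ?_⟩
        rw [h, ← inv_mul_cancel_left e (s * g), ← he, ← hg', ← hw']; group
    have hcd : c * d ∈ H := mul_mem hc (hNH hd)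
    have hi : c * d * s * (c * d)⁻¹ = i := by
      calc c * d * s * (c * d)⁻¹ = c * (d * s * d⁻¹) * c⁻¹ := by group
        _ = i := by rw [hdi]; group
    rcases Int.units_eq_one_or (π (c * d)) with h | h
    · exact ⟨c * d, hcd, h, hi⟩
    · refine ⟨c * d * v, mul_mem hcd (hKH hvK), ?_, ?_⟩
      · rw [hQ0, MonoidHom.mem_ker, map_mul, h, hπv, neg_mul_neg, one_mul]
      · calc c * d * v * s * (c * d * v)⁻¹ = c * d * (v * s) * v⁻¹ * (c * d)⁻¹ := by group
          _ = c * d * (s * v) * v⁻¹ * (c * d)⁻¹ := by rw [(hK v).2 hvK]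
          _ = i := by rw [← mul_assoc _ s v, mul_inv_cancel_right, hi]
  have hC4 : ∀ H : Subgroup Q, H ≤ Q0 → S0 ≤ H → Nat.card {c : Q // c ∈ H ∧ c * s = s * c} = 4 := by
    intro H hHQ hSH
    rw [← hS04]
    exact Nat.card_congr ⟨fun c => ⟨c.1, hKQ _ ((hK _).1 c.2.2) (hHQ c.2.1)⟩,
      fun c => ⟨c.1, hSH c.2, (hK _).2 (hS0K c.2)⟩, fun _ => rfl, fun _ => rfl⟩
  let IQ := {x : Q // ∃ c ∈ Q0, c * s * c⁻¹ = x}
  let IM := {x : Q // ∃ c ∈ M0, c * s * c⁻¹ = x}
  have eQ : Nat.card IQ * 4 = Nat.card Q0 := by rw [← card_conj_range Q0 s, hC4 Q0 le_rfl hS0Q]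
  have hS0M : S0 ≤ M0 := le_inf hS0Q (hS0K.trans hKN)
  have eM : Nat.card IM * 4 = Nat.card M0 := by rw [← card_conj_range M0 s, hC4 M0 inf_le_left hS0M]
  have hinM : ∀ x ∈ M0, x * x = 1 → x ≠ 1 → ∃ c ∈ M0, c * s * c⁻¹ = x := fun x hx h2 h1 => by
    obtain ⟨c, hc, hcQ, hce⟩ := hkind N hKN inf_le_left x hx.2 hx.1 h2 h1 le_rfl
    exact ⟨c, ⟨hcQ, hc⟩, hce⟩
  have hinv : ∀ x : Q, (∃ c ∈ Q0, c * s * c⁻¹ = x) → x * x = 1 ∧ x ≠ 1 ∧ x ∈ Q0 := by
    rintro x ⟨c, hc, rfl⟩
    refine ⟨?_, fun h => hs1 (conj_eq_one_iff.1 h), mul_mem (mul_mem hc hπs) (inv_mem hc)⟩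
    calc c * s * c⁻¹ * (c * s * c⁻¹) = c * (s * s) * c⁻¹ := by group
      _ = 1 := by rw [hs]; group
  have hstrong : ∀ x ∈ M0, x * x = 1 → x ≠ 1 → ∀ y ∈ Q0, y * x = x * y → y ∈ M0 := by
    intro x hx h2 h1 y hy hyx
    obtain ⟨c, hc, rfl⟩ := hinM x hx h2 h1
    refine ⟨hy, ?_⟩
    have h : c⁻¹ * y * c ∈ K := (hK _).1 (by
      calc c⁻¹ * y * c * s = c⁻¹ * (y * (c * s * c⁻¹)) * c := by group
        _ = c⁻¹ * (c * s * c⁻¹ * y) * c := by rw [hyx]
        _ = s * (c⁻¹ * y * c) := by group)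
    have hcN : c ∈ N := hc.2
    have := mul_mem (mul_mem hcN (hKN h)) (inv_mem hcN)
    have e : c * (c⁻¹ * y * c) * c⁻¹ = y := by group
    rwa [e] at this
  obtain ⟨mm, hmm⟩ : ∃ mm, mm = Nat.card IM := ⟨_, rfl⟩
  rw [← hmm] at eM
  -- a coset outside with many involutions
  let F : {x : IQ // x.1 ∉ M0} → {q : Q0 ⧸ M0.subgroupOf Q0 // q ≠ ((1 : Q0) : Q0 ⧸ M0.subgroupOf Q0)} :=
    fun x => ⟨((⟨x.1.1, (hinv _ x.1.2).2.2⟩ : Q0) : Q0 ⧸ M0.subgroupOf Q0), fun h => x.2 (by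
      rw [QuotientGroup.eq, Subgroup.mem_subgroupOf] at h
      simpa using inv_mem h)⟩
  have hIM : Nat.card {x : IQ // x.1 ∈ M0} = mm := by
    rw [hmm]
    refine Nat.card_congr ⟨fun x => ⟨x.1.1, hinM _ x.2 (hinv _ x.1.2).1 (hinv _ x.1.2).2.1⟩,
      fun x => ⟨⟨x.1, ?_⟩, ?_⟩, fun _ => rfl, fun _ => rfl⟩
    · obtain ⟨c, hc, he⟩ := x.2
      exact ⟨c, hc.1, he⟩
    · obtain ⟨c, hc, he⟩ := x.2
      rw [← he]
      exact mul_mem (mul_mem hc (hS0M (Or.inr (Or.inl rfl)))) (inv_mem hc)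
  obtain ⟨q, hq, hfib⟩ : ∃ q : Q0, q.1 ∉ M0 ∧
      mm ≤ Nat.card {x : {x : IQ // x.1 ∉ M0} // (F x).1 = ((q : Q0) : Q0 ⧸ M0.subgroupOf Q0)} := by
    have := Fintype.ofFinite {x : IQ // x.1 ∉ M0}
    have := Fintype.ofFinite {q : Q0 ⧸ M0.subgroupOf Q0 // q ≠ ((1 : Q0) : Q0 ⧸ M0.subgroupOf Q0)}
    have : DecidableEq (Q0 ⧸ M0.subgroupOf Q0) := Classical.decEq _
    obtain ⟨q0, hq0⟩ : ∃ q0 : Q0, q0.1 ∉ M0 := by
      by_contra h
      simp only [not_exists, not_not] at h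
      exact hle fun x hx => (h ⟨x, hx⟩).2
    have : Nonempty {q : Q0 ⧸ M0.subgroupOf Q0 // q ≠ ((1 : Q0) : Q0 ⧸ M0.subgroupOf Q0)} :=
      ⟨⟨q0, fun h => hq0 (by
        rw [QuotientGroup.eq, Subgroup.mem_subgroupOf] at h
        simpa using inv_mem h)⟩⟩
    have hidx : mm * Fintype.card {q : Q0 ⧸ M0.subgroupOf Q0 // q ≠ ((1 : Q0) : Q0 ⧸ M0.subgroupOf Q0)} ≤
        Fintype.card {x : IQ // x.1 ∉ M0} := by
      have h1 := Subgroup.card_mul_index (M0.subgroupOf Q0)
      rw [Nat.card_congr (Subgroup.subgroupOfEquivOfLe (inf_le_left : M0 ≤ Q0)).toEquiv, ← eM, ← eQ] at h1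
      have h2 : Nat.card IQ = Nat.card {x : IQ // x.1 ∈ M0} + Nat.card {x : IQ // x.1 ∉ M0} := by
        rw [← Nat.card_sum, Nat.card_congr (Equiv.sumCompl _)]
      rw [hIM] at h2
      have h3 : Fintype.card {q : Q0 ⧸ M0.subgroupOf Q0 // q ≠ ((1 : Q0) : Q0 ⧸ M0.subgroupOf Q0)} + 1 =
          (M0.subgroupOf Q0).index := by
        have := Fintype.ofFinite (Q0 ⧸ M0.subgroupOf Q0)
        rw [Fintype.card_subtype_compl, Fintype.card_subtype_eq, Subgroup.index, Nat.card_eq_fintype_card]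
        have : 0 < Fintype.card (Q0 ⧸ M0.subgroupOf Q0) := Fintype.card_pos
        omega
      rw [← h3] at h1
      rw [h2] at h1
      rw [← Nat.card_eq_fintype_card, ← Nat.card_eq_fintype_card] at *
      nlinarith
    obtain ⟨y, hy⟩ := Fintype.exists_le_card_fiber_of_mul_le_card F (by rw [mul_comm]; exact hidx)
    obtain ⟨q, hq⟩ := QuotientGroup.mk_surjective y.1
    refine ⟨q, fun h => y.2 (by
      rw [← hq, QuotientGroup.eq, Subgroup.mem_subgroupOf]
      simpa using inv_mem h), hy.trans ?_⟩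
    rw [Nat.card_eq_fintype_card, Fintype.card_subtype]
    refine Finset.card_le_card fun x hx => ?_
    simp only [Finset.mem_filter, Finset.mem_univ, true_and] at hx ⊢
    rw [hx, hq]
  obtain ⟨u, hu, huM, hu2, hsame⟩ : ∃ u : Q, u ∈ Q0 ∧ u ∉ M0 ∧ u * u = 1 ∧
      mm ≤ Nat.card {x : Q // x ∉ M0 ∧ x * x = 1 ∧ u⁻¹ * x ∈ M0} := by
    have hmpos : 0 < mm := Nat.pos_of_ne_zero fun h => by
      rw [h, zero_mul] at eM
      exact absurd eM.symm (Nat.card_pos (α := M0)).ne'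
    obtain ⟨x0, hx0⟩ : Nonempty {x : {x : IQ // x.1 ∉ M0} //
        (F x).1 = ((q : Q0) : Q0 ⧸ M0.subgroupOf Q0)} := Finite.card_pos_iff.1 (hmpos.trans_le hfib)
    refine ⟨x0.1.1, (hinv _ x0.1.2).2.2, x0.2, (hinv _ x0.1.2).1, hfib.trans ?_⟩
    refine Nat.card_le_card_of_injective (fun x => ⟨x.1.1.1, x.1.2, (hinv _ x.1.1.2).1, ?_⟩) ?_
    · have e := hx0.trans x.2.symm
      change (QuotientGroup.mk _ : Q0 ⧸ M0.subgroupOf Q0) = QuotientGroup.mk _ at e
      rw [QuotientGroup.eq, Subgroup.mem_subgroupOf] at e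
      exact e
    · intro a b h
      exact Subtype.ext (Subtype.ext (Subtype.ext (congrArg (fun z => z.1) h)))
  have hu1 : u⁻¹ = u := inv_eq_of_mul_eq_one_right hu2
  let D : Subgroup Q := M0 ⊓ M0.comap (MulAut.conj u).toMonoidHom
  have hD : ∀ x, x ∈ D ↔ x ∈ M0 ∧ u * x * u⁻¹ ∈ M0 := fun x => Iff.rfl
  have hodd : ∀ x ∈ D, x * x = 1 → x = 1 := by
    intro x hx h2
    by_contra h1
    obtain ⟨hx, hxu⟩ := (hD x).1 hx
    obtain ⟨c, hc, hce⟩ := hinM x hx h2 h1
    obtain ⟨d, hd, hde⟩ := hinM _ hxu (by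
        calc u * x * u⁻¹ * (u * x * u⁻¹) = u * (x * x) * u⁻¹ := by group
          _ = 1 := by rw [h2]; group) fun h => h1 (conj_eq_one_iff.1 h)
    have hmem := hstrong x hx h2 h1 (c * d⁻¹ * u) (mul_mem (mul_mem hc.1 (inv_mem hd.1)) hu) (by
      calc c * d⁻¹ * u * x = c * d⁻¹ * (u * x * u⁻¹) * u := by group
        _ = c * d⁻¹ * (d * s * d⁻¹) * u := by rw [hde]
        _ = c * s * c⁻¹ * (c * d⁻¹ * u) := by group
        _ = x * (c * d⁻¹ * u) := by rw [hce])
    exact huM (by simpa [mul_assoc] using mul_mem (mul_mem hd (inv_mem hc)) hmem)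
  have hDm : mm ≤ Nat.card D := by
    refine hsame.trans (Nat.card_le_card_of_injective (fun x => ⟨u⁻¹ * x.1, (hD _).2 ⟨x.2.2.2, ?_⟩⟩) ?_)
    · rw [mul_inv_cancel_left]
      have := inv_mem x.2.2.2
      simpa [inv_eq_of_mul_eq_one_right x.2.2.1, hu1] using this
    · intro a b h
      exact Subtype.ext (mul_left_cancel (congrArg (fun z : D => z.1) h))
  have hDC : ∀ x ∈ D, x * s = s * x → x = 1 := by
    intro x hx hxs
    refine hodd x hx ?_
    have := hKQ x ((hK x).1 hxs) (((hD x).1 hx).1).1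
    rcases this with rfl | rfl | rfl | rfl
    · simp
    · exact hs
    · exact hg
    · rw [mul_assoc, ← mul_assoc g s g, hcom, mul_assoc s g g, hg, mul_one, hs]
  have hDle : Nat.card D ≤ mm := by
    rw [hmm]
    refine Nat.card_le_card_of_injective (fun x => ⟨x.1 * s * x.1⁻¹, x.1, ((hD _).1 x.2).1, rfl⟩) ?_
    intro a b h
    have e : a.1 * s * a.1⁻¹ = b.1 * s * b.1⁻¹ := congrArg (fun z : IM => z.1) h
    refine Subtype.ext (inv_mul_eq_one.1 (hDC _ (mul_mem (inv_mem b.2) a.2) ?_)).symm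
    calc b.1⁻¹ * a.1 * s = b.1⁻¹ * (a.1 * s * a.1⁻¹) * a.1 := by group
      _ = b.1⁻¹ * (b.1 * s * b.1⁻¹) * a.1 := by rw [e]
      _ = s * (b.1⁻¹ * a.1) := by group
  have hidx : (D.subgroupOf M0).index = 4 := by
    have h := Subgroup.card_mul_index (D.subgroupOf M0)
    rw [Nat.card_congr (Subgroup.subgroupOfEquivOfLe (inf_le_left : D ≤ M0)).toEquiv, ← eM,
      le_antisymm hDle hDm] at h
    exact Nat.eq_of_mul_eq_mul_left (Nat.pos_of_ne_zero fun h0 => by
      rw [h0, zero_mul] at eM; exact absurd eM.symm (Nat.card_pos (α := M0)).ne') h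
  let ρ := MulAction.toPermHom M0 (M0 ⧸ D.subgroupOf M0)
  have h24 : ¬ 5 ∣ Nat.card (Equiv.Perm (M0 ⧸ D.subgroupOf M0)) := by
    rw [Nat.card_perm, show Nat.card (M0 ⧸ D.subgroupOf M0) = 4 from hidx]
    decide
  let S : M0 := ⟨s, hS0M (Or.inr (Or.inl rfl))⟩
  let G' : M0 := ⟨g, hS0M (Or.inr (Or.inr (Or.inl rfl)))⟩
  let W : M0 := ⟨w, hπw, hwN⟩
  have e1 := map_eq_one_of_five ρ (a := S * W) (Subtype.ext h5) h24
  have e2 := map_eq_one_of_five ρ (a := W * G') (Subtype.ext h5') h24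
  have eW : ρ W * ρ W = 1 := by rw [← map_mul, show W * W = 1 from Subtype.ext hw, map_one]
  have e3 : ρ (S * G') = 1 := by
    calc ρ (S * G') = ρ S * (ρ W * ρ W) * ρ G' := by rw [eW, mul_one, map_mul]
      _ = ρ (S * W) * ρ (W * G') := by rw [map_mul, map_mul]; group
      _ = 1 := by rw [e1, e2, one_mul]
  have hmemD : S * G' ∈ D.subgroupOf M0 := by
    have h := congrArg (fun σ => σ ((1 : M0) : M0 ⧸ D.subgroupOf M0)) e3
    change (((S * G') * 1 : M0) : M0 ⧸ D.subgroupOf M0) = ((1 : M0) : M0 ⧸ D.subgroupOf M0) at h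
    rw [mul_one, QuotientGroup.eq, mul_one] at h
    simpa using inv_mem h
  have h := hodd (s * g) hmemD (by rw [mul_assoc, ← mul_assoc g s g, hcom, mul_assoc s g g, hg, mul_one, hs])
  exact hgs ((inv_eq_of_mul_eq_one_right h).symm.trans (inv_eq_of_mul_eq_one_right hs))

end CfsgLib.CoThreeUniq
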