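import Cfsg.Agent.Lib.CoThreeUniq.TwCommon
import Cfsg.Agent.Lib.CoThreeUniq.CaseTg
import Cfsg.Agent.Lib.CoThreeUniq.DataStab

/-!
The stabilisers of the double cosets.
-/

set_option autoImplicit false
set_option linter.style.longLine false
set_option Elab.async false
set_option maxRecDepth 20000

namespace CfsgLib.CoThreeUniq
open CfsgLib.CosetEnum CfsgLib.TwistCoset

/-- generators as products of facts of one state -/
noncomputable def witsOK (D : TData) (M i : ℕ) (gs : List (List ℕ)) (ws : List (List (ℕ × Bool))) : Bool :=
  Nat.beq gs.length ws.length && ((gs.zip ws).all fun e =>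
    match D.kList M i e.2 with
    | some k => same e.1 k
    | none => false)

theorem st1_lev0 : levOK tC [] 630 st1Gens0 st1Ents0 = true := by decide +kernel

theorem st1_len0 : st1Ents0.length = 23 := by decide +kernel

theorem st1_lev1 : levOK tC [630] 631 st1Gens1 st1Ents1 = true := by decide +kernel

theorem st1_len1 : st1Ents1.length = 5 := by decide +kernel

theorem st1_lev2 : levOK tC [631,630] 635 st1Gens2 st1Ents2 = true := by decide +kernel

theorem st1_len2 : st1Ents2.length = 7 := by decide +kernel

theorem st1_lev3 : levOK tC [635,631,630] 633 st1Gens3 st1Ents3 = true := by decide +kernel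

theorem st1_len3 : st1Ents3.length = 3 := by decide +kernel

theorem st2_lev0 : levOK tC [] 630 st2Gens0 st2Ents0 = true := by decide +kernel

theorem st2_len0 : st2Ents0.length = 15 := by decide +kernel

theorem st2_lev1 : levOK tC [630] 631 st2Gens1 st2Ents1 = true := by decide +kernel

theorem st2_len1 : st2Ents1.length = 2 := by decide +kernel

theorem st2_lev2 : levOK tC [631,630] 635 st2Gens2 st2Ents2 = true := by decide +kernel

theorem st2_len2 : st2Ents2.length = 1 := by decide +kernel

theorem st3_lev0 : levOK tC [] 630 st3Gens0 st3Ents0 = true := by decide +kernel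

theorem st3_len0 : st3Ents0.length = 53 := by decide +kernel

theorem st3_lev1 : levOK tC [630] 631 st3Gens1 st3Ents1 = true := by decide +kernel

theorem st3_len1 : st3Ents1.length = 2 := by decide +kernel

theorem st3_lev2 : levOK tC [631,630] 635 st3Gens2 st3Ents2 = true := by decide +kernel

theorem st3_len2 : st3Ents2.length = 1 := by decide +kernel

theorem st4_lev0 : levOK tC [] 630 st4Gens0 st4Ents0 = true := by decide +kernel

theorem st4_len0 : st4Ents0.length = 2 := by decide +kernel

theorem st4_lev1 : levOK tC [630] 631 st4Gens1 st4Ents1 = true := by decide +kernel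

theorem st4_len1 : st4Ents1.length = 5 := by decide +kernel

theorem st4_lev2 : levOK tC [631,630] 635 st4Gens2 st4Ents2 = true := by decide +kernel

theorem st4_len2 : st4Ents2.length = 1 := by decide +kernel

theorem st5_lev0 : levOK tC [] 630 st5Gens0 st5Ents0 = true := by decide +kernel

theorem st5_len0 : st5Ents0.length = 29 := by decide +kernel

theorem st5_lev1 : levOK tC [630] 631 st5Gens1 st5Ents1 = true := by decide +kernel

theorem st5_len1 : st5Ents1.length = 1 := by decide +kernel

theorem st6_lev0 : levOK tC [] 630 st6Gens0 st6Ents0 = true := by decide +kernel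

theorem st6_len0 : st6Ents0.length = 71 := by decide +kernel

theorem st6_lev1 : levOK tC [630] 631 st6Gens1 st6Ents1 = true := by decide +kernel

theorem st6_len1 : st6Ents1.length = 6 := by decide +kernel

theorem st6_lev2 : levOK tC [631,630] 635 st6Gens2 st6Ents2 = true := by decide +kernel

theorem st6_len2 : st6Ents2.length = 2 := by decide +kernel

theorem st1_cOK : cOK tC [] st1Chain = true :=
  cOK_tree st1_lev0 (cOK_tree st1_lev1 (cOK_tree st1_lev2 (cOK_tree st1_lev3 (cOK_nil))))

theorem st1_size : cSize st1Chain = 4608 := by
  simp [st1Chain, cSize, treeLev_length, st1_len0, st1_len1, st1_len2, st1_len3]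

theorem st1_wits : witsOK tg 157 1 (st1Chain.map CLev.gens).flatten st1Wits = true := by decide +kernel

theorem st2_cOK : cOK tC [] st2Chain = true :=
  cOK_tree st2_lev0 (cOK_tree st2_lev1 (cOK_tree st2_lev2 (cOK_nil)))

theorem st2_size : cSize st2Chain = 96 := by
  simp [st2Chain, cSize, treeLev_length, st2_len0, st2_len1, st2_len2]

theorem st2_wits : witsOK tg 157 2 (st2Chain.map CLev.gens).flatten st2Wits = true := by decide +kernel

theorem st3_cOK : cOK tC [] st3Chain = true :=
  cOK_tree st3_lev0 (cOK_tree st3_lev1 (cOK_tree st3_lev2 (cOK_nil)))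

theorem st3_size : cSize st3Chain = 324 := by
  simp [st3Chain, cSize, treeLev_length, st3_len0, st3_len1, st3_len2]

theorem st3_wits : witsOK tg 157 3 (st3Chain.map CLev.gens).flatten st3Wits = true := by decide +kernel

theorem st4_cOK : cOK tC [] st4Chain = true :=
  cOK_tree st4_lev0 (cOK_tree st4_lev1 (cOK_tree st4_lev2 (cOK_nil)))

theorem st4_size : cSize st4Chain = 36 := by
  simp [st4Chain, cSize, treeLev_length, st4_len0, st4_len1, st4_len2]

theorem st4_wits : witsOK tg 157 4 (st4Chain.map CLev.gens).flatten st4Wits = true := by decide +kernel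

theorem st5_cOK : cOK tC [] st5Chain = true :=
  cOK_tree st5_lev0 (cOK_tree st5_lev1 (cOK_nil))

theorem st5_size : cSize st5Chain = 60 := by
  simp [st5Chain, cSize, treeLev_length, st5_len0, st5_len1]

theorem st5_wits : witsOK tg 157 5 (st5Chain.map CLev.gens).flatten st5Wits = true := by decide +kernel

theorem st6_cOK : cOK tC [] st6Chain = true :=
  cOK_tree st6_lev0 (cOK_tree st6_lev1 (cOK_tree st6_lev2 (cOK_nil)))

theorem st6_size : cSize st6Chain = 1512 := by
  simp [st6Chain, cSize, treeLev_length, st6_len0, st6_len1, st6_len2]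

theorem st6_wits : witsOK tg 157 6 (st6Chain.map CLev.gens).flatten st6Wits = true := by decide +kernel

end CfsgLib.CoThreeUniq
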