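import Cfsg.Agent.Lib.CoThreeUniq.GoodChecks
import Cfsg.Agent.Lib.CoThreeUniq.StabChecks
import Cfsg.Agent.Lib.CoThreeUniq.Co3Map

/-!
The good case: the group generated is a quotient of the vector stabiliser.
-/

set_option autoImplicit false
set_option Elab.async false
set_option maxRecDepth 20000

namespace CfsgLib.CoThreeUniq

open CfsgLib.CosetEnum CfsgLib.TwistCoset

variable {W : Type*} [Group W] {ψ : P →* W} {δ : W}

theorem kgrp_index_le {D : TData} {M i : ℕ} {ls : List CLev} {ws : List (List (ℕ × Bool))} {n : ℕ}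
    (hc : cOK tC [] ls = true) (hw : witsOK D M i (ls.map CLev.gens).flatten ws = true)
    (hinv : ∀ g, D.C.inv g = tC.inv g) (hn : cSize ls * n = 2903040) :
    (D.Kgrp g0 M i).index ≤ n := by
  simp only [witsOK, Bool.and_eq_true, List.all_eq_true, Nat.beq_eq] at hw
  obtain ⟨hlen, hall⟩ := hw
  have hk : ∀ (kk : List (ℕ × Bool)) (k : List ℕ), D.kList M i kk = some k → prodW g0 k ∈ D.Kgrp g0 M i := by
    intro kk
    induction kk with
    | nil => intro k h; simp only [TData.kList, Option.some.injEq] at h; subst h; exact one_mem _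
    | cons e r ih =>
      intro k h
      obtain ⟨f, s⟩ := e
      rw [TData.kList] at h
      cases hf : D.fct f with
      | edge a b c d => simp [hf] at h
      | stab i' p =>
        cases hr : D.kList M i r with
        | none => simp [hf, hr] at h
        | some k0 =>
          simp only [hf, hr, Option.ite_none_right_eq_some, Bool.and_eq_true, Nat.blt_eq,
            Option.some.injEq] at h
          obtain ⟨⟨hfb, hi⟩, rfl⟩ := h
          obtain rfl := Nat.eq_of_beq_eq_true hi
          rw [prodW_append]
          refine mul_mem ?_ (ih k0 hr)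
          have hp : prodW g0 p ∈ D.Kgrp g0 M i' := Subgroup.subset_closure ⟨f, hfb, p, hf, rfl⟩
          cases s with
          | false => exact hp
          | true =>
            rw [TData.sgn, if_pos rfl, show D.C.revInv p = iw p by simp [iw, Cert.revInv, funext hinv]]
            show pw (iw p) ∈ _
            rw [pw_iw]
            exact inv_mem hp
  have hge : cSize ls ≤ Nat.card (D.Kgrp g0 M i) := by
    refine act.card_ge hc fun l hl g hg => ?_
    obtain ⟨j, hj, rfl⟩ := List.getElem_of_mem
      (List.mem_flatten.2 ⟨_, List.mem_map.2 ⟨l, hl, rfl⟩, hg⟩ : g ∈ (ls.map CLev.gens).flatten)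
    have h := hall ((ls.map CLev.gens).flatten[j], ws[j]'(hlen ▸ hj))
      (List.mem_iff_getElem.2 ⟨j, by rw [List.length_zip, ← hlen, Nat.min_self]; exact hj, by simp⟩)
    cases hkk : D.kList M i ws[j] with
    | none => simp [hkk] at h
    | some k =>
      simp only [hkk] at h
      show pw _ ∈ _
      rw [same_sound h]
      exact hk _ _ hkk
  have hpos : 0 < cSize ls := Nat.pos_of_ne_zero fun h => by simp [h] at hn
  have h := Subgroup.card_mul_index (D.Kgrp g0 M i)
  rw [card_P, ← hn] at h
  exact Nat.le_of_mul_le_mul_left ((Nat.mul_le_mul_right _ hge).trans h.le) hpos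

theorem kgrp_zero : (tg.Kgrp g0 157 0).index ≤ 1 := by
  have hc : ((List.range 11).all fun g => (List.range 157).any fun f =>
      match tg.fct f with
      | .stab 0 p => same p [g]
      | _ => false) = true := by decide +kernel
  refine le_of_eq (Subgroup.index_eq_one.2 (eq_top_iff.2 ?_))
  rw [← gen0_top, Subgroup.closure_le]
  rintro _ ⟨g, hg, rfl⟩
  obtain ⟨f, hf, h⟩ := List.any_eq_true.mp (List.all_eq_true.mp hc g (List.mem_range.mpr hg))
  refine Subgroup.subset_closure ⟨f, List.mem_range.mp hf, ?_⟩
  split at h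
  case h_2 => simp at h
  rename_i p hp
  exact ⟨p, hp, by rw [← pw, same_sound h]; simp [pw]⟩

theorem tg_ns : tg.ns = 7 := rfl

theorem card_le_of_case (h : CaseHyp ψ δ 4 15) : Finite W ∧ Nat.card W ≤ 495766656000 := by
  have R := trig tg rfl rfl h (by simp) tg_shape
  have hb := holds_of_ok R (by norm_num) tg_facts
  have hroots : ∀ i < tg.ns, tg.rootsOK 157 i = true := by
    intro i hi
    rw [tg_ns] at hi
    interval_cases i
    exacts [tg_roots0, tg_roots1, tg_roots2, tg_roots3, tg_roots4, tg_roots5, tg_roots6]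
  have hreach : ∀ i < tg.ns, ∀ p < tg.C.N, tg.Reach 157 i p := by
    intro i hi
    rw [tg_ns] at hi
    interval_cases i
    exacts [TData.reach_of_ok R tg_reach0, TData.reach_of_ok R tg_reach1, TData.reach_of_ok R tg_reach2,
      TData.reach_of_ok R tg_reach3, TData.reach_of_ok R tg_reach4, TData.reach_of_ok R tg_reach5,
      TData.reach_of_ok R tg_reach6]
  have hrun : ∀ w, (∀ g ∈ w, g < tg.C.K) → tg.C.run 0 w < tg.C.N := fun w hw =>
    run_block (w := w) hw (show (0 : ℕ) < 630 by norm_num)
  obtain ⟨hfin, hidx⟩ := TData.finite_index_le R tg_cos hb (by rw [tg_ns]; norm_num) hroots hreach hrun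
  have hsum : ∑ i : Fin tg.ns, (tg.Kgrp g0 157 i).index ≤ 170775 := by
    show ∑ i : Fin 7, (tg.Kgrp g0 157 i).index ≤ 170775
    have hinv : ∀ g, tg.C.inv g = tC.inv g := fun _ => rfl
    have h1 := kgrp_index_le st1_cOK st1_wits hinv (n := 630) (by rw [st1_size])
    have h2 := kgrp_index_le st2_cOK st2_wits hinv (n := 30240) (by rw [st2_size])
    have h3 := kgrp_index_le st3_cOK st3_wits hinv (n := 8960) (by rw [st3_size])
    have h4 := kgrp_index_le st4_cOK st4_wits hinv (n := 80640) (by rw [st4_size])
    have h5 := kgrp_index_le st5_cOK st5_wits hinv (n := 48384) (by rw [st5_size])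
    have h6 := kgrp_index_le st6_cOK st6_wits hinv (n := 1920) (by rw [st6_size])
    have h0 := kgrp_zero
    rw [Fin.sum_univ_seven]
    simp only [Fin.val_zero, Fin.val_one, Fin.val_two]
    change _ + (tg.Kgrp g0 157 3).index + (tg.Kgrp g0 157 4).index + (tg.Kgrp g0 157 5).index +
      (tg.Kgrp g0 157 6).index ≤ _
    omega
  haveI : Finite ψ.range := Finite.of_surjective _ ψ.rangeRestrict_surjective
  haveI := hfin
  haveI : Finite W := Finite.of_equiv _ (Subgroup.groupEquivQuotientProdSubgroup (s := ψ.range)).symm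
  refine ⟨inferInstance, ?_⟩
  rw [← Subgroup.card_mul_index ψ.range]
  calc Nat.card ψ.range * ψ.range.index ≤ 2903040 * 170775 :=
        Nat.mul_le_mul ((Nat.card_le_card_of_surjective _ ψ.rangeRestrict_surjective).trans card_P.le)
          (hidx.trans hsum)
    _ = 495766656000 := by norm_num

/-- In the good case the vector stabiliser maps onto the subgroup generated. -/
theorem exists_hom {G : Type*} [Group G] (φ : P →* G) (d : G) (hsq : d * d = 1)
    (htw : ∀ j < 4, φ (gl j) * d = d * φ (pw (gWord (thW 4 j))))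
    (hks : d * φ (pw ksW) * (d * φ (pw ksW) * (d * φ (pw ksW))) = φ (eE 15)) :
    ∃ f : Co →* G, (∀ a, f (psi a) = φ a) ∧ f delta = d := by
  let Φ : P →* G × Co := φ.prod psi
  let Γ : Subgroup (G × Co) := Subgroup.closure (insert (d, delta) (Φ.range : Set (G × Co)))
  let ψ' : P →* Γ := Φ.codRestrict Γ fun a => Subgroup.subset_closure (Set.mem_insert_of_mem _ ⟨a, rfl⟩)
  let δ' : Γ := ⟨(d, delta), Subgroup.subset_closure (Set.mem_insert _ _)⟩
  have h : CaseHyp ψ' δ' 4 15 :=
    { sq := Subtype.ext (Prod.ext hsq delta_sq)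
      twist := fun j hj => Subtype.ext (Prod.ext (htw j hj) (delta_twist hj))
      ks := Subtype.ext (Prod.ext hks delta_ks)
      top := by
        refine Subgroup.map_injective Γ.subtype_injective ?_
        have e : (Γ.subtype : Γ → G × Co) '' (ψ'.range : Set Γ) = (Φ.range : Set (G × Co)) := by
          ext x
          constructor
          · rintro ⟨_, ⟨a, rfl⟩, rfl⟩
            exact ⟨a, rfl⟩
          · rintro ⟨a, rfl⟩
            exact ⟨ψ' a, ⟨a, rfl⟩, rfl⟩
        rw [MonoidHom.map_closure, ← MonoidHom.range_eq_map, Subgroup.range_subtype, Set.image_insert_eq, e]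
        rfl }
  obtain ⟨hfin, hle⟩ := card_le_of_case h
  let π : Γ →* Co := (MonoidHom.snd G Co).comp Γ.subtype
  have hs : Function.Surjective π := by
    rw [← MonoidHom.range_eq_top, eq_top_iff, ← co_gen, Subgroup.closure_le]
    rintro x (rfl | ⟨a, rfl⟩)
    exacts [⟨δ', rfl⟩, ⟨ψ' a, rfl⟩]
  have hb : Function.Bijective π := hs.bijective_of_nat_card_le (hle.trans co_card.ge)
  let e := MulEquiv.ofBijective π hb
  have he : ∀ y : Γ, ((e.symm (π y) : Γ) : G × Co) = y := fun y => congrArg Subtype.val (e.symm_apply_apply y)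
  exact ⟨((MonoidHom.fst G Co).comp Γ.subtype).comp e.symm.toMonoidHom,
    fun a => congrArg Prod.fst (he (ψ' a)), congrArg Prod.fst (he δ')⟩

end CfsgLib.CoThreeUniq
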