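import Cfsg.Agent.Lib.CoThreeUniq.KillChecks
import Cfsg.Agent.Lib.CoThreeUniq.Good
import Cfsg.Agent.Lib.CoThreeUniq.Five

/-!
The image of the vector stabiliser in a group with the centraliser.
-/

set_option autoImplicit false
set_option Elab.async false
set_option maxRecDepth 20000

namespace CfsgLib.CoThreeUniq

open CfsgLib.CosetEnum CfsgLib.TwistCoset

/-- an embedded vector stabiliser over the centraliser -/
structure Emb (G : Type*) [Group G] extends Ctx G where
  hx : toCtx.IsT (φ (cls 0))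
  /-- the embedding -/
  f : Co →* G
  f_inj : Function.Injective f
  f_psi : ∀ a, f (psi a) = φ a
  /-- the exchanging element -/
  d : G
  f_delta : f delta = d
  d_swap : d⁻¹ * toCtx.t * d = φ (cls 0)

theorem exists_emb {G : Type*} [Group G] [Finite G] (K : Ctx G) (hx : K.IsT (K.φ (cls 0))) :
    Nonempty (Emb G) := by
  obtain ⟨d, t, c, ht, hc, hsq, hswap, htw, hks⟩ := Ctx.exists_case hx
  let W : Subgroup G := Subgroup.closure (insert d (K.φ.range : Set G))
  let ψ : P →* W := K.φ.codRestrict W fun a => Subgroup.subset_closure (Set.mem_insert_of_mem _ ⟨a, rfl⟩)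
  let δ : W := ⟨d, Subgroup.subset_closure (Set.mem_insert _ _)⟩
  have h : CaseHyp ψ δ t c :=
    { sq := Subtype.ext hsq
      twist := fun j hj => Subtype.ext (htw j hj)
      ks := Subtype.ext hks
      top := by
        refine Subgroup.map_injective W.subtype_injective ?_
        have e : (W.subtype : W → G) '' (ψ.range : Set W) = (K.φ.range : Set G) := by
          ext x
          constructor
          · rintro ⟨_, ⟨a, rfl⟩, rfl⟩
            exact ⟨a, rfl⟩
          · rintro ⟨a, rfl⟩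
            exact ⟨ψ a, ⟨a, rfl⟩, rfl⟩
        rw [MonoidHom.map_closure, ← MonoidHom.range_eq_map, Subgroup.range_subtype, Set.image_insert_eq, e]
        rfl }
  have hinj : Function.Injective ψ := fun a b e => K.inj (congrArg Subtype.val e)
  have hxs : δ⁻¹ * ψ zP * δ = ψ (cls 0) := Subtype.ext hswap
  rcases ht with rfl | rfl <;> rcases hc with rfl | rfl | rfl | rfl
  · exact (t40_false h hinj hxs).elim
  · exact (t47_false h hinj hxs).elim
  · exact (t48_false h hinj hxs).elim
  · obtain ⟨f, hf, hfd⟩ := exists_hom K.φ d hsq htw hks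
    refine ⟨{ toCtx := K, hx := hx, f := f, f_inj := ?_, f_psi := hf, d := d, f_delta := hfd, d_swap := hswap }⟩
    have := co_simple
    rcases f.normal_ker.eq_bot_or_eq_top with hk | hk
    · exact (MonoidHom.ker_eq_bot_iff f).1 hk
    · refine absurd ?_ K.t_ne
      have : psi zP ∈ f.ker := by rw [hk]; trivial
      rw [MonoidHom.mem_ker, hf] at this
      exact this
  · exact (t50_false h hinj hxs).elim
  · exact (t57_false h hinj hxs).elim
  · exact (t58_false h hinj hxs).elim
  · exact (t515_false h hinj hxs).elim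

/-- Two involutions are conjugate by a power of their product when that has odd order. -/
theorem conj_of_odd {G : Type*} [Group G] {u a : G} (hu : u * u = 1) (ha : a * a = 1) {k : ℕ}
    (h : (u * a) ^ (2 * k + 1) = 1) : (u * a) ^ k * u * ((u * a) ^ k)⁻¹ = a := by
  have hs : SemiconjBy u ((u * a) ^ k)⁻¹ ((u * a) ^ k) := by
    have h1 : SemiconjBy u ((u * a)⁻¹) (u * a) := by
      show u * (u * a)⁻¹ = u * a * u
      rw [mul_inv_rev, inv_eq_of_mul_eq_one_right hu, inv_eq_of_mul_eq_one_right ha]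
      group
    have h2 := h1.pow_right k
    rwa [inv_pow] at h2
  rw [mul_assoc, hs.eq, ← mul_assoc, ← pow_add]
  rw [pow_succ, two_mul] at h
  rw [eq_inv_of_mul_eq_one_left h, mul_inv_rev, inv_eq_of_mul_eq_one_right ha, inv_eq_of_mul_eq_one_right hu,
    mul_assoc, hu, mul_one]

namespace Emb

variable {G : Type*} [Group G] (E : Emb G)

/-- the image -/
noncomputable def M : Subgroup G := E.f.range

theorem phi_mem (a : P) : E.φ a ∈ E.M := ⟨psi a, E.f_psi a⟩

theorem d_mem : E.d ∈ E.M := ⟨delta, E.f_delta⟩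

theorem cent_le {g : G} (h : g * E.toCtx.t = E.toCtx.t * g) : g ∈ E.M := by
  obtain ⟨a, rfl⟩ := E.toCtx.exists_pre h
  exact E.phi_mem a

/-- the second involution -/
noncomputable def y : G := E.φ y7

/-- the third involution -/
noncomputable def u : G := E.φ u0

theorem y_sq : E.y * E.y = 1 := by rw [y, ← map_mul, y7_sq, map_one]

theorem u_sq : E.u * E.u = 1 := by rw [u, ← map_mul, u0_sq, map_one]

theorem u_y : E.u * E.y = E.y * E.u := by rw [u, y, ← map_mul, ← map_mul, u0_comm]

theorem not_T {a : P} (h : ¬Pure a) : ¬E.toCtx.IsT (E.φ a) := fun hT => h ((E.toCtx.isT_iff_pure E.hx).1 hT)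

theorem y_notT : ¬E.toCtx.IsT E.y := E.not_T y7_not_pure

theorem u_notT : ¬E.toCtx.IsT E.u ∧ ¬E.toCtx.IsT (E.u * E.y) := by
  obtain ⟨-, -, -, -, h1, h2⟩ := u0_utype
  exact ⟨E.not_T h1, by rw [u, y, ← map_mul]; exact E.not_T h2⟩

variable [Finite G]

/-- involutions of the image, and pairs of commuting ones, move into the centraliser inside the image -/
theorem conj_pair {a b : G} (ha : a ∈ E.M) (hb : b ∈ E.M) (ha2 : a * a = 1) (hb2 : b * b = 1)
    (hab : a * b = b * a) : ∃ m ∈ E.M, ∃ a' b' : P, E.φ a' = m * a * m⁻¹ ∧ E.φ b' = m * b * m⁻¹ := by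
  have : Fact (Nat.Prime 2) := ⟨Nat.prime_two⟩
  obtain ⟨T, hT⟩ := E.toCtx.exists_sylow
  have hTM : (T : Subgroup G) ≤ E.M := by
    rw [hT]
    rintro x ⟨p, -, rfl⟩
    exact E.phi_mem p
  let A : Subgroup E.M := Subgroup.closure {⟨a, ha⟩, ⟨b, hb⟩}
  have hA : IsPGroup 2 A := by
    intro x
    refine ⟨1, ?_⟩
    have key : ∀ y : E.M, y ∈ A → (y * y = 1 ∧ y * ⟨a, ha⟩ = ⟨a, ha⟩ * y ∧ y * ⟨b, hb⟩ = ⟨b, hb⟩ * y) := by
      intro y hy
      induction hy using Subgroup.closure_induction with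
      | mem y hy =>
        rcases hy with rfl | rfl
        · exact ⟨Subtype.ext ha2, rfl, Subtype.ext hab⟩
        · exact ⟨Subtype.ext hb2, Subtype.ext hab.symm, rfl⟩
      | one => simp
      | mul y z hy hz ih1 ih2 =>
        have hc : y * z = z * y := by
          clear ih1
          induction hy using Subgroup.closure_induction with
          | mem y hy =>
            rcases hy with rfl | rfl
            exacts [ih2.2.1.symm, ih2.2.2.symm]
          | one => simp
          | mul p q _ _ hp hq => rw [mul_assoc, hq, ← mul_assoc, hp, mul_assoc]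
          | inv p _ hp => rw [inv_mul_eq_iff_eq_mul, ← mul_assoc, hp, mul_inv_cancel_right]
        refine ⟨?_, ?_, ?_⟩
        · calc y * z * (y * z) = y * (z * y) * z := by group
            _ = y * y * (z * z) := by rw [← hc]; group
            _ = 1 := by rw [ih1.1, ih2.1, mul_one]
        · rw [mul_assoc, ih2.2.1, ← mul_assoc, ih1.2.1, mul_assoc]
        · rw [mul_assoc, ih2.2.2, ← mul_assoc, ih1.2.2, mul_assoc]
      | inv y _ ih =>
        rw [inv_eq_of_mul_eq_one_right ih.1]
        exact ih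
    rw [pow_one, sq]
    exact Subtype.ext (key x.1 x.2).1
  obtain ⟨U, hU⟩ := hA.exists_le_sylow
  obtain ⟨m, hm⟩ := MulAction.exists_smul_eq E.M U (T.subtype hTM)
  refine ⟨m, m.2, ?_⟩
  have h : ∀ x : E.M, x ∈ A → ∃ p : P, E.φ p = (m : G) * x * (m : G)⁻¹ := by
    intro x hx
    have h : (m * x * m⁻¹ : E.M) ∈ (T.subtype hTM : Subgroup E.M) := by
      rw [← hm]
      simp only [Sylow.coe_subgroup_smul, Subgroup.mem_pointwise_smul_iff_inv_smul_mem, MulAut.smul_def,
        MulAut.conj_inv_apply]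
      simpa [mul_assoc] using hU hx
    have h' : ((m * x * m⁻¹ : E.M) : G) ∈ (T : Subgroup G) := by simpa [Subgroup.mem_subgroupOf] using h
    rw [hT] at h'
    obtain ⟨p, -, hp⟩ := h'
    exact ⟨p, hp⟩
  obtain ⟨a', ea⟩ := h ⟨a, ha⟩ (Subgroup.subset_closure (Or.inl rfl))
  obtain ⟨b', eb⟩ := h ⟨b, hb⟩ (Subgroup.subset_closure (Or.inr rfl))
  exact ⟨a', b', ea, eb⟩

/-- conjugates of the involution in the image are conjugate in it -/
theorem T_conj {a : G} (ha : a ∈ E.M) (hT : E.toCtx.IsT a) : ∃ m ∈ E.M, m⁻¹ * E.toCtx.t * m = a := by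
  obtain ⟨ha2, -⟩ := E.toCtx.isT_sq hT
  obtain ⟨m, hm, a', -, e, -⟩ := E.conj_pair ha ha ha2 ha2 rfl
  rcases (E.toCtx.isT_iff_pure E.hx).1 (e ▸ hT.conj' m) with rfl | ⟨p, hp, rfl⟩
  · refine ⟨m, hm, ?_⟩
    change E.toCtx.t = _ at e
    rw [e]; group
  · refine ⟨E.d * E.φ (pw (trw p)) * m, mul_mem (mul_mem E.d_mem (E.phi_mem _)) hm, ?_⟩
    calc (E.d * E.φ (pw (trw p)) * m)⁻¹ * E.toCtx.t * (E.d * E.φ (pw (trw p)) * m)
        = m⁻¹ * ((E.φ (pw (trw p)))⁻¹ * (E.d⁻¹ * E.toCtx.t * E.d) * E.φ (pw (trw p))) * m := by group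
      _ = a := by
        rw [E.d_swap, ← map_inv, ← map_mul, ← map_mul, cls_conj_zero hp, e]; group

/-- an involution of the second class in the image moves to the chosen one -/
theorem Y_conj {a : G} (ha : a ∈ E.M) (ha2 : a * a = 1) (h1 : a ≠ 1) (hT : ¬E.toCtx.IsT a) :
    ∃ m ∈ E.M, m * a * m⁻¹ = E.y := by
  obtain ⟨m, hm, a', -, e, -⟩ := E.conj_pair ha ha ha2 ha2 rfl
  have h2 : a' * a' = 1 := E.inj (by
    rw [map_mul, e, map_one, show m * a * m⁻¹ * (m * a * m⁻¹) = m * (a * a) * m⁻¹ by group, ha2]; group)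
  have hne : a' ≠ 1 := fun h => h1 (conj_eq_one_iff.1 (show m * a * m⁻¹ = 1 by rw [← e, h, map_one]))
  rcases invol_cases h2 hne with hp | ⟨c, hc⟩
  · refine absurd ?_ hT
    have := (E.toCtx.pure_isT E.hx hp).conj m
    rw [e] at this
    simpa [mul_assoc] using this
  · refine ⟨E.φ c * m, mul_mem (E.phi_mem c) hm, ?_⟩
    calc E.φ c * m * a * (E.φ c * m)⁻¹ = E.φ c * (m * a * m⁻¹) * (E.φ c)⁻¹ := by group
      _ = E.y := by rw [← e, ← hc, y, map_mul, map_mul, map_inv]; group

end Emb

end CfsgLib.CoThreeUniq
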