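import Cfsg.Agent.Lib.CoThreeUniq.CentY
import Cfsg.Agent.Lib.ZStar.Main
import Cfsg.Prelude.Def_Local

/-!
Fusion of involutions in a group whose centraliser of an involution is the double cover.
-/

set_option autoImplicit false
set_option Elab.async false
set_option maxRecDepth 20000

namespace CfsgLib.CoThreeUniq

open CfsgLib.CosetEnum CfsgLib.TwistCoset

/-- the centraliser of an involution is the group of the table -/
structure Ctx (G : Type*) [Group G] where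
  /-- the map -/
  φ : P →* G
  inj : Function.Injective φ
  cent : ∀ g, g * φ zP = φ zP * g ↔ g ∈ φ.range

/-- the facts of the four group and the representatives, unpacked -/
theorem four_za : pw zaw * y7 = y7 * pw zaw ∧ pw zaw * pw zaw = zP := by
  have h := four_ok
  simp only [fourOK, Bool.and_eq_true] at h
  obtain ⟨⟨⟨-, ⟨⟨-, h1⟩, h2⟩⟩, -⟩, -⟩ := h
  exact ⟨comm_of_same h1, by rw [← pw_append, same_sound h2]; rfl⟩

theorem four_zx : pw zxw ∈ Xs ∧ pw zxw * pw zxw = zP ∧ Pure (zP * cls 0) ∧ zP ≠ cls 0 := by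
  have h := four_ok
  simp only [fourOK, Bool.and_eq_true] at h
  obtain ⟨⟨-, ⟨⟨h0, h1⟩, h2⟩⟩, h3, h4⟩ := h
  refine ⟨?_, by rw [← pw_append, same_sound h2]; rfl, ?_, fun e => ?_⟩
  · rw [mem_Xs, img_pw h0 (by norm_num)]
    exact Nat.eq_of_beq_eq_true h1
  · rw [cls_zero, zP, ← pw_append]
    exact (pureB_iff (ok_append.2 ⟨clsKeys_facts.2.2.2.1, clsKeys_facts.2.2.2.2.1⟩)).1 h3
  · rw [cls_zero, zP] at e
    rw [Bool.not_eq_true', (same_iff clsKeys_facts.2.2.2.1 clsKeys_facts.2.2.2.2.1).2 e] at h4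
    exact Bool.noConfusion h4

theorem pure_ne_one {a : P} (h : Pure a) : a ≠ 1 := by
  rcases h with rfl | ⟨p, hp, rfl⟩
  · exact zP_ne
  · intro e
    have hp0 := cls_conj_zero hp
    rw [e] at hp0
    have h0 : cls 0 = 1 := by
      calc cls 0 = pw (trw p) * ((pw (trw p))⁻¹ * cls 0 * pw (trw p)) * (pw (trw p))⁻¹ := by group
        _ = 1 := by rw [hp0]; group
    rw [← eE_two] at h0
    exact absurd (eE_inj (a := 2) (b := 0) (by norm_num) (by norm_num) (h0.trans eE_zero.symm)) (by norm_num)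

theorem pure_z_mul {a : P} (h : Pure a) (hne : a ≠ zP) : Pure (zP * a) := by
  rcases h with rfl | ⟨p, hp, rfl⟩
  · exact absurd rfl hne
  · rw [← cls_conj_zero hp]
    generalize pw (trw p) = c
    rw [show zP * (c⁻¹ * cls 0 * c) = c⁻¹ * (zP * cls 0) * c by rw [← mul_assoc, ← mul_assoc, zP_comm, mul_assoc c⁻¹ zP, ← mul_assoc c⁻¹]]
    exact pure_conj c four_zx.2.2.1

theorem cls_sq {p : ℕ} (hp : p < 630) : cls p * cls p = 1 := by
  rw [← cls_conj_zero hp, ← eE_two]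
  generalize pw (trw p) = c
  calc c⁻¹ * eE 2 * c * (c⁻¹ * eE 2 * c) = c⁻¹ * (eE 2 * eE 2) * c := by group
    _ = 1 := by rw [(eW_facts (by norm_num)).2.2.2 2 (by norm_num), Nat.xor_self, eE_zero]; group

theorem pure_sq {a : P} (h : Pure a) : a * a = 1 := by
  rcases h with rfl | ⟨p, hp, rfl⟩
  exacts [zP_sq, cls_sq hp]

variable {G : Type*} [Group G]

namespace Ctx

variable (K : Ctx G)

/-- the involution -/
noncomputable def t : G := K.φ zP

/-- conjugate to the involution -/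
def IsT (a : G) : Prop := ∃ g : G, g⁻¹ * K.t * g = a

variable {K}

theorem IsT.conj {a : G} (h : K.IsT a) (g : G) : K.IsT (g⁻¹ * a * g) := by
  obtain ⟨c, rfl⟩ := h
  exact ⟨c * g, by group⟩

theorem IsT.conj' {a : G} (h : K.IsT a) (g : G) : K.IsT (g * a * g⁻¹) := by
  simpa using h.conj g⁻¹

variable (K)

theorem isT_self : K.IsT K.t := ⟨1, by group⟩

theorem t_sq : K.t * K.t = 1 := by rw [t, ← map_mul, zP_sq, map_one]

theorem t_ne : K.t ≠ 1 := fun h => zP_ne (K.inj (h.trans (map_one K.φ).symm))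

theorem isT_sq {a : G} (h : K.IsT a) : a * a = 1 ∧ a ≠ 1 := by
  obtain ⟨g, rfl⟩ := h
  refine ⟨?_, fun h => K.t_ne ?_⟩
  · calc g⁻¹ * K.t * g * (g⁻¹ * K.t * g) = g⁻¹ * (K.t * K.t) * g := by group
      _ = 1 := by rw [K.t_sq]; group
  · calc K.t = g * (g⁻¹ * K.t * g) * g⁻¹ := by group
      _ = 1 := by rw [h]; group

theorem exists_pre {g : G} (h : g * K.t = K.t * g) : ∃ a, K.φ a = g := (K.cent g).1 h

theorem comm_t (a : P) : K.φ a * K.t = K.t * K.φ a := (K.cent _).2 ⟨a, rfl⟩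

variable [Finite G]

/-- every two-subgroup containing the image of the Sylow subgroup is that image -/
theorem exists_sylow : ∃ T : Sylow 2 G, (T : Subgroup G) = S2.map K.φ := by
  have : Fact (Nat.Prime 2) := ⟨Nat.prime_two⟩
  obtain ⟨T0, hT0⟩ := S2_sylow
  have hp : IsPGroup 2 (S2.map K.φ) := hT0 ▸ T0.2.map K.φ
  obtain ⟨T, hT⟩ := hp.exists_le_sylow
  refine ⟨T, le_antisymm ?_ hT⟩
  by_contra hne
  have := T.2.isNilpotent
  have hlt : (S2.map K.φ).subgroupOf T < ⊤ := lt_top_iff_ne_top.2 fun h => hne fun x hx => by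
    have : (⟨x, hx⟩ : (T : Subgroup G)) ∈ (S2.map K.φ).subgroupOf T := by rw [h]; trivial
    exact this
  obtain ⟨x, hxn, hxS⟩ := SetLike.exists_of_lt (Group.normalizerCondition_of_isNilpotent _ hlt)
  have hzS : K.t ∈ S2.map K.φ := by
    refine ⟨zP, ?_, rfl⟩
    obtain ⟨g, hg⟩ := conj_into_S2 (a := zP) (k := 1) (by rw [pow_one, sq, zP_sq])
    rwa [← zP_comm, mul_inv_cancel_right] at hg
  have hxt : (x : G) * K.t * (x : G)⁻¹ ∈ S2.map K.φ :=
    (Subgroup.mem_normalizer_iff.1 hxn ⟨K.t, hT hzS⟩).1 hzS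
  obtain ⟨c, hcS, hc⟩ := hxt
  have hcomm : ∀ y ∈ S2, y * c = c * y := by
    intro y hy
    refine K.inj ?_
    have hy' : (x : G)⁻¹ * K.φ y * x ∈ S2.map K.φ := by
      have := (Subgroup.mem_normalizer_iff.1 (inv_mem hxn) ⟨K.φ y, hT ⟨y, hy, rfl⟩⟩).1 ⟨y, hy, rfl⟩
      simpa [Subgroup.mem_subgroupOf] using this
    obtain ⟨y', -, e⟩ := hy'
    rw [map_mul, map_mul, hc]
    calc K.φ y * ((x : G) * K.t * (x : G)⁻¹) = x * ((x : G)⁻¹ * K.φ y * x * K.t) * (x : G)⁻¹ := by group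
      _ = x * (K.t * ((x : G)⁻¹ * K.φ y * x)) * (x : G)⁻¹ := by rw [← e, K.comm_t]
      _ = (x : G) * K.t * (x : G)⁻¹ * K.φ y := by group
  obtain ⟨n, hn, rfl⟩ := mem_S2 hcS
  have hz2 : sEl n = zP ∨ sEl n = 1 := center_S2 hn hcomm
  rcases hz2 with hz2 | hz2
  · refine hxS ?_
    have hxc : (x : G) * K.t = K.t * x := by
      rw [← mul_inv_eq_iff_eq_mul, ← hc, hz2]; rfl
    obtain ⟨a, ha⟩ := K.exists_pre hxc
    have hmax : a ∈ S2 := by
      have hp2 : IsPGroup 2 ((T : Subgroup G).comap K.φ) := T.2.comap_of_injective K.φ K.inj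
      have hle : (T0 : Subgroup P) ≤ (T : Subgroup G).comap K.φ := fun b hb =>
        hT ⟨b, hT0 ▸ hb, rfl⟩
      rw [← hT0, ← T0.3 hp2 hle, Subgroup.mem_comap, ha]
      exact x.2
    exact ⟨a, hmax, ha⟩
  · rw [hz2, map_one] at hc
    exact K.t_ne (conj_eq_one_iff.1 hc.symm)

theorem exists_conj_into {a : G} (h2 : a * a = 1) : ∃ g b, K.φ b = g * a * g⁻¹ := by
  have : Fact (Nat.Prime 2) := ⟨Nat.prime_two⟩
  obtain ⟨T, hT⟩ := K.exists_sylow
  have hp : IsPGroup 2 (Subgroup.zpowers a) := by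
    obtain ⟨j, -, hj⟩ := (Nat.dvd_prime_pow (m := 1) Nat.prime_two).1
      (orderOf_dvd_of_pow_eq_one (x := a) (n := 2 ^ 1) (by rw [pow_one, sq, h2]))
    exact IsPGroup.of_card (n := j) (by rw [Nat.card_zpowers, hj])
  obtain ⟨U, hU⟩ := hp.exists_le_sylow
  obtain ⟨g, hg⟩ := MulAction.exists_smul_eq G U T
  have h : g * a * g⁻¹ ∈ (T : Subgroup G) := by
    rw [← hg]
    simp only [Sylow.coe_subgroup_smul, Subgroup.mem_pointwise_smul_iff_inv_smul_mem, MulAut.smul_def,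
      MulAut.conj_inv_apply]
    simpa [mul_assoc] using hU (Subgroup.mem_zpowers a)
  rw [hT] at h
  obtain ⟨b, -, hb⟩ := h
  exact ⟨g, b, hb⟩

omit [Finite G] in
/-- an involution of the second class is not conjugate to the first -/
theorem y_not_isT {a : P} (ha : IsY a) : ¬K.IsT (K.φ a) := by
  rintro ⟨g, hg⟩
  obtain ⟨c, rfl⟩ := ha
  replace hg : (g * (K.φ c)⁻¹)⁻¹ * K.t * (g * (K.φ c)⁻¹) = K.φ y7 := by
    calc (g * (K.φ c)⁻¹)⁻¹ * K.t * (g * (K.φ c)⁻¹) = K.φ c * (g⁻¹ * K.t * g) * (K.φ c)⁻¹ := by group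
      _ = K.φ y7 := by rw [hg, map_mul, map_mul, map_inv]; group
  generalize g * (K.φ c)⁻¹ = g at hg
  obtain ⟨hza, hza2⟩ := four_za
  -- `g za g⁻¹` centralises the involution
  have hcza : g * K.φ (pw zaw) * g⁻¹ * K.t = K.t * (g * K.φ (pw zaw) * g⁻¹) := by
    calc g * K.φ (pw zaw) * g⁻¹ * K.t = g * (K.φ (pw zaw) * (g⁻¹ * K.t * g)) * g⁻¹ := by group
      _ = g * K.φ (pw zaw * y7) * g⁻¹ := by rw [hg, map_mul]
      _ = g * (g⁻¹ * K.t * g * K.φ (pw zaw)) * g⁻¹ := by rw [hza, map_mul, hg]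
      _ = K.t * (g * K.φ (pw zaw) * g⁻¹) := by group
  obtain ⟨r, hr⟩ := K.exists_pre hcza
  have hsq : K.φ (r * r) = g * K.t * g⁻¹ := by
    rw [map_mul, hr, show g * K.φ (pw zaw) * g⁻¹ * (g * K.φ (pw zaw) * g⁻¹) =
      g * (K.φ (pw zaw) * K.φ (pw zaw)) * g⁻¹ by group, ← map_mul, hza2]
    rfl
  have h2 : r * r * (r * r) = 1 := K.inj (by
    rw [map_mul, hsq, map_one, show g * K.t * g⁻¹ * (g * K.t * g⁻¹) = g * (K.t * K.t) * g⁻¹ by group, K.t_sq]
    group)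
  have h1 : r * r ≠ 1 := fun h => K.t_ne (conj_eq_one_iff.1 (by rw [← hsq, h, map_one]))
  have hnz : r * r ≠ zP := fun h => y7_not_pure (by
    rw [h] at hsq
    refine Or.inl (K.inj ?_)
    rw [← hg]
    calc g⁻¹ * K.t * g = g⁻¹ * K.φ zP * g := rfl
      _ = g⁻¹ * (g * K.t * g⁻¹) * g := by rw [hsq]
      _ = K.t := by group)
  rcases invol_cases h2 h1 with (h | ⟨p, hp, hp'⟩) | hy
  · exact hnz h
  · -- a square root of the centre commuting with the conjugate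
    obtain ⟨hzx, hzx2, -, -⟩ := four_zx
    obtain ⟨q, hq2, hqc⟩ : ∃ q, q * q = zP ∧ q * (r * r) = r * r * q := by
      rw [hp', ← cls_conj_zero hp]
      generalize pw (trw p) = d
      refine ⟨d⁻¹ * pw zxw * d, ?_, ?_⟩
      · calc d⁻¹ * pw zxw * d * (d⁻¹ * pw zxw * d) = d⁻¹ * (pw zxw * pw zxw * d) := by group
          _ = zP := by rw [hzx2, zP_comm, inv_mul_cancel_left]
      · calc d⁻¹ * pw zxw * d * (d⁻¹ * cls 0 * d) = d⁻¹ * (pw zxw * cls 0) * d := by group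
          _ = d⁻¹ * (cls 0 * pw zxw) * d := by rw [mem_Xs_iff.1 hzx]
          _ = d⁻¹ * cls 0 * d * (d⁻¹ * pw zxw * d) := by group
    have hc : g⁻¹ * K.φ q * g * K.t = K.t * (g⁻¹ * K.φ q * g) := by
      calc g⁻¹ * K.φ q * g * K.t = g⁻¹ * (K.φ q * (g * K.t * g⁻¹)) * g := by group
        _ = g⁻¹ * K.φ (q * (r * r)) * g := by rw [← hsq, map_mul K.φ q]
        _ = g⁻¹ * (g * K.t * g⁻¹ * K.φ q) * g := by rw [hqc, map_mul, hsq]
        _ = K.t * (g⁻¹ * K.φ q * g) := by group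
    obtain ⟨s, hs⟩ := K.exists_pre hc
    refine sq_not_isY (a := s) ⟨1, ?_⟩
    refine K.inj ?_
    rw [map_mul K.φ s s, hs, inv_one, one_mul, mul_one, ← hg, show g⁻¹ * K.φ q * g * (g⁻¹ * K.φ q * g) = g⁻¹ * (K.φ q * K.φ q) * g by group,
      ← map_mul K.φ q q, hq2]
    simp [t]
  · exact sq_not_isY hy

/-- the involution of point zero is conjugate to the central one -/
theorem x_isT (hO : Cfsg.oddCore G = ⊥) (hZ : Subgroup.center G = ⊥) : K.IsT (K.φ (cls 0)) := by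
  have : Fact (Nat.Prime 2) := ⟨Nat.prime_two⟩
  obtain ⟨T, hT⟩ := K.exists_sylow
  have htT : K.t ∈ (T : Subgroup G) := by
    rw [hT]
    obtain ⟨g, hg⟩ := conj_into_S2 (a := zP) (k := 1) (by rw [pow_one, sq, zP_sq])
    rw [← zP_comm, mul_inv_cancel_right] at hg
    exact ⟨zP, hg, rfl⟩
  by_contra hx
  have ht2 : orderOf K.t = 2 := orderOf_eq_prime (by rw [sq, K.t_sq]) K.t_ne
  obtain ⟨N, hN, hodd, hcomm⟩ := ZStar.exists_normal_odd_commutator_mem T K.t ht2 htT fun g hg => by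
    have hg' : g * K.t * g⁻¹ ∈ (T : Subgroup G) := hg
    rw [hT] at hg'
    obtain ⟨b, -, hb⟩ := hg'
    have hbT : K.IsT (K.φ b) := hb ▸ K.isT_self.conj' g
    obtain ⟨hb2, hb1⟩ := K.isT_sq hbT
    rcases invol_cases (a := b) (K.inj (by rw [map_mul, hb2, map_one])) (fun h => hb1 (by rw [h, map_one]))
      with (rfl | ⟨p, hp, rfl⟩) | hy
    · exact hb.symm
    · refine absurd ?_ hx
      have := hbT.conj' (K.φ (pw (trw p)))
      rwa [← cls_conj_zero hp, map_mul, map_mul, map_inv, show K.φ (pw (trw p)) * ((K.φ (pw (trw p)))⁻¹ *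
        K.φ (cls 0) * K.φ (pw (trw p))) * (K.φ (pw (trw p)))⁻¹ = K.φ (cls 0) by group] at this
    · exact absurd hbT (K.y_not_isT hy)
  have hbot : N = ⊥ := le_bot_iff.1 (hO ▸ le_sSup ⟨hN, Nat.coprime_two_right.mpr hodd⟩)
  have htc : K.t ∈ Subgroup.center G := by
    rw [Subgroup.mem_center_iff]
    intro g
    have h := hcomm g
    rw [hbot, Subgroup.mem_bot, mul_inv_eq_one, mul_inv_eq_iff_eq_mul] at h
    exact h.symm
  rw [hZ, Subgroup.mem_bot] at htc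
  exact K.t_ne htc

omit [Finite G] in
theorem pure_isT (hx : K.IsT (K.φ (cls 0))) {a : P} (h : Pure a) : K.IsT (K.φ a) := by
  rcases h with rfl | ⟨p, hp, rfl⟩
  · exact K.isT_self
  · rw [← cls_conj_zero hp, map_mul, map_mul, map_inv]
    exact hx.conj _

omit [Finite G] in
theorem isT_iff_pure (hx : K.IsT (K.φ (cls 0))) {a : P} : K.IsT (K.φ a) ↔ Pure a := by
  refine ⟨fun h => ?_, K.pure_isT hx⟩
  obtain ⟨h2, h1⟩ := K.isT_sq h
  rcases invol_cases (a := a) (K.inj (by rw [map_mul, h2, map_one])) (fun e => h1 (by rw [e, map_one]))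
    with h' | h'
  exacts [h', absurd h (K.y_not_isT h')]

omit [Finite G] in
/-- an element exchanging the central involution and that of point zero -/
theorem exists_swap (hx : K.IsT (K.φ (cls 0))) :
    ∃ q : G, q⁻¹ * K.t * q = K.φ (cls 0) ∧ q⁻¹ * K.φ (cls 0) * q = K.t := by
  obtain ⟨g, hg⟩ := hx
  have hxc : g * K.t * g⁻¹ * K.t = K.t * (g * K.t * g⁻¹) := by
    have h := K.comm_t (cls 0)
    calc g * K.t * g⁻¹ * K.t = g * (K.t * (g⁻¹ * K.t * g)) * g⁻¹ := by group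
      _ = g * (g⁻¹ * K.t * g * K.t) * g⁻¹ := by rw [hg, h]
      _ = K.t * (g * K.t * g⁻¹) := by group
  obtain ⟨b, hb⟩ := K.exists_pre hxc
  have hbT : K.IsT (K.φ b) := hb ▸ K.isT_self.conj' g
  rcases (K.isT_iff_pure ⟨g, hg⟩).1 hbT with rfl | ⟨p, hp, rfl⟩
  · exfalso
    refine four_zx.2.2.2 (K.inj ?_)
    rw [← hg]
    calc K.φ zP = g⁻¹ * (g * K.t * g⁻¹) * g := by group; rfl
      _ = g⁻¹ * K.t * g := by rw [← hb]; rfl
  · refine ⟨K.φ (pw (trw p)) * g, ?_, ?_⟩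
    · rw [← hg]
      calc (K.φ (pw (trw p)) * g)⁻¹ * K.t * (K.φ (pw (trw p)) * g)
          = g⁻¹ * ((K.φ (pw (trw p)))⁻¹ * (K.t * K.φ (pw (trw p)))) * g := by group
        _ = g⁻¹ * K.t * g := by rw [← K.comm_t, inv_mul_cancel_left]
    · calc (K.φ (pw (trw p)) * g)⁻¹ * K.φ (cls 0) * (K.φ (pw (trw p)) * g)
          = g⁻¹ * K.φ ((pw (trw p))⁻¹ * cls 0 * pw (trw p)) * g := by rw [map_mul, map_mul, map_inv]; group
        _ = g⁻¹ * (g * K.t * g⁻¹) * g := by rw [cls_conj_zero hp, hb]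
        _ = K.t := by group

end Ctx

end CfsgLib.CoThreeUniq
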