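import Cfsg.Agent.Lib.CoThreeUniq.TwCommon
import Cfsg.Agent.Lib.CoThreeUniq.CaseTg

/-!
The certified double cosets of the good case.
-/

set_option autoImplicit false
set_option linter.style.longLine false
set_option Elab.async false
set_option maxRecDepth 20000

namespace CfsgLib.CoThreeUniq
open CfsgLib.CosetEnum CfsgLib.TwistCoset
theorem tg_facts : factsOK tg 157 = true := by decide +kernel

theorem tg_shape : shapeOK tg 4 15 tgE tgS = true := by decide +kernel

theorem tg_cos : tg.cosOK = true := by decide +kernel

theorem tg_roots0 : tg.rootsOK 157 0 = true := by decide +kernel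

theorem tg_reach0 : tg.reachOK 157 0 (tgTree0.map leafOf) = true := by decide +kernel

theorem tg_roots1 : tg.rootsOK 157 1 = true := by decide +kernel

theorem tg_reach1 : tg.reachOK 157 1 (tgTree1.map leafOf) = true := by decide +kernel

theorem tg_roots2 : tg.rootsOK 157 2 = true := by decide +kernel

theorem tg_reach2 : tg.reachOK 157 2 (tgTree2.map leafOf) = true := by decide +kernel

theorem tg_roots3 : tg.rootsOK 157 3 = true := by decide +kernel

theorem tg_reach3 : tg.reachOK 157 3 (tgTree3.map leafOf) = true := by decide +kernel

theorem tg_roots4 : tg.rootsOK 157 4 = true := by decide +kernel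

theorem tg_reach4 : tg.reachOK 157 4 (tgTree4.map leafOf) = true := by decide +kernel

theorem tg_roots5 : tg.rootsOK 157 5 = true := by decide +kernel

theorem tg_reach5 : tg.reachOK 157 5 (tgTree5.map leafOf) = true := by decide +kernel

theorem tg_roots6 : tg.rootsOK 157 6 = true := by decide +kernel

theorem tg_reach6 : tg.reachOK 157 6 (tgTree6.map leafOf) = true := by decide +kernel

end CfsgLib.CoThreeUniq
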