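import Cfsg.Agent.Lib.CoThreeUniq.Vec
import Cfsg.Agent.Lib.CoThreeUniq.DataInvol
import Mathlib.GroupTheory.Sylow

/-!
A Sylow subgroup of the double cover, and the classes of involutions read off from it.
-/

set_option autoImplicit false
set_option Elab.async false
set_option maxRecDepth 20000

namespace CfsgLib.CoThreeUniq

open CfsgLib.CosetEnum CfsgLib.TwistCoset

/-- the key of an element -/
noncomputable def keyP (a : P) : ℕ := bB.foldr (fun b k => img a b + 1024 * k) 0

theorem keyP_pw {w : List ℕ} (hw : ok w = true) : keyP (pw w) = key w := by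
  unfold keyP key
  suffices ∀ B : List ℕ, (∀ b ∈ B, b < 934) → B.foldr (fun b k => img (pw w) b + 1024 * k) 0 =
      B.foldr (fun b k => tC.run b w + 1024 * k) 0 from this bB bB_lt
  intro B hB
  induction B with
  | nil => rfl
  | cons b B ih =>
    rw [List.forall_mem_cons] at hB
    rw [List.foldr_cons, List.foldr_cons, ih hB.2, img_pw hw hB.1]

theorem keyP_inj {a b : P} (h : keyP a = keyP b) : a = b := by
  obtain ⟨u, hu, rfl⟩ := exists_word a
  obtain ⟨w, hw, rfl⟩ := exists_word b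
  rw [keyP_pw hu, keyP_pw hw] at h
  exact eq_of_key hu hw h

/-- the key after multiplying by a word -/
noncomputable def kstep (k : ℕ) (w : List ℕ) : ℕ :=
  tC.run (k % 1024) w + 1024 * (tC.run (k / 1024 % 1024) w + 1024 *
    (tC.run (k / 1048576 % 1024) w + 1024 * tC.run (k / 1073741824 % 1024) w))

theorem keyP_mul_pw (a : P) {w : List ℕ} (hw : ok w = true) : keyP (a * pw w) = kstep (keyP a) w := by
  have h : ∀ b ∈ bB, img (a * pw w) b = tC.run (img a b) w ∧ img a b < 934 := fun b hb =>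
    ⟨by rw [img_mul _ _ (bB_lt b hb), img_pw hw (img_lt _ (bB_lt b hb))], img_lt _ (bB_lt b hb)⟩
  simp only [bB, List.forall_mem_cons] at h
  obtain ⟨⟨e0, l0⟩, ⟨e1, l1⟩, ⟨e2, l2⟩, ⟨e3, l3⟩, -⟩ := h
  simp only [keyP, bB, List.foldr_cons, List.foldr_nil, e0, e1, e2, e3, kstep, mul_zero, add_zero]
  congr 2
  · omega
  congr 2
  · congr 1; omega
  congr 2
  · congr 1; omega
  · congr 1; omega

/-- key of an element of the Sylow subgroup -/
noncomputable def sK (n : ℕ) : ℕ := sKeys.at' 40 n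

/-- the product with a generator -/
noncomputable def sSt (n j : ℕ) : ℕ := sStep.at' 10 (6 * n + j)

/-- the generator -/
noncomputable def sG (j : ℕ) : List ℕ := nthWord sGens j

/-- the product of two elements -/
noncomputable def fol (m : ℕ) : ℕ → ℕ → ℕ :=
  Nat.rec (fun _ => m) (fun _ ih n => strict (sPar.at' 14 n) fun q =>
    Nat.rec m (fun _ _ => sSt (ih (q / 16)) (q % 16)) n)

theorem sGens_len : sGens.length = 6 ∧ sGens.all (fun w => ok w) = true ∧ (List.range 1024).length = 1024 ∧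
    Nat.beq (sK 0) (key []) = true ∧ newFrom ((List.range 1024).map fun n => sK n % 1000003) 0 = true := by
  refine ⟨rfl, ?_, ?_, ?_, ?_⟩ <;> decide +kernel

/-- the parent of an element -/
noncomputable def parAt (n : ℕ) : Bool :=
  strict (sPar.at' 14 n) fun q => Nat.rec true (fun _ _ => band (ltB (q / 16) n) (band (ltB (q % 16) 6)
    (Nat.beq (sSt (q / 16) (q % 16)) n))) n

/-- the row of an element -/
noncomputable def rowAt (n : ℕ) : Bool :=
  Cert.allBelow 6 fun j => strict (sSt n j) fun m => band (ltB m 1024) (Nat.beq (kstep (sK n) (sG j)) (sK m))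

theorem sPar_ok : allUp parAt 10 0 = true := by decide +kernel

theorem sStep_ok : allUp rowAt 10 0 = true := by decide +kernel

/-- the subgroup -/
noncomputable def S2 : Subgroup P := Subgroup.closure {y | ∃ j < 6, pw (sG j) = y}

theorem ok_sG {j : ℕ} (hj : j < 6) : ok (sG j) = true := by
  rw [sG, nthWord_eq, List.getD_eq_getElem _ _ (by rw [sGens_len.1]; exact hj)]
  exact List.all_eq_true.mp sGens_len.2.1 _ (List.getElem_mem _)

theorem step_facts {n j : ℕ} (hn : n < 1024) (hj : j < 6) {a : P} (ha : keyP a = sK n) :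
    sSt n j < 1024 ∧ keyP (a * pw (sG j)) = sK (sSt n j) := by
  have h := Cert.allBelow_spec (allUp_spec sStep_ok n (Nat.zero_le _) (by omega)) j hj
  simp only [strict_eq, band_eq_true, ltB_iff] at h
  exact ⟨h.1, by rw [keyP_mul_pw a (ok_sG hj), ha, Nat.eq_of_beq_eq_true h.2]⟩

theorem keyP_one : keyP (1 : P) = sK 0 := by
  rw [Nat.eq_of_beq_eq_true sGens_len.2.2.2.1, ← keyP_pw (w := []) rfl, pw_nil]

theorem par_facts {n : ℕ} (hn : n < 1024) (h0 : n ≠ 0) : sPar.at' 14 n / 16 < n ∧ sPar.at' 14 n % 16 < 6 ∧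
    sSt (sPar.at' 14 n / 16) (sPar.at' 14 n % 16) = n := by
  have h := allUp_spec sPar_ok n (Nat.zero_le _) (by omega)
  obtain ⟨k, rfl⟩ := Nat.exists_eq_succ_of_ne_zero h0
  simp only [parAt, strict_eq, band_eq_true, ltB_iff] at h
  exact ⟨h.1, h.2.1, Nat.eq_of_beq_eq_true h.2.2⟩

theorem exists_elt : ∀ n < 1024, ∃ a ∈ S2, keyP a = sK n := by
  intro n
  induction n using Nat.strong_induction_on with
  | _ n ih =>
    intro hn
    by_cases h0 : n = 0
    · subst h0; exact ⟨1, one_mem _, keyP_one⟩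
    obtain ⟨hp, hj, he⟩ := par_facts hn h0
    obtain ⟨a, ha, hk⟩ := ih _ hp (by omega)
    refine ⟨a * pw (sG (sPar.at' 14 n % 16)), mul_mem ha (Subgroup.subset_closure ⟨_, hj, rfl⟩), ?_⟩
    rw [(step_facts (by omega) hj hk).2, he]

/-- the element of an index -/
noncomputable def sEl (n : ℕ) : P := if h : n < 1024 then (exists_elt n h).choose else 1

theorem sEl_spec {n : ℕ} (hn : n < 1024) : sEl n ∈ S2 ∧ keyP (sEl n) = sK n := by
  rw [sEl, dif_pos hn]; exact (exists_elt n hn).choose_spec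

theorem mem_S2 {a : P} (ha : a ∈ S2) : ∃ n < 1024, sEl n = a := by
  have ha' : a ∈ Submonoid.closure {y | ∃ j < 6, pw (sG j) = y} := by
    rw [← Subgroup.closure_toSubmonoid_of_finite]
    exact ha
  suffices ∃ n < 1024, keyP a = sK n by
    obtain ⟨n, hn, e⟩ := this
    exact ⟨n, hn, keyP_inj ((sEl_spec hn).2.trans e.symm)⟩
  clear ha
  induction ha' using Submonoid.closure_induction_right with
  | one => exact ⟨0, by norm_num, keyP_one⟩
  | mul_right a _ g hg ih =>
    obtain ⟨j, hj, rfl⟩ := hg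
    obtain ⟨n, hn, e⟩ := ih
    exact ⟨_, (step_facts hn hj e).1, (step_facts hn hj e).2⟩

theorem sK_inj {m n : ℕ} (hm : m < 1024) (hn : n < 1024) (h : sK m = sK n) : m = n := by
  obtain ⟨-, -, hlen, -, hnd⟩ := sGens_len
  have hj := List.inj_on_of_nodup_map (newFrom_spec hnd).1
  exact hj (List.mem_range.2 hm) (List.mem_range.2 hn) (by simp only [h])

theorem card_S2 : Nat.card S2 = 1024 := by
  let f : Fin 1024 → S2 := fun n => ⟨sEl n, (sEl_spec n.2).1⟩
  have hf : Function.Bijective f := by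
    refine ⟨fun m n h => Fin.ext (sK_inj m.2 n.2 ?_), fun a => ?_⟩
    · rw [← (sEl_spec m.2).2, ← (sEl_spec n.2).2, show sEl m.1 = sEl n.1 from congrArg Subtype.val h]
    · obtain ⟨n, hn, e⟩ := mem_S2 a.2
      exact ⟨⟨n, hn⟩, Subtype.ext e⟩
  rw [← Nat.card_eq_of_bijective f hf, Nat.card_fin]

theorem fol_spec : ∀ (f : ℕ) {n : ℕ}, n ≤ f → n < 1024 → ∀ {m : ℕ}, m < 1024 →
    fol m f n < 1024 ∧ keyP (sEl m * sEl n) = sK (fol m f n) := by
  intro f
  induction f with
  | zero =>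
    intro n hf hn m hm
    obtain rfl : n = 0 := by omega
    have e : sEl 0 = 1 := keyP_inj ((sEl_spec (by norm_num)).2.trans keyP_one.symm)
    rw [e, mul_one]
    exact ⟨hm, (sEl_spec hm).2⟩
  | succ f ih =>
    intro n hf hn m hm
    by_cases h0 : n = 0
    · subst h0
      have e : sEl 0 = 1 := keyP_inj ((sEl_spec (by norm_num)).2.trans keyP_one.symm)
      simp only [fol, strict_eq, e, mul_one]
      exact ⟨hm, (sEl_spec hm).2⟩
    · obtain ⟨k, rfl⟩ : ∃ k, n = k + 1 := ⟨n - 1, by omega⟩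
      obtain ⟨hp, hj, he⟩ := par_facts hn h0
      obtain ⟨h1, h2⟩ := ih (n := sPar.at' 14 (k + 1) / 16) (by omega) (by omega) hm
      have hlt : sPar.at' 14 (k + 1) / 16 < 1024 := by omega
      have e : sEl (k + 1) = sEl (sPar.at' 14 (k + 1) / 16) * pw (sG (sPar.at' 14 (k + 1) % 16)) := by
        refine keyP_inj ?_
        rw [(step_facts hlt hj (sEl_spec hlt).2).2, he, (sEl_spec hn).2]
      have ef : fol m (f + 1) (k + 1) =
          sSt (fol m f (sPar.at' 14 (k + 1) / 16)) (sPar.at' 14 (k + 1) % 16) := by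
        simp only [fol, strict_eq]
      rw [ef, e, ← mul_assoc]
      obtain ⟨h3, h4⟩ := step_facts (a := sEl m * sEl (sPar.at' 14 (k + 1) / 16)) h1 hj h2
      exact ⟨h3, h4⟩

/-- the product of two elements of the table, with fuel enough -/
noncomputable def sMul (m n : ℕ) : ℕ := fol m 1023 n

theorem sEl_mul {m n : ℕ} (hm : m < 1024) (hn : n < 1024) :
    sMul m n < 1024 ∧ sEl m * sEl n = sEl (sMul m n) := by
  obtain ⟨h1, h2⟩ := fol_spec 1023 (by omega) hn hm
  exact ⟨h1, keyP_inj (h2.trans (sEl_spec h1).2.symm)⟩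

/-- the second involution -/
noncomputable def y7 : P := pw yw7

/-- conjugate to the second involution -/
def IsY (a : P) : Prop := ∃ g : P, g⁻¹ * y7 * g = a

/-- kinds: one or the centre, a point, or a conjugation -/
noncomputable def kindOK (n : ℕ) : Bool :=
  strict (sKind.at' 12 n) fun k =>
    match k with
    | 0 => Nat.beq n 0
    | 1 => Nat.beq (sK n) zKey
    | c + 2 => pick (ltB c 630) (Nat.beq (nth clsKeys c 0) (sK n))
        (strict (c - 638) fun i => band (ok (nthWord yWits i))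
          (Nat.beq (key (iw (nthWord yWits i) ++ (yw7 ++ nthWord yWits i))) (sK n)))

/-- the check of one element -/
noncomputable def invAt (n : ℕ) : Bool :=
  strict (sMul n n) fun m => pick (Nat.beq m 0) (kindOK n)
    (pick (Nat.beq (sMul m m) 0) (Bool.or (Nat.beq (sK m) zKey) (memK (sK m) clsKeys)) true)

theorem invs_ok : allUp invAt 10 0 = true := by decide +kernel

theorem yw7_facts : ok yw7 = true ∧ same (yw7 ++ yw7) [] = true ∧ pureB yw7 = false ∧
    (key yw7 == key []) = false := by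
  refine ⟨?_, ?_, ?_, ?_⟩ <;> decide +kernel

theorem kind_spec {n : ℕ} (hn : n < 1024) (h : kindOK n = true) :
    sEl n = 1 ∨ Pure (sEl n) ∨ IsY (sEl n) := by
  obtain ⟨-, -, hz, hzw, -, -⟩ := clsKeys_facts
  unfold kindOK at h
  rw [strict_eq] at h
  split at h
  · obtain rfl := Nat.eq_of_beq_eq_true h
    exact Or.inl (keyP_inj ((sEl_spec hn).2.trans keyP_one.symm))
  · refine Or.inr (Or.inl (Or.inl (keyP_inj ?_)))
    rw [(sEl_spec hn).2, Nat.eq_of_beq_eq_true h, Nat.eq_of_beq_eq_true hz, zP, keyP_pw hzw]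
  · rename_i c _
    cases hc : ltB c 630
    · rw [hc, pick_false, strict_eq, band_eq_true] at h
      refine Or.inr (Or.inr ⟨pw (nthWord yWits (c - 638)), keyP_inj ?_⟩)
      rw [(sEl_spec hn).2, ← Nat.eq_of_beq_eq_true h.2,
        ← keyP_pw (ok_append.2 ⟨ok_iw h.1, ok_append.2 ⟨yw7_facts.1, h.1⟩⟩), pw_append, pw_append, pw_iw, y7,
        mul_assoc]
    · rw [hc, pick_true] at h
      have hc' : c < 630 := ltB_iff.mp hc
      refine Or.inr (Or.inl (Or.inr ⟨c, hc', keyP_inj ?_⟩))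
      rw [(sEl_spec hn).2, cls, keyP_pw (cls_facts hc').1, ← (cls_facts hc').2.1, ← nth_eq,
        Nat.eq_of_beq_eq_true h]

theorem pure_of_key {m : ℕ} (hm : m < 1024) (h : (Nat.beq (sK m) zKey || memK (sK m) clsKeys) = true) :
    Pure (sEl m) := by
  obtain ⟨w, hw, e⟩ := exists_word (sEl m)
  have hk : key w = sK m := by rw [← keyP_pw hw, e, (sEl_spec hm).2]
  rw [← e, ← pureB_iff hw, pureB, hk]
  exact h

theorem S2_sylow : ∃ T : Sylow 2 P, (T : Subgroup P) = S2 := by
  have h2 : IsPGroup 2 S2 := IsPGroup.of_card (n := 10) (by rw [card_S2]; norm_num)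
  obtain ⟨T, hT⟩ := h2.exists_le_sylow
  refine ⟨T, (Subgroup.eq_of_le_of_card_ge hT ?_).symm⟩
  obtain ⟨k, hk⟩ := T.2.exists_card_eq
  have hd := Subgroup.card_subgroup_dvd_card (T : Subgroup P)
  rw [card_P, hk] at hd
  rw [hk, card_S2]
  by_contra hlt
  have : 2 ^ 11 ∣ 2 ^ k := Nat.pow_dvd_pow 2 (by
    by_contra hk'
    have : 2 ^ k ≤ 2 ^ 10 := Nat.pow_le_pow_right (by norm_num) (by omega)
    omega)
  exact absurd (this.trans hd) (by norm_num)

/-- A two-element is conjugate into the subgroup. -/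
theorem conj_into_S2 {a : P} {k : ℕ} (ha : a ^ 2 ^ k = 1) : ∃ g : P, g * a * g⁻¹ ∈ S2 := by
  obtain ⟨T, hT⟩ := S2_sylow
  have hp : IsPGroup 2 (Subgroup.zpowers a) := by
    obtain ⟨j, -, hj⟩ := (Nat.dvd_prime_pow Nat.prime_two).1 (orderOf_dvd_of_pow_eq_one ha)
    exact IsPGroup.of_card (n := j) (by rw [Nat.card_zpowers, hj])
  obtain ⟨U, hU⟩ := hp.exists_le_sylow
  haveI : Fact (Nat.Prime 2) := ⟨Nat.prime_two⟩
  obtain ⟨g, hg⟩ := MulAction.exists_smul_eq P U T
  refine ⟨g, hT ▸ hg ▸ ?_⟩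
  simp only [Sylow.coe_subgroup_smul, Subgroup.mem_pointwise_smul_iff_inv_smul_mem, MulAut.smul_def, MulAut.conj_inv_apply]
  simpa [mul_assoc] using hU (Subgroup.mem_zpowers a)

theorem pure_conj (g : P) {a : P} (h : Pure a) : Pure (g⁻¹ * a * g) := by
  rcases h with rfl | ⟨p, hp, rfl⟩
  · exact Or.inl (by rw [mul_assoc, zP_comm g, inv_mul_cancel_left])
  · exact Or.inr ⟨_, img_block g hp, cls_conj g hp⟩

theorem sq_cases {n : ℕ} (hn : n < 1024) :
    (sEl n * sEl n = 1 → sEl n = 1 ∨ Pure (sEl n) ∨ IsY (sEl n)) ∧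
      (sEl n * sEl n * (sEl n * sEl n) = 1 → sEl n * sEl n ≠ 1 → Pure (sEl n * sEl n)) := by
  have h := allUp_spec invs_ok n (Nat.zero_le _) (by omega)
  obtain ⟨hm, e⟩ := sEl_mul hn hn
  unfold invAt at h
  rw [strict_eq] at h
  have e1 : ∀ {m}, m < 1024 → (sEl m = 1 ↔ m = 0) := fun {m} hm => by
    have h0 : keyP (sEl 0) = sK 0 := (sEl_spec (by norm_num)).2
    constructor
    · intro he
      exact sK_inj hm (by norm_num) (by rw [← (sEl_spec hm).2, he, keyP_one])
    · rintro rfl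
      exact keyP_inj (h0.trans keyP_one.symm)
  rw [e]
  refine ⟨fun h1 => ?_, fun h1 h2 => ?_⟩
  · rw [(e1 hm).1 h1, show Nat.beq 0 0 = true from rfl, pick_true] at h
    exact kind_spec hn h
  · have hb : Nat.beq (sMul n n) 0 = false := by
      refine Bool.eq_false_iff.2 fun hb => h2 ((e1 hm).2 (Nat.eq_of_beq_eq_true hb))
    obtain ⟨hmm, e2⟩ := sEl_mul hm hm
    rw [e2] at h1
    rw [hb, pick_false, (e1 hmm).1 h1, show Nat.beq 0 0 = true from rfl, pick_true] at h
    exact pure_of_key hm h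

/-- An involution is central, in the class of the points, or conjugate to the second one. -/
theorem invol_cases {a : P} (ha : a * a = 1) (h1 : a ≠ 1) : Pure a ∨ IsY a := by
  obtain ⟨g, hg⟩ := conj_into_S2 (a := a) (k := 1) (by rw [pow_one, sq, ha])
  obtain ⟨n, hn, e⟩ := mem_S2 hg
  have hsq : sEl n * sEl n = 1 := by
    rw [e, show g * a * g⁻¹ * (g * a * g⁻¹) = g * (a * a) * g⁻¹ by group, ha, mul_one, mul_inv_cancel]
  have ea : a = g⁻¹ * sEl n * g := by rw [e]; group
  rcases (sq_cases hn).1 hsq with h | h | ⟨c, hc⟩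
  · exact absurd (by rw [ea, h]; group) h1
  · exact Or.inl (ea ▸ pure_conj g h)
  · exact Or.inr ⟨c * g, by rw [ea, ← hc]; group⟩

theorem isY_conj (g : P) {a : P} (h : IsY a) : IsY (g⁻¹ * a * g) := by
  obtain ⟨c, rfl⟩ := h
  exact ⟨c * g, by group⟩

theorem y7_sq : y7 * y7 = 1 := by rw [y7, ← pw_append, same_sound yw7_facts.2.1, pw_nil]

theorem y7_not_pure : ¬Pure y7 := fun h => by
  have := (pureB_iff yw7_facts.1).2 h
  rw [yw7_facts.2.2.1] at this
  exact Bool.noConfusion this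

theorem y7_ne : y7 ≠ 1 := fun h => by
  have e : keyP y7 = keyP 1 := by rw [h]
  rw [y7, keyP_pw yw7_facts.1, ← pw_nil, keyP_pw rfl] at e
  simpa [e] using yw7_facts.2.2.2

theorem not_pure_of_isY {a : P} (h : IsY a) : ¬Pure a := by
  obtain ⟨g, rfl⟩ := h
  intro hp
  refine y7_not_pure ?_
  have := pure_conj g⁻¹ hp
  simpa [mul_assoc] using this

/-- No element squares to an involution of the second class. -/
theorem sq_not_isY {a : P} (h : IsY (a * a)) : False := by
  have hne : a * a ≠ 1 := fun h1 => by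
    obtain ⟨c, hc⟩ := h
    rw [h1] at hc
    apply y7_ne
    calc y7 = c * (c⁻¹ * y7 * c) * c⁻¹ := by group
      _ = 1 := by rw [hc]; group
  have h4 : a ^ 2 ^ 2 = 1 := by
    obtain ⟨c, hc⟩ := h
    calc a ^ 2 ^ 2 = a * a * (a * a) := by simp only [pow_succ, pow_zero, one_mul, mul_assoc, Nat.reducePow, Nat.reduceMul]
      _ = c⁻¹ * (y7 * y7) * c := by rw [← hc]; group
      _ = 1 := by rw [y7_sq]; group
  obtain ⟨g, hg⟩ := conj_into_S2 h4
  obtain ⟨n, hn, e⟩ := mem_S2 hg
  have hsq : sEl n * sEl n = g * (a * a) * g⁻¹ := by rw [e]; group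
  refine not_pure_of_isY (isY_conj g⁻¹ h) ?_
  rw [inv_inv, ← hsq]
  refine (sq_cases hn).2 ?_ ?_
  · rw [hsq]
    calc g * (a * a) * g⁻¹ * (g * (a * a) * g⁻¹) = g * a ^ 2 ^ 2 * g⁻¹ := by
          simp only [pow_succ, pow_zero, one_mul, mul_assoc, Nat.reducePow, Nat.reduceMul, inv_mul_cancel_left]
      _ = 1 := by rw [h4]; group
  · rw [hsq]
    intro h1
    exact hne (conj_eq_one_iff.1 h1)

/-- the product with a generator on the left differs somewhere -/
noncomputable def cenAt (n : ℕ) : Bool :=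
  Bool.or (Nat.beq n 0) (Bool.or (Nat.beq (sK n) zKey)
    ((List.range 6).any fun j => !Nat.beq (sMul (sSt 0 j) n) (sSt n j)))

theorem cen_ok : allUp cenAt 10 0 = true := by decide +kernel

theorem center_S2 {n : ℕ} (hn : n < 1024) (h : ∀ y ∈ S2, y * sEl n = sEl n * y) :
    sEl n = zP ∨ sEl n = 1 := by
  obtain ⟨-, -, hz, hzw, -, -⟩ := clsKeys_facts
  have hc := allUp_spec cen_ok n (Nat.zero_le _) (by omega)
  simp only [cenAt, Bool.or_eq_true, List.any_eq_true, List.mem_range, Bool.not_eq_true'] at hc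
  rcases hc with hc | hc | ⟨j, hj, hne⟩
  · obtain rfl := Nat.eq_of_beq_eq_true hc
    exact Or.inr (keyP_inj ((sEl_spec hn).2.trans keyP_one.symm))
  · refine Or.inl (keyP_inj ?_)
    rw [(sEl_spec hn).2, Nat.eq_of_beq_eq_true hc, Nat.eq_of_beq_eq_true hz, zP, keyP_pw hzw]
  · exfalso
    obtain ⟨hg, hgk⟩ := step_facts (a := (1 : P)) (n := 0) (by norm_num) hj keyP_one
    rw [one_mul] at hgk
    obtain ⟨hm, hmk⟩ := step_facts hn hj (sEl_spec hn).2
    have e : pw (sG j) = sEl (sSt 0 j) := keyP_inj (hgk.trans (sEl_spec hg).2.symm)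
    obtain ⟨hp, hpe⟩ := sEl_mul hg hn
    have h2 := h _ (Subgroup.subset_closure ⟨j, hj, rfl⟩)
    rw [e, hpe] at h2
    rw [show sMul (sSt 0 j) n = sSt n j from sK_inj hp hm (by
      rw [← (sEl_spec hp).2, h2, ← e, hmk]), Nat.beq_refl] at hne
    exact Bool.noConfusion hne

end CfsgLib.CoThreeUniq
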