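import Cfsg.Agent.Lib.CoThreeUniq.TwCommon
import Cfsg.Agent.Lib.CoThreeUniq.CaseT40
import Cfsg.Agent.Lib.CoThreeUniq.CaseT47
import Cfsg.Agent.Lib.CoThreeUniq.CaseT48
import Cfsg.Agent.Lib.CoThreeUniq.CaseT50
import Cfsg.Agent.Lib.CoThreeUniq.CaseT515
import Cfsg.Agent.Lib.CoThreeUniq.CaseT57
import Cfsg.Agent.Lib.CoThreeUniq.CaseT58

/-!
Seven cases are impossible.
-/

set_option autoImplicit false
set_option linter.style.longLine false
set_option Elab.async false
set_option maxRecDepth 20000

namespace CfsgLib.CoThreeUniq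
open CfsgLib.CosetEnum CfsgLib.TwistCoset
theorem t40_facts : factsOK t40 52 = true := by decide +kernel

theorem t40_shape : shapeOK t40 4 0 t40E t40S = true := by decide +kernel

theorem t40_bad : badOK t40 52 = true := by decide +kernel

theorem t40_false {W : Type*} [Group W] {ψ : P →* W} {δ : W} (h : CaseHyp ψ δ 4 0) (hinj : Function.Injective ψ)
    (hx : δ⁻¹ * ψ zP * δ = ψ (cls 0)) : False :=
  false_of_bad (trig t40 rfl rfl h (by simp) t40_shape) hinj hx (by norm_num) (by norm_num) t40_facts t40_bad

theorem t47_facts : factsOK t47 52 = true := by decide +kernel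

theorem t47_shape : shapeOK t47 4 7 t47E t47S = true := by decide +kernel

theorem t47_bad : badOK t47 52 = true := by decide +kernel

theorem t47_false {W : Type*} [Group W] {ψ : P →* W} {δ : W} (h : CaseHyp ψ δ 4 7) (hinj : Function.Injective ψ)
    (hx : δ⁻¹ * ψ zP * δ = ψ (cls 0)) : False :=
  false_of_bad (trig t47 rfl rfl h (by simp) t47_shape) hinj hx (by norm_num) (by norm_num) t47_facts t47_bad

theorem t48_facts : factsOK t48 61 = true := by decide +kernel

theorem t48_shape : shapeOK t48 4 8 t48E t48S = true := by decide +kernel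

theorem t48_bad : badOK t48 61 = true := by decide +kernel

theorem t48_false {W : Type*} [Group W] {ψ : P →* W} {δ : W} (h : CaseHyp ψ δ 4 8) (hinj : Function.Injective ψ)
    (hx : δ⁻¹ * ψ zP * δ = ψ (cls 0)) : False :=
  false_of_bad (trig t48 rfl rfl h (by simp) t48_shape) hinj hx (by norm_num) (by norm_num) t48_facts t48_bad

theorem t50_facts : factsOK t50 49 = true := by decide +kernel

theorem t50_shape : shapeOK t50 5 0 t50E t50S = true := by decide +kernel

theorem t50_bad : badOK t50 49 = true := by decide +kernel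

theorem t50_false {W : Type*} [Group W] {ψ : P →* W} {δ : W} (h : CaseHyp ψ δ 5 0) (hinj : Function.Injective ψ)
    (hx : δ⁻¹ * ψ zP * δ = ψ (cls 0)) : False :=
  false_of_bad (trig t50 rfl rfl h (by simp) t50_shape) hinj hx (by norm_num) (by norm_num) t50_facts t50_bad

theorem t515_facts : factsOK t515 49 = true := by decide +kernel

theorem t515_shape : shapeOK t515 5 15 t515E t515S = true := by decide +kernel

theorem t515_bad : badOK t515 49 = true := by decide +kernel

theorem t515_false {W : Type*} [Group W] {ψ : P →* W} {δ : W} (h : CaseHyp ψ δ 5 15) (hinj : Function.Injective ψ)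
    (hx : δ⁻¹ * ψ zP * δ = ψ (cls 0)) : False :=
  false_of_bad (trig t515 rfl rfl h (by simp) t515_shape) hinj hx (by norm_num) (by norm_num) t515_facts t515_bad

theorem t57_facts : factsOK t57 49 = true := by decide +kernel

theorem t57_shape : shapeOK t57 5 7 t57E t57S = true := by decide +kernel

theorem t57_bad : badOK t57 49 = true := by decide +kernel

theorem t57_false {W : Type*} [Group W] {ψ : P →* W} {δ : W} (h : CaseHyp ψ δ 5 7) (hinj : Function.Injective ψ)
    (hx : δ⁻¹ * ψ zP * δ = ψ (cls 0)) : False :=
  false_of_bad (trig t57 rfl rfl h (by simp) t57_shape) hinj hx (by norm_num) (by norm_num) t57_facts t57_bad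

theorem t58_facts : factsOK t58 49 = true := by decide +kernel

theorem t58_shape : shapeOK t58 5 8 t58E t58S = true := by decide +kernel

theorem t58_bad : badOK t58 49 = true := by decide +kernel

theorem t58_false {W : Type*} [Group W] {ψ : P →* W} {δ : W} (h : CaseHyp ψ δ 5 8) (hinj : Function.Injective ψ)
    (hx : δ⁻¹ * ψ zP * δ = ψ (cls 0)) : False :=
  false_of_bad (trig t58 rfl rfl h (by simp) t58_shape) hinj hx (by norm_num) (by norm_num) t58_facts t58_bad

end CfsgLib.CoThreeUniq
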