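import Cfsg.Agent.Lib.CoThreeUniq.Perms
import Cfsg.Agent.Lib.CoThreeUniq.ChainChecks
import Cfsg.Agent.Lib.CoThreeUniq.CheckEnumA
import Cfsg.Agent.Lib.CoThreeUniq.CheckEnumB
import Cfsg.Agent.Lib.CoThreeUniq.CheckEnumC

/-!
The order of the group, keys of elements, and the class of the involution of point zero.
-/

set_option autoImplicit false
set_option Elab.async false
set_option maxRecDepth 20000

namespace CfsgLib.CoThreeUniq

open CfsgLib.CosetEnum CfsgLib.TwistCoset

/-- a relation holds at a point -/
noncomputable def relAt (r : List ℕ) (x : ℕ) : Bool := pick (ltB x 934) (Nat.beq (tC.run x r) x) true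

/-- relations hold at every point -/
noncomputable def relsOK (R : List (List ℕ)) : Bool := R.all fun r => ok r && allUp (relAt r) 10 0

theorem relsA_ok : relsOK certA.rels = true := by decide +kernel

theorem relsB_ok : relsOK certB.rels = true := by decide +kernel

theorem relsC_ok : relsOK certC.rels = true := by decide +kernel

theorem rel_of_ok {R : List (List ℕ)} (h : relsOK R = true) : ∀ r ∈ R, pw r = 1 := by
  intro r hr
  have h' := List.all_eq_true.mp h r hr
  simp only [Bool.and_eq_true] at h'
  obtain ⟨hl, hall⟩ := h'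
  refine Subtype.ext (MulOpposite.unop_injective (Equiv.ext fun x => Fin.ext ?_))
  have hx := allUp_spec hall x.1 (Nat.zero_le _) (by have := x.2; omega)
  rw [relAt, show ltB x.1 934 = true from ltB_iff.mpr x.2, pick_true] at hx
  have := img_pw hl x.2
  rw [img, dif_pos x.2] at this
  exact this.trans (Nat.eq_of_beq_eq_true hx)

/-- the first `k` letters -/
noncomputable def gK (k g : ℕ) : P := if g < k then g0 g else 1

theorem prodW_gK {k : ℕ} {w : List ℕ} (h : ∀ g ∈ w, g < k) : prodW (gK k) w = pw w :=
  prodW_congr fun g hg => if_pos (h g hg)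

/-- the letters of a certificate close under inversion -/
noncomputable def invsOK (k : ℕ) (iv : List ℕ) : Bool :=
  (List.range k).all (fun g => Nat.blt (iv.getD g g) k && Nat.beq (iv.getD g g) (tC.invs.getD g g)) &&
    Nat.beq iv.length k

theorem card_sub_le {C : Cert} {k : ℕ} (c : C.Complete) (hK : C.K = k) (hk : k ≤ 11)
    (hi : invsOK k C.invs = true) (hr : relsOK C.rels = true)
    (hrl : (C.rels.all fun r => r.all fun g => Nat.blt g k) = true) {H : Subgroup P}
    (hs : (C.subs.all fun w => w.all fun g => Nat.blt g k) = true)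
    (hH : ∀ w ∈ C.subs, pw w ∈ H) {n : ℕ} (hn : Nat.card H ≤ n) :
    Nat.card (Subgroup.closure {y | ∃ g < k, g0 g = y}) ≤ C.N * n := by
  simp only [List.all_eq_true, Nat.blt_eq] at hrl hs
  simp only [invsOK, Bool.and_eq_true, List.all_eq_true, List.mem_range, Nat.blt_eq] at hi
  obtain ⟨hi, hlen⟩ := hi
  have hlen' := Nat.eq_of_beq_eq_true hlen
  have m : Model C H (gK k) :=
    { gen_K := by rw [hK]; simp [gK]
      inv_mul := fun g => by
        rcases Nat.lt_or_ge g k with hg | hg
        · obtain ⟨h1, h2⟩ := hi g hg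
          rw [gK, gK, if_pos hg, if_pos (show C.inv g < k from h1),
            show C.inv g = tC.inv g from Nat.eq_of_beq_eq_true h2]
          exact g0_inv g
        · rw [show C.inv g = g from by rw [Cert.inv, List.getD_eq_default _ _ (by omega)]]
          simp [gK, Nat.not_lt.mpr hg]
      rel := fun r hr' => by
        rw [prodW_gK (hrl r hr')]
        exact rel_of_ok hr r hr'
      sub := fun w hw => by
        rw [prodW_gK (hs w hw)]
        exact hH w hw }
  have h := (finite_card_le c m n hn).2
  rw [hK] at h
  have e : {y | ∃ g < k, gK k g = y} = {y | ∃ g < k, g0 g = y} := by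
    ext y
    constructor <;> rintro ⟨g, hg, rfl⟩ <;> exact ⟨g, hg, by simp [gK, hg]⟩
  rwa [e] at h

theorem subs_mem {C : Cert} {j : ℕ} (hs : C.subs = (List.range j).map fun g => [g]) :
    ∀ w ∈ C.subs, pw w ∈ Subgroup.closure {y | ∃ g < j, g0 g = y} := by
  intro w hw
  rw [hs, List.mem_map] at hw
  obtain ⟨g, hg, rfl⟩ := hw
  exact Subgroup.subset_closure ⟨g, List.mem_range.mp hg, by simp [pw]⟩

theorem card_le : Nat.card P ≤ 2903040 := by
  have hA := card_sub_le certA_complete (k := 6) rfl (by norm_num) (by decide +kernel) relsA_ok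
    (by decide +kernel) (H := ⊥) (by decide +kernel) (fun w hw => by
      rw [show certA.subs = [] from rfl] at hw; simp at hw) (n := 1) (by simp)
  have hB := card_sub_le certB_complete (k := 9) rfl (by norm_num) (by decide +kernel) relsB_ok
    (by decide +kernel) (by decide +kernel) (subs_mem (C := certB) (j := 6) rfl) hA
  have hC := card_sub_le certC_complete (k := 11) rfl le_rfl (by decide +kernel) relsC_ok
    (by decide +kernel) (by decide +kernel) (subs_mem (C := certC) (j := 9) rfl) hB
  rw [gen0_top, Subgroup.card_top] at hC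
  exact hC.trans (by rw [show certA.N = 1536 from rfl, show certB.N = 14 from rfl, show certC.N = 135 from rfl])

theorem card_P : Nat.card P = 2903040 :=
  le_antisymm card_le (by
    have h := act.card_ge (K := (⊤ : Subgroup P)) top_cOK fun _ _ _ _ => trivial
    rwa [top_size, Subgroup.card_top] at h)

theorem top_bases : topChain.map CLev.base = bB := rfl

theorem eq_sound {l m : List ℕ} (h : Act.eqW tC bB l m = true) : pw l = pw m :=
  act.eqW_sound top_cOK (by rw [top_size]; exact card_P.le) (top_bases.symm ▸ h)

/-- the key of a word -/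
noncomputable def key (w : List ℕ) : ℕ := bB.foldr (fun b k => tC.run b w + 1024 * k) 0

/-- two words give the same element -/
noncomputable def same (u w : List ℕ) : Bool := ok u && ok w && Nat.beq (key u) (key w)

theorem bB_lt : ∀ b ∈ bB, b < 934 := by decide +kernel

theorem eq_of_key {u w : List ℕ} (hu : ok u = true) (hw : ok w = true) (h : key u = key w) : pw u = pw w := by
  refine eq_sound ?_
  simp only [Act.eqW, Bool.and_eq_true, List.all_eq_true]
  refine ⟨⟨lettersOK_iff.2 (ok_iff.1 hu), lettersOK_iff.2 (ok_iff.1 hw)⟩, ?_⟩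
  suffices ∀ B : List ℕ, (∀ b ∈ B, b < 934) → (B.foldr (fun b k => tC.run b u + 1024 * k) 0 =
      B.foldr (fun b k => tC.run b w + 1024 * k) 0) → ∀ b ∈ B, Nat.beq (tC.run b u) (tC.run b w) = true from
    this bB bB_lt h
  intro B hB he
  induction B with
  | nil => simp
  | cons b B ih =>
    rw [List.forall_mem_cons] at hB
    simp only [List.foldr_cons] at he
    have h1 := run_lt hu hB.1
    have h2 := run_lt hw hB.1
    obtain ⟨e1, e2⟩ : tC.run b u = tC.run b w ∧ B.foldr (fun b k => tC.run b u + 1024 * k) 0 =
        B.foldr (fun b k => tC.run b w + 1024 * k) 0 := by omega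
    rw [List.forall_mem_cons]
    exact ⟨by rw [e1]; exact Nat.beq_refl _, ih hB.2 e2⟩

theorem key_of_eq {u w : List ℕ} (hu : ok u = true) (hw : ok w = true) (h : pw u = pw w) : key u = key w := by
  unfold key
  suffices ∀ B : List ℕ, (∀ b ∈ B, b < 934) → B.foldr (fun b k => tC.run b u + 1024 * k) 0 =
      B.foldr (fun b k => tC.run b w + 1024 * k) 0 from this bB bB_lt
  intro B hB
  induction B with
  | nil => rfl
  | cons b B ih =>
    rw [List.forall_mem_cons] at hB
    rw [List.foldr_cons, List.foldr_cons, ih hB.2, ← img_pw hu hB.1, ← img_pw hw hB.1, h]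

theorem same_iff {u w : List ℕ} (hu : ok u = true) (hw : ok w = true) : same u w = true ↔ pw u = pw w := by
  constructor
  · intro h
    simp only [same, Bool.and_eq_true] at h
    exact eq_of_key hu hw (Nat.eq_of_beq_eq_true h.2)
  · intro h
    simp [same, hu, hw, key_of_eq hu hw h]

theorem same_sound {u w : List ℕ} (h : same u w = true) : pw u = pw w := by
  simp only [same, Bool.and_eq_true] at h
  exact eq_of_key h.1.1 h.1.2 (Nat.eq_of_beq_eq_true h.2)

/-- a word stored with its length -/
noncomputable def decW (v : ℕ) : List ℕ := wOf (Nat.mod v 64) (Nat.shiftRight v 6)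

/-- the path to a conjugate -/
noncomputable def trw (p : ℕ) : List ℕ := decW (trT.at' trWid p)

/-- a conjugate of the involution of point zero -/
noncomputable def cw (p : ℕ) : List ℕ := iw (trw p) ++ (xw ++ trw p)

/-- the central involution -/
noncomputable def zP : P := pw zw

/-- the involution of a point -/
noncomputable def cls (p : ℕ) : P := pw (cw p)

/-- the data of a point -/
noncomputable def clsAt (p : ℕ) : Bool :=
  ok (cw p) && Nat.beq (clsKeys.getD p 0) (key (cw p)) &&
    (List.range 11).all fun g => same (iw [g] ++ (cw p ++ [g])) (cw (tC.T p g))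

theorem cls_ok0 : (((List.range 630).take 315).take 158).all clsAt = true := by decide +kernel

theorem cls_ok1 : (((List.range 630).take 315).drop 158).all clsAt = true := by decide +kernel

theorem cls_ok2 : (((List.range 630).drop 315).take 158).all clsAt = true := by decide +kernel

theorem cls_ok3 : (((List.range 630).drop 315).drop 158).all clsAt = true := by decide +kernel

theorem cls_ok : (List.range 630).all clsAt = true := by
  rw [← List.take_append_drop 315 (List.range 630), List.all_append,
    ← List.take_append_drop 158 ((List.range 630).take 315), List.all_append,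
    ← List.take_append_drop 158 ((List.range 630).drop 315), List.all_append,
    cls_ok0, cls_ok1, cls_ok2, cls_ok3]
  rfl

theorem clsKeys_facts : clsKeys.length = 630 ∧ newFrom (clsKeys.map fun k => k % 1000003) 0 = true ∧
    Nat.beq zKey (key zw) = true ∧ ok zw = true ∧ ok xw = true ∧ (cw 0 == xw) = true := by
  refine ⟨?_, ?_, ?_, ?_, ?_, ?_⟩ <;> decide +kernel

theorem cls_facts {p : ℕ} (hp : p < 630) : ok (cw p) = true ∧ clsKeys.getD p 0 = key (cw p) ∧
    ∀ g < 11, (g0 g)⁻¹ * cls p * g0 g = cls (tC.T p g) := by
  have h := List.all_eq_true.mp cls_ok p (List.mem_range.mpr hp)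
  simp only [clsAt, Bool.and_eq_true, List.all_eq_true, List.mem_range] at h
  obtain ⟨⟨h1, h2⟩, h3⟩ := h
  refine ⟨h1, Nat.eq_of_beq_eq_true h2, fun g hg => ?_⟩
  have e := same_sound (h3 g hg)
  rw [pw_append, pw_append, pw_iw] at e
  simpa [pw, cls, mul_assoc] using e

theorem img_block (a : P) {p : ℕ} (hp : p < 630) : img a p < 630 := by
  obtain ⟨w, hw, rfl⟩ := exists_word a
  rw [img_pw hw (by omega)]
  exact run_block (ok_iff.1 hw) hp

theorem cls_conj (a : P) {p : ℕ} (hp : p < 630) : a⁻¹ * cls p * a = cls (img a p) := by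
  obtain ⟨w, hw, rfl⟩ := exists_word a
  rw [img_pw hw (by omega)]
  induction w generalizing p with
  | nil => simp [pw_nil, Cert.run_nil]
  | cons g w ih =>
    rw [ok_iff, List.forall_mem_cons] at hw
    rw [Cert.run_cons, ← ih ((T_facts (by omega) hw.1).2.2 hp) (ok_iff.2 hw.2), ← (cls_facts hp).2.2 g hw.1]
    simp [pw, mul_assoc]

theorem cls_zero : cls 0 = pw xw := by rw [cls, eq_of_beq clsKeys_facts.2.2.2.2.2]

theorem cls_inj {p q : ℕ} (hp : p < 630) (hq : q < 630) (h : cls p = cls q) : p = q := by
  have hk := key_of_eq (cls_facts hp).1 (cls_facts hq).1 h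
  rw [← (cls_facts hp).2.1, ← (cls_facts hq).2.1] at hk
  have hnd : (clsKeys.map fun k => k % 1000003).Nodup := (newFrom_spec clsKeys_facts.2.1).1
  have hp' : p < clsKeys.length := clsKeys_facts.1 ▸ hp
  have hq' : q < clsKeys.length := clsKeys_facts.1 ▸ hq
  rw [List.getD_eq_getElem _ _ hp', List.getD_eq_getElem _ _ hq'] at hk
  exact (List.Nodup.of_map _ hnd).getElem_inj_iff.mp hk

theorem commute_cls_iff (a : P) {p : ℕ} (hp : p < 630) : a * cls p = cls p * a ↔ img a p = p := by
  constructor
  · intro h
    refine cls_inj (img_block a hp) hp ?_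
    rw [← cls_conj a hp, mul_assoc, ← h, inv_mul_cancel_left]
  · intro h
    have e := cls_conj a hp
    rw [h] at e
    conv_lhs => rw [← e]
    group

/-- an element is the central involution or a conjugate of the involution of point zero -/
def Pure (a : P) : Prop := a = zP ∨ ∃ p < 630, a = cls p

/-- membership in a list of numbers -/
noncomputable def memK (k : ℕ) (l : List ℕ) : Bool := List.rec false (fun x _ ih => Nat.beq x k || ih) l

theorem memK_iff {k : ℕ} {l : List ℕ} : memK k l = true ↔ k ∈ l := by
  induction l with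
  | nil => simp [memK]
  | cons x l ih =>
    change (Nat.beq x k || memK k l) = true ↔ _
    rw [Bool.or_eq_true, ih, List.mem_cons, Nat.beq_eq, eq_comm]

/-- the test for `Pure` -/
noncomputable def pureB (w : List ℕ) : Bool := Nat.beq (key w) zKey || memK (key w) clsKeys

theorem pureB_iff {w : List ℕ} (hw : ok w = true) : pureB w = true ↔ Pure (pw w) := by
  obtain ⟨hlen, -, hz, hzw, -, -⟩ := clsKeys_facts
  rw [pureB, Bool.or_eq_true, Nat.beq_eq, memK_iff, Nat.eq_of_beq_eq_true hz]
  constructor
  · rintro (h | h)
    · exact Or.inl (eq_of_key hw hzw h)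
    · obtain ⟨p, hp, e⟩ := List.getElem_of_mem h
      have hp' : p < 630 := hlen ▸ hp
      rw [← List.getD_eq_getElem _ 0 hp, (cls_facts hp').2.1] at e
      exact Or.inr ⟨p, hp', eq_of_key hw (cls_facts hp').1 e.symm⟩
  · rintro (h | ⟨p, hp, h⟩)
    · exact Or.inl (key_of_eq hw hzw h)
    · refine Or.inr ?_
      rw [key_of_eq hw (cls_facts hp).1 h, ← (cls_facts hp).2.1]
      exact List.getD_eq_getElem clsKeys 0 (hlen ▸ hp) ▸ List.getElem_mem _

end CfsgLib.CoThreeUniq
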