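import Cfsg.Agent.Lib.CoThreeUniq.DataTab
import Cfsg.Agent.Lib.CosetEnum.Use

/-!
The permutation group of the table and equality of words through a few points.
-/

set_option autoImplicit false
set_option Elab.async false

namespace CfsgLib.CoThreeUniq

open CfsgLib.CosetEnum CfsgLib.TwistCoset

theorem tC_facts : tC.K = 11 ∧ tC.N = 934 ∧ tC.rels = [] ∧ tC.subs = [] ∧
    (List.range 11).all (fun g => decide (tC.inv g < 11) && Nat.beq (tC.inv (tC.inv g)) g) = true := by
  refine ⟨rfl, rfl, rfl, rfl, ?_⟩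
  decide +kernel

/-- one row of the table is a row of permutations, keeping the first block -/
noncomputable def rowOK (x : ℕ) : Bool :=
  pick (ltB x 934) (Cert.allBelow 11 fun g => band (ltB (tC.T x g) (pick (ltB x 630) 630 934))
    (Nat.beq (tC.T (tC.T x g) (tC.inv g)) x)) true

theorem rows_ok : allUp rowOK 10 0 = true := by decide +kernel

theorem T_facts {x g : ℕ} (hx : x < 934) (hg : g < 11) :
    tC.T x g < 934 ∧ tC.T (tC.T x g) (tC.inv g) = x ∧ (x < 630 → tC.T x g < 630) := by
  have h := allUp_spec rows_ok x (Nat.zero_le _) (by omega)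
  unfold rowOK at h
  rw [show ltB x 934 = true from ltB_iff.mpr hx, pick_true] at h
  have h' := Cert.allBelow_spec h g hg
  simp only [band_eq_true, ltB_iff] at h'
  refine ⟨?_, Nat.eq_of_beq_eq_true h'.2, fun h6 => ?_⟩
  · cases hb : ltB x 630 <;> simp [hb] at h' <;> omega
  · rw [show ltB x 630 = true from ltB_iff.mpr h6, pick_true] at h'
    exact h'.1

theorem inv_lt {g : ℕ} (hg : g < 11) : tC.inv g < 11 ∧ tC.inv (tC.inv g) = g := by
  have h := List.all_eq_true.mp tC_facts.2.2.2.2 g (List.mem_range.mpr hg)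
  simp only [Bool.and_eq_true, decide_eq_true_eq] at h
  exact ⟨h.1, Nat.eq_of_beq_eq_true h.2⟩

theorem inv_big {g : ℕ} (hg : 11 ≤ g) : tC.inv g = g := by
  rw [Cert.inv, List.getD_eq_default]
  exact (show tC.invs.length = 11 from rfl) ▸ hg

/-- the permutation of a letter -/
noncomputable def perm (g : ℕ) : Equiv.Perm (Fin 934) :=
  if hg : g < 11 then
    { toFun := fun x => ⟨tC.T x g, (T_facts x.2 hg).1⟩
      invFun := fun x => ⟨tC.T x (tC.inv g), (T_facts x.2 (inv_lt hg).1).1⟩
      left_inv := fun x => Fin.ext (T_facts x.2 hg).2.1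
      right_inv := fun x => Fin.ext (by
        have h := (T_facts x.2 (inv_lt hg).1).2.1
        rwa [(inv_lt hg).2] at h) }
  else 1

/-- the group of the letters, composed from the left to the right -/
noncomputable def P : Subgroup (Equiv.Perm (Fin 934))ᵐᵒᵖ :=
  Subgroup.closure {y | ∃ g < 11, MulOpposite.op (perm g) = y}

instance finite_op {m : ℕ} : Finite (Equiv.Perm (Fin m))ᵐᵒᵖ := Finite.of_equiv _ MulOpposite.opEquiv

/-- the letters in the group -/
noncomputable def g0 (g : ℕ) : P :=
  if hg : g < 11 then ⟨MulOpposite.op (perm g), Subgroup.subset_closure ⟨g, hg, rfl⟩⟩ else 1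

theorem g0_val (g : ℕ) : (g0 g).1 = MulOpposite.op (perm g) := by
  unfold g0 perm
  split <;> simp

theorem g0_inv (g : ℕ) : g0 g * g0 (tC.inv g) = 1 := by
  refine Subtype.ext (MulOpposite.unop_injective (Equiv.ext fun x => ?_))
  rw [Subgroup.coe_mul, g0_val, g0_val, MulOpposite.unop_mul, MulOpposite.unop_op, MulOpposite.unop_op,
    Subgroup.coe_one, MulOpposite.unop_one, Equiv.Perm.mul_apply, Equiv.Perm.one_apply]
  by_cases hg : g < 11
  · simp only [perm, hg, dite_true, (inv_lt hg).1]
    exact Fin.ext (T_facts x.2 hg).2.1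
  · simp [perm, hg, inv_big (Nat.le_of_not_lt hg)]

theorem gen0_top : Subgroup.closure {y | ∃ g < 11, g0 g = y} = ⊤ := by
  refine Subgroup.map_injective P.subtype_injective ?_
  rw [MonoidHom.map_closure, ← MonoidHom.range_eq_map, Subgroup.range_subtype]
  conv_rhs => rw [P]
  congr 1
  ext y
  simp only [Set.mem_image, Set.mem_setOf_eq, Subgroup.coe_subtype]
  constructor
  · rintro ⟨_, ⟨g, hg, rfl⟩, rfl⟩
    exact ⟨g, hg, (g0_val g).symm⟩
  · rintro ⟨g, hg, rfl⟩
    exact ⟨_, ⟨g, hg, rfl⟩, g0_val g⟩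

/-- the action -/
noncomputable def act : Act tC g0 where
  ψ := P.subtype
  apply := by
    show ∀ w : List ℕ, (∀ g ∈ w, g < 11) → ∀ x : Fin 934, ((prodW g0 w).1.unop x : ℕ) = tC.run x w
    intro w
    induction w with
    | nil => exact fun _ x => rfl
    | cons g w ih =>
      intro hw x
      rw [List.forall_mem_cons] at hw
      rw [prodW_cons, Cert.run_cons, Subgroup.coe_mul, MulOpposite.unop_mul, Equiv.Perm.mul_apply, ih hw.2,
        g0_val, MulOpposite.unop_op]
      congr 1
      simp [perm, hw.1]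
  inv_mul := g0_inv
  inv_lt := fun g hg => (inv_lt hg).1

/-- the element of a word -/
noncomputable def pw (w : List ℕ) : P := prodW g0 w

theorem pw_append (u w : List ℕ) : pw (u ++ w) = pw u * pw w := prodW_append g0 u w

theorem pw_nil : pw [] = 1 := prodW_nil g0

/-- only letters -/
def ok (w : List ℕ) : Bool := w.all fun g => Nat.blt g 11

theorem ok_iff {w : List ℕ} : ok w = true ↔ ∀ g ∈ w, g < 11 := by simp [ok]

theorem ok_append {u w : List ℕ} : ok (u ++ w) = true ↔ ok u = true ∧ ok w = true := by simp [ok]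

/-- the formal inverse -/
noncomputable def iw (w : List ℕ) : List ℕ := tC.revInv w

theorem ok_iw {w : List ℕ} (h : ok w = true) : ok (iw w) = true :=
  ok_iff.2 (Act.revInv_lt (ok_iff.1 h) act)

theorem pw_iw (w : List ℕ) : pw (iw w) = (pw w)⁻¹ := act.revInv_eq w

theorem exists_word (a : P) : ∃ w, ok w = true ∧ pw w = a := by
  have ha : a ∈ Subgroup.closure {y | ∃ g < 11, g0 g = y} := by rw [gen0_top]; trivial
  induction ha using Subgroup.closure_induction with
  | mem y hy => obtain ⟨g, hg, rfl⟩ := hy; exact ⟨[g], by simp [ok, hg], by simp [pw]⟩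
  | one => exact ⟨[], rfl, pw_nil⟩
  | mul a b _ _ ha hb =>
    obtain ⟨u, hu, rfl⟩ := ha
    obtain ⟨w, hw, rfl⟩ := hb
    exact ⟨u ++ w, ok_append.2 ⟨hu, hw⟩, pw_append u w⟩
  | inv a _ ha =>
    obtain ⟨u, hu, rfl⟩ := ha
    exact ⟨iw u, ok_iw hu, pw_iw u⟩

/-- the image of a point -/
noncomputable def img (a : P) (x : ℕ) : ℕ := if h : x < 934 then (a.1.unop ⟨x, h⟩).val else x

theorem img_pw {w : List ℕ} (hw : ok w = true) {x : ℕ} (hx : x < 934) : img (pw w) x = tC.run x w := by
  rw [img, dif_pos hx]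
  exact act.apply w (ok_iff.1 hw) ⟨x, hx⟩

theorem img_mul (a b : P) {x : ℕ} (hx : x < 934) : img (a * b) x = img b (img a x) := by
  unfold img
  rw [dif_pos hx, dif_pos hx, dif_pos (Fin.isLt _)]
  rfl

theorem img_one (x : ℕ) : img 1 x = x := by
  unfold img
  split <;> simp

theorem img_lt (a : P) {x : ℕ} (hx : x < 934) : img a x < 934 := by rw [img, dif_pos hx]; exact Fin.isLt _

theorem run_lt {w : List ℕ} (hw : ok w = true) {x : ℕ} (hx : x < 934) : tC.run x w < 934 :=
  img_pw hw hx ▸ img_lt _ hx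

theorem run_block {w : List ℕ} (hw : ∀ g ∈ w, g < 11) : ∀ {x : ℕ}, x < 630 → tC.run x w < 630 := by
  induction w with
  | nil => exact fun hx => hx
  | cons g w ih =>
    intro x hx
    rw [List.forall_mem_cons] at hw
    rw [Cert.run_cons]
    exact ih hw.2 ((T_facts (by omega) hw.1).2.2 hx)

end CfsgLib.CoThreeUniq
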