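import Cfsg.Agent.Lib.CoThreeUniq.Fusion
import Cfsg.Agent.Lib.CoThreeUniq.SwapChecks

/-!
An element exchanging the central involution and that of point zero, normalised: eight cases.
-/

set_option autoImplicit false
set_option Elab.async false
set_option maxRecDepth 20000
set_option maxHeartbeats 400000

namespace CfsgLib.CoThreeUniq

open CfsgLib.CosetEnum CfsgLib.TwistCoset

attribute [local irreducible] pw zP cls gl keyP img

theorem eE_mul {a b : ℕ} (ha : a < 16) (hb : b < 16) : eE a * eE b = eE (a ^^^ b) :=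
  (eW_facts ha).2.2.2 b hb

theorem xor_lt16 {a b : ℕ} (ha : a < 16) (hb : b < 16) : a ^^^ b < 16 :=
  Nat.xor_lt_two_pow (n := 4) ha hb

theorem split4 : ∀ a < 16, a % 4 ^^^ 4 * (a / 4) = a := by decide

theorem pw_subW {f : ℕ → List ℕ} : ∀ l : List ℕ, pw (subW f l) = evG (fun j => pw (f j)) l
  | [] => pw_nil
  | j :: l => by
    rw [subW, List.flatMap_cons, pw_append, evG, show pw (l.flatMap _) = evG (fun j => pw (f j)) l from pw_subW l]
    split
    · rfl
    · rw [pw_iw]

theorem evG_congr {G : Type*} [Group G] {u v : ℕ → G} : ∀ {l : List ℕ},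
    (∀ j ∈ l, if j < 4 then u j = v j else u (j - 4) = v (j - 4)) → evG u l = evG v l
  | [], _ => rfl
  | j :: l, h => by
    rw [List.forall_mem_cons] at h
    rw [evG, evG, evG_congr h.2]
    congr 1
    have h1 := h.1
    by_cases hj : j < 4
    · rw [if_pos hj] at h1
      simp [hj, h1]
    · rw [if_neg hj] at h1
      simp [hj, h1]

theorem pw_imW (j e : ℕ) : pw (imW j e) = evG gl (nthWord im0 j) * eE e := by
  rw [imW, pw_append, pw_gWord]; rfl

theorem pw_cjE {w : List ℕ} {a b : ℕ} (h : cjE w a b = true) : (pw w)⁻¹ * eE a * pw w = eE b := by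
  have e := same_sound h
  rw [pw_append, pw_append, pw_iw] at e
  rw [eE, eE, ← e, mul_assoc]

variable {G : Type*} [Group G] (K : Ctx G)

/-- acts on the elementary group by exchanging the first two coordinates -/
def Ctx.ActR (d : G) : Prop := ∀ a < 16, d⁻¹ * K.φ (eE a) * d = K.φ (eE (rr a))

namespace Ctx

variable {K}

theorem ActR.swap {d : G} (hd : K.ActR d) :
    d⁻¹ * K.t * d = K.φ (cls 0) ∧ d⁻¹ * K.φ (cls 0) * d = K.t := by
  refine ⟨?_, ?_⟩
  · have h := hd 1 (by norm_num)
    rwa [eE_one, show rr 1 = 2 from rfl, eE_two] at h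
  · have h := hd 2 (by norm_num)
    rwa [eE_two, show rr 2 = 1 from rfl, eE_one] at h

/-- conjugation keeps the stabiliser of point zero -/
theorem ActR.map_Xs {d : G} (hd : K.ActR d) {h : P} (hh : h ∈ Xs) :
    ∃ b ∈ Xs, K.φ b = d⁻¹ * K.φ h * d := by
  obtain ⟨h1, h2⟩ := hd.swap
  obtain ⟨b, hb⟩ := K.exists_pre (g := d⁻¹ * K.φ h * d) (by
    rw [← h2]
    calc d⁻¹ * K.φ h * d * (d⁻¹ * K.φ (cls 0) * d) = d⁻¹ * (K.φ h * K.φ (cls 0)) * d := by group
      _ = d⁻¹ * (K.φ (cls 0) * K.φ h) * d := by rw [← map_mul, mem_Xs_iff.1 hh, map_mul]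
      _ = d⁻¹ * K.φ (cls 0) * d * (d⁻¹ * K.φ h * d) := by group)
  refine ⟨b, mem_Xs_iff.2 (K.inj ?_), hb⟩
  rw [map_mul, map_mul, hb, ← h1]
  calc d⁻¹ * K.φ h * d * (d⁻¹ * K.t * d) = d⁻¹ * (K.φ h * K.t) * d := by group
    _ = d⁻¹ * (K.t * K.φ h) * d := by rw [K.comm_t]
    _ = d⁻¹ * K.t * d * (d⁻¹ * K.φ h * d) := by group

/-- what commutes with the elementary group lies in it -/
theorem cent_E {g : G} (h : ∀ a < 16, g * K.φ (eE a) = K.φ (eE a) * g) : ∃ e < 16, g = K.φ (eE e) := by
  obtain ⟨b, rfl⟩ := K.exists_pre (g := g) (by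
    have := h 1 (by norm_num)
    rwa [eE_one] at this)
  have hb : ∀ a < 16, b * eE a = eE a * b := fun a ha => K.inj (by rw [map_mul, map_mul]; exact h a ha)
  obtain ⟨e, he, rfl⟩ := cent_EG (eE_two ▸ hb 2 (by norm_num)) (eE_four ▸ hb 4 (by norm_num))
    (eE_eight ▸ hb 8 (by norm_num))
  exact ⟨e, he, rfl⟩

theorem ActR.exists_sq {d : G} (hd : K.ActR d) : ∃ e < 16, d * d = K.φ (eE e) ∧ rr e = e := by
  obtain ⟨e, he, h⟩ := cent_E (K := K) (g := d * d) fun a ha => by
    have h2 : d⁻¹ * (d⁻¹ * K.φ (eE a) * d) * d = K.φ (eE a) := by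
      rw [hd a ha, hd _ (rr_facts a ha).1, (rr_facts a ha).2.1]
    conv_lhs => rw [← h2]
    group
  refine ⟨e, he, h, eE_inj (rr_facts e he).1 he (K.inj ?_)⟩
  rw [← hd e he, ← h]
  group

/-- the images of the generators in some case -/
theorem ActR.exists_theta {d : G} (hd : K.ActR d) :
    ∃ t < 16, ∀ j < 4, K.φ (pw (gWord (thW t j))) = d⁻¹ * K.φ (gl j) * d := by
  choose v hv hv' using fun j => hd.map_Xs (gl_mem j)
  have hvG : ∀ l, K.φ (evG v l) = d⁻¹ * K.φ (evG gl l) * d := by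
    intro l
    have := evG_map (MulAut.conj d⁻¹).toMonoidHom (fun j => K.φ (gl j)) l
    simp only [MulEquiv.coe_toMonoidHom, MulAut.conj_apply, inv_inv, ← evG_map K.φ] at this
    rw [this, evG_map]
    simp only [hv']
  have hrel : ∀ l, evG gl l = 1 → evG v l = 1 := fun l hl => K.inj (by
    rw [hvG, hl, map_one, mul_one, inv_mul_cancel])
  have hcorr : ∀ j < 3, ∃ e < 16, v j = pw (imW j e) := by
    intro j hj
    have him := List.all_eq_true.mp im_ok j (List.mem_range.mpr hj)
    simp only [imAt, List.all_eq_true, List.any_eq_true, List.mem_range, Bool.and_eq_true] at him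
    obtain ⟨e, he, hE⟩ := cent_E (K := K) (g := K.φ ((evG gl (nthWord im0 j))⁻¹ * v j)) (by
      set im := evG gl (nthWord im0 j) with hmdef
      have hb : ∀ b ∈ [1, 4, 8], K.φ (im⁻¹ * v j) * K.φ (eE (rr b)) = K.φ (eE (rr b)) * K.φ (im⁻¹ * v j) := by
        intro b hb
        obtain ⟨a, ha, c1, c2⟩ := him b hb
        have e1 := pw_cjE c1
        have e2 := pw_cjE c2
        rw [pw_gWord, ← hmdef] at e2
        have hb16 : b < 16 := by
          simp only [List.mem_cons, List.not_mem_nil, or_false] at hb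
          omega
        have e3 : (v j)⁻¹ * eE (rr a) * v j = eE (rr b) := by
          refine K.inj ?_
          rw [map_mul, map_mul, map_inv, hv', ← hd a ha, ← hd b hb16, ← e1, map_mul, map_mul, map_inv,
            show pw (glW j) = gl j from (gl.eq_1 j).symm]
          group
        rw [← map_mul, ← map_mul]
        congr 1
        calc im⁻¹ * v j * eE (rr b) = im⁻¹ * v j * ((v j)⁻¹ * eE (rr a) * v j) := by rw [e3]
          _ = im⁻¹ * eE (rr a) * im * (im⁻¹ * v j) := by group
          _ = eE (rr b) * (im⁻¹ * v j) := by rw [e2]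
      have h1 : K.φ (im⁻¹ * v j) * K.φ (eE 1) = K.φ (eE 1) * K.φ (im⁻¹ * v j) := by
        rw [eE_one]; exact K.comm_t _
      have h2 := hb 1 (by simp)
      have h4 := hb 4 (by simp)
      have h8 := hb 8 (by simp)
      rw [show rr 1 = 2 from rfl] at h2
      rw [show rr 4 = 4 from rfl] at h4
      rw [show rr 8 = 8 from rfl] at h8
      have hx : ∀ a b, a < 16 → b < 16 → K.φ (im⁻¹ * v j) * K.φ (eE a) = K.φ (eE a) * K.φ (im⁻¹ * v j) →
          K.φ (im⁻¹ * v j) * K.φ (eE b) = K.φ (eE b) * K.φ (im⁻¹ * v j) →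
          K.φ (im⁻¹ * v j) * K.φ (eE (a ^^^ b)) = K.φ (eE (a ^^^ b)) * K.φ (im⁻¹ * v j) := by
        intro a b ha hb' e1 e2
        rw [← eE_mul ha hb', map_mul K.φ (eE a), ← mul_assoc, e1, mul_assoc, e2, mul_assoc]
      intro a ha
      have h0 : K.φ (im⁻¹ * v j) * K.φ (eE 0) = K.φ (eE 0) * K.φ (im⁻¹ * v j) := by
        rw [eE_zero, map_one, mul_one, one_mul]
      have h3 := hx 1 2 (by norm_num) (by norm_num) h1 h2
      have h12 := hx 4 8 (by norm_num) (by norm_num) h4 h8
      have low : ∀ l < 4, K.φ (im⁻¹ * v j) * K.φ (eE l) = K.φ (eE l) * K.φ (im⁻¹ * v j) := by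
        intro l hl
        interval_cases l <;> assumption
      have high : ∀ h < 4, K.φ (im⁻¹ * v j) * K.φ (eE (4 * h)) = K.φ (eE (4 * h)) * K.φ (im⁻¹ * v j) := by
        intro h hh
        interval_cases h <;> assumption
      have ea : a % 4 ^^^ 4 * (a / 4) = a := split4 a ha
      rw [← ea]
      exact hx _ _ (by omega) (by omega) (low _ (Nat.mod_lt _ (by norm_num))) (high _ (by omega)))
    refine ⟨e, he, ?_⟩
    rw [pw_imW, ← K.inj hE, mul_inv_cancel_left]
  choose! ε hε hεv using hcorr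
  have htest : ∀ (u : ℕ → List ℕ) (r : List ℕ), (∀ j, ok (u j) = true) → same (gWord r) [] = true →
      (∀ j ∈ r, if j < 4 then v j = pw (u j) else v (j - 4) = pw (u (j - 4))) → same (subW u r) [] = true := by
    intro u r hu hr h
    have hok : ok (subW u r) = true := by
      clear hr h
      induction r with
      | nil => rfl
      | cons j r ih =>
        rw [subW, List.flatMap_cons]
        refine ok_append.2 ⟨?_, ih⟩
        split
        exacts [hu j, ok_iw (hu _)]
    rw [same_iff hok rfl, pw_subW, ← evG_congr h, pw_nil]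
    refine hrel r ?_
    rw [← pw_gWord, same_sound hr, pw_nil]
  have hokim : ∀ j e, e < 16 → ok (imW j e) = true := fun j e he =>
    ok_append.2 ⟨ok_gWord _, (eW_facts he).1⟩
  obtain ⟨hsel, hselR⟩ := sel_ok
  have hsel' : ∀ i < 4, ∀ (f : ℕ → ℕ), (∀ j, f j < 16) → (∀ j ∈ nthWord selR i, if j < 4 then
      v j = pw (imW j (f j)) else v (j - 4) = pw (imW (j - 4) (f (j - 4)))) →
      same (subW (fun j => imW j (f j)) (nthWord selR i)) [] = true := by
    intro i hi f hf h
    have hmem : nthWord selR i ∈ selR := by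
      rw [nthWord_eq, List.getD_eq_getElem _ _ (show i < selR.length from hi)]
      exact List.getElem_mem _
    have := List.all_eq_true.mp hselR _ hmem
    simp only [Bool.and_eq_true] at this
    exact htest _ _ (fun j => hokim j _ (hf j)) this.1 h
  have hlet : ∀ i < 4, ∀ j ∈ nthWord selR i, j < 3 ∨ (4 ≤ j ∧ j < 7) := by
    intro i hi j hj
    have hmem : nthWord selR i ∈ selR := by
      rw [nthWord_eq, List.getD_eq_getElem _ _ (show i < selR.length from hi)]
      exact List.getElem_mem _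
    have := List.all_eq_true.mp hselR _ hmem
    simp only [Bool.and_eq_true, List.all_eq_true, Bool.or_eq_true, Nat.blt_eq] at this
    rcases this.2 j hj with h | h <;> omega
  have hno2 : ∀ i, i = 1 ∨ i = 2 → ∀ j ∈ nthWord selR i, j ≠ 2 ∧ j ≠ 6 := by
    intro i hi j hj
    have hc : ([1, 2].all fun i => (nthWord selR i).all fun j => !Nat.beq j 2 && !Nat.beq j 6) = true := by
      decide +kernel
    have := List.all_eq_true.mp hc i (by simpa using hi)
    have := List.all_eq_true.mp this j hj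
    simp only [Bool.and_eq_true, Bool.not_eq_true'] at this
    exact ⟨fun h => by simp [h] at this, fun h => by simp [h] at this⟩
  have hp3 : ∀ c < 16, ∀ j, pick3 (ε 0) (ε 1) c j < 16 := fun c hc j => by
    have := hε 0 (by norm_num); have := hε 1 (by norm_num)
    rcases j with _ | _ | _ | j <;> simp [pick3, *]
  have hfull : ∀ j < 3, pick3 (ε 0) (ε 1) (ε 2) j = ε j := fun j hj => by
    interval_cases j <;> rfl
  have hq : memK (ε 0 + 16 * ε 1 + 256 * ε 2) thEs = true := by
    have h := List.all_eq_true.mp (List.all_eq_true.mp hsel (ε 0) (List.mem_range.mpr (hε 0 (by norm_num))))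
      (ε 1) (List.mem_range.mpr (hε 1 (by norm_num)))
    have hpre : ∀ i, i = 1 ∨ i = 2 →
        same (subW (fun j => imW j (pick3 (ε 0) (ε 1) 0 j)) (nthWord selR i)) [] = true := by
      intro i hi
      refine hsel' i (by omega) _ (hp3 0 (by norm_num)) fun j hj => ?_
      obtain ⟨n2, n6⟩ := hno2 i hi j hj
      rcases hlet i (by omega) j hj with hj' | hj'
      · rw [if_pos (by omega), hεv j hj']
        have : j < 2 := by omega
        interval_cases j <;> simp_all [pick3]
      · rw [if_neg (by omega), hεv (j - 4) (by omega)]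
        have : j < 6 := by omega
        have : 4 ≤ j := hj'.1
        interval_cases j <;> simp_all [pick3]
    rw [selAt, hpre 1 (Or.inl rfl), hpre 2 (Or.inr rfl), show band true true = true from rfl, pick_true] at h
    have h2 := List.all_eq_true.mp h (ε 2) (List.mem_range.mpr (hε 2 (by norm_num)))
    have hall : ∀ i < 4, same (subW (fun j => imW j (pick3 (ε 0) (ε 1) (ε 2) j)) (nthWord selR i)) [] = true := by
      intro i hi
      refine hsel' i hi _ (hp3 _ (hε 2 (by norm_num))) fun j hj => ?_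
      rcases hlet i hi j hj with hj' | hj'
      · rw [if_pos (by omega), hfull j hj', hεv j hj']
      · rw [if_neg (by omega), hfull (j - 4) (by omega), hεv (j - 4) (by omega)]
    rw [hall 0 (by norm_num), hall 3 (by norm_num), show band true true = true from rfl, pick_true] at h2
    exact h2
  obtain ⟨t, ht, hte⟩ := List.getElem_of_mem (memK_iff.1 hq)
  have ht16 : t < 16 := lt_of_lt_of_le ht (show thEs.length ≤ 16 from le_rfl)
  have hth : ∀ j < 3, thE t j = ε j := by
    intro j hj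
    rw [thE, nth_eq, List.getD_eq_getElem _ _ ht, hte]
    have := hε 0 (by norm_num); have := hε 1 (by norm_num); have := hε 2 (by norm_num)
    interval_cases j <;> norm_num <;> omega
  -- the last generator
  have h3 : ∀ i < 4, (v 3)⁻¹ * eE (rr (2 ^ i)) * v 3 =
      (evG gl (nthWord wks t))⁻¹ * eE (rr (2 ^ i)) * evG gl (nthWord wks t) := by
    intro i hi
    have hy := List.all_eq_true.mp yconj_ok i (List.mem_range.mpr hi)
    simp only [yConjAt, Bool.and_eq_true, List.all_eq_true, List.mem_range, Bool.or_eq_true, Nat.blt_eq] at hy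
    obtain ⟨⟨hy1, hy2⟩, hy3⟩ := hy
    have e1 := same_sound hy1
    have e3 := same_sound (hy3 t ht16)
    rw [pw_append, pw_append, pw_iw, pw_gWord] at e1
    rw [pw_append, pw_append, pw_iw, pw_gWord, pw_subW] at e3
    have e4 : evG (fun j => pw (imW j (thE t j))) (nthWord ycW i) = evG v (nthWord ycW i) := evG_congr fun j hj => by
      rcases hy2 j hj with hj' | hj'
      · rw [if_pos (by omega), hth j hj', hεv j hj']
      · rw [if_neg (by omega), hth (j - 4) (by omega), hεv (j - 4) (by omega)]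
    rw [mul_assoc (evG gl _)⁻¹, eE, e3, e4]
    refine K.inj ?_
    rw [hvG, ← e1, map_mul, map_mul, map_inv, hv', ← eE, ← hd _ (Nat.pow_lt_pow_right (by norm_num) hi : 2 ^ i < 2 ^ 4),
      map_mul, map_mul, map_inv, show pw (glW 3) = gl 3 from (gl.eq_1 3).symm, ← eE]
    group
  set wk := evG gl (nthWord wks t)
  obtain ⟨p, hp, hpE⟩ : ∃ p < 16, v 3 * wk⁻¹ = eE p := by
    have hc : ∀ i < 4, v 3 * wk⁻¹ * eE (rr (2 ^ i)) = eE (rr (2 ^ i)) * (v 3 * wk⁻¹) := by
      intro i hi
      calc v 3 * wk⁻¹ * eE (rr (2 ^ i)) = v 3 * (wk⁻¹ * eE (rr (2 ^ i)) * wk) * wk⁻¹ := by group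
        _ = v 3 * ((v 3)⁻¹ * eE (rr (2 ^ i)) * v 3) * wk⁻¹ := by rw [h3 i hi]
        _ = eE (rr (2 ^ i)) * (v 3 * wk⁻¹) := by group
    obtain ⟨p, hp, e⟩ := cent_EG (eE_two ▸ hc 0 (by norm_num)) (eE_four ▸ hc 2 (by norm_num))
      (eE_eight ▸ hc 3 (by norm_num))
    exact ⟨p, hp, e.symm⟩
  have hv3 : v 3 = eE p * wk := by rw [← hpE, inv_mul_cancel_right]
  have hpv : p = nth thPs t 0 := by
    have h := List.all_eq_true.mp (List.all_eq_true.mp sel2_ok.1 t (List.mem_range.mpr ht16)) p (List.mem_range.mpr hp)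
    simp only [sel2At, Bool.or_eq_true, Bool.not_eq_true'] at h
    rcases h with h | h
    · exact Nat.eq_of_beq_eq_true h
    · exfalso
      rw [← Bool.not_eq_true, List.all_eq_true] at h
      refine h fun r hr => ?_
      have hR := List.all_eq_true.mp sel2_ok.2 r hr
      simp only [Bool.and_eq_true, List.all_eq_true, Nat.blt_eq] at hR
      refine htest _ r (fun j => ?_) hR.1 fun j hj => ?_
      · split
        · exact hokim j _ (Nat.mod_lt _ (by norm_num))
        · exact ok_append.2 ⟨(eW_facts hp).1, ok_gWord _⟩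
      · have hlast : v 3 = pw (eW p ++ gWord (nthWord wks t)) := by rw [hv3, pw_append, pw_gWord]; rfl
        have hj8 := hR.2 j hj
        split
        · rcases (show j < 3 ∨ j = 3 by omega) with hj' | hj'
          · rw [if_pos hj', hth j hj', hεv j hj']
          · subst hj'; simpa using hlast
        · rcases (show j - 4 < 3 ∨ j - 4 = 3 by omega) with hj' | hj'
          · rw [if_pos hj', hth _ hj', hεv _ hj']
          · rw [hj']; simpa using hlast
  refine ⟨t, ht16, fun j hj => ?_⟩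
  have hl := List.all_eq_true.mp (List.all_eq_true.mp last_ok t (List.mem_range.mpr ht16)) j (List.mem_range.mpr hj)
  rw [← hv' j]
  congr 1
  by_cases h3' : j < 3
  · rw [show ltB j 3 = true from ltB_iff.mpr h3', pick_true] at hl
    rw [same_sound hl, hth j h3', hεv j h3']
  · obtain rfl : j = 3 := by omega
    rw [show ltB 3 3 = false from rfl, pick_false] at hl
    rw [same_sound hl, hv3, hpv, pw_append, pw_gWord]
    rfl

theorem theta_word {d : G} {t : ℕ} (h : ∀ j < 4, K.φ (pw (gWord (thW t j))) = d⁻¹ * K.φ (gl j) * d)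
    (l : List ℕ) : K.φ (pw (subW (fun i => gWord (thW t i)) l)) = d⁻¹ * K.φ (evG gl l) * d := by
  induction l with
  | nil => simp [subW, pw_nil, evG]
  | cons i l ih =>
    rw [subW, List.flatMap_cons, pw_append, map_mul,
      show K.φ (pw (l.flatMap _)) = d⁻¹ * K.φ (evG gl l) * d from ih, evG, map_mul]
    by_cases hi : i < 4
    · rw [if_pos hi, if_pos hi, h i hi]; group
    · rw [if_neg hi, if_neg hi, pw_iw, map_inv, map_inv]
      by_cases hi' : i - 4 < 4
      · rw [h _ hi']; group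
      · rw [gl_big (Nat.le_of_not_lt hi'), map_one, pw_gWord, thW,
          show nthWord (thV.getD t []) (i - 4) = [] by
            rw [nthWord_eq]
            by_cases ht : t < thV.length
            · rw [List.getD_eq_getElem thV _ ht, List.getD_eq_default]
              have hlen : thV.all (fun r => Nat.beq r.length 4) = true := by decide +kernel
              rw [Nat.eq_of_beq_eq_true (List.all_eq_true.mp hlen _ (List.getElem_mem ht))]
              omega
            · rw [List.getD_eq_default thV _ (Nat.le_of_not_lt ht)]; rfl, evG, map_one]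
        group

theorem ActR.case_of {d : G} (hd : K.ActR d) {e : ℕ} (he : e < 16) (hre : rr e = e) (hsq : d * d = K.φ (eE e))
    {t : ℕ} (ht : t < 16) (hth : ∀ j < 4, K.φ (pw (gWord (thW t j))) = d⁻¹ * K.φ (gl j) * d) :
    nth adjs t 256 < 256 ∧ (e = 0 ∨ e = 3) := by
  have h := List.all_eq_true.mp (List.all_eq_true.mp sq_ok t (List.mem_range.mpr ht)) e (List.mem_range.mpr he)
  simp only [sqAt, Bool.or_eq_true, Bool.and_eq_true, Bool.not_eq_true', Nat.blt_eq, Nat.beq_eq] at h
  rcases h with (h | ⟨h1, h2⟩) | h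
  · rw [hre, Nat.beq_refl] at h
    exact Bool.noConfusion h
  · exact ⟨h1, h2⟩
  · exfalso
    rw [← Bool.not_eq_true, List.all_eq_true] at h
    refine h fun j hj => ?_
    have hj4 := List.mem_range.mp hj
    have hok : ok (subW (fun i => gWord (thW t i)) (thW t j)) = true := by
      generalize thW t j = l
      induction l with
      | nil => rfl
      | cons i l ih =>
        rw [subW, List.flatMap_cons]
        refine ok_append.2 ⟨?_, ih⟩
        split
        exacts [ok_gWord _, ok_iw (ok_gWord _)]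
    rw [same_iff hok (ok_append.2 ⟨(eW_facts he).1, ok_append.2 ⟨ok_glW j, (eW_facts he).1⟩⟩)]
    refine K.inj ?_
    rw [theta_word hth, ← pw_gWord, hth j hj4, pw_append, pw_append, map_mul, map_mul]
    rw [show pw (eW e) = eE e from (eE.eq_1 e).symm, show pw (glW j) = gl j from (gl.eq_1 j).symm]
    rw [← hsq]
    have hi : d * d * (d * d) = 1 := by rw [hsq, ← map_mul, eE_mul he he, Nat.xor_self, eE_zero, map_one]
    calc d⁻¹ * (d⁻¹ * K.φ (gl j) * d) * d = (d * d)⁻¹ * (K.φ (gl j) * (d * d)) := by group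
      _ = d * d * (K.φ (gl j) * (d * d)) := by rw [inv_eq_of_mul_eq_one_right hi]

variable [Finite G]

/-- an element exchanging the two involutions with a known action on the elementary group -/
theorem exists_actR (hx : K.IsT (K.φ (cls 0))) : ∃ d : G, K.ActR d := by
  obtain ⟨q, hq1, hq2⟩ := K.exists_swap hx
  have hb : ∀ a < 16, ∃ b : P, b ∈ Xs ∧ K.φ b = q⁻¹ * K.φ (eE a) * q := by
    intro a ha
    have ha2 : eE a * cls 0 = cls 0 * eE a := by rw [← eE_two]; exact eE_comm ha (by norm_num)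
    obtain ⟨b, hb⟩ := K.exists_pre (g := q⁻¹ * K.φ (eE a) * q) (by
      rw [← hq2]
      calc q⁻¹ * K.φ (eE a) * q * (q⁻¹ * K.φ (cls 0) * q) = q⁻¹ * K.φ (eE a * cls 0) * q := by rw [map_mul]; group
        _ = q⁻¹ * K.φ (cls 0) * q * (q⁻¹ * K.φ (eE a) * q) := by rw [ha2, map_mul]; group)
    refine ⟨b, mem_Xs_iff.2 (K.inj ?_), hb⟩
    rw [map_mul, map_mul, hb, ← hq1]
    calc q⁻¹ * K.φ (eE a) * q * (q⁻¹ * K.t * q) = q⁻¹ * (K.φ (eE a) * K.t) * q := by group
      _ = q⁻¹ * (K.t * K.φ (eE a)) * q := by rw [K.comm_t]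
      _ = q⁻¹ * K.t * q * (q⁻¹ * K.φ (eE a) * q) := by group
  choose! b hbX hbq using hb
  have hmul : ∀ a < 16, ∀ c < 16, b a * b c = b (a ^^^ c) := fun a ha c hc => K.inj (by
    rw [map_mul, hbq a ha, hbq c hc, hbq _ (xor_lt16 ha hc), ← eE_mul ha hc, map_mul]; group)
  have hinj : ∀ a < 16, ∀ c < 16, b a = b c → a = c := fun a ha c hc h => eE_inj ha hc (K.inj (by
    have e := congrArg K.φ h
    rw [hbq a ha, hbq c hc] at e
    exact mul_left_cancel (mul_right_cancel e)))
  have hb1 : b 1 = cls 0 := K.inj (by rw [hbq 1 (by norm_num), eE_one]; exact hq1)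
  have hb2 : b 2 = zP := K.inj (by rw [hbq 2 (by norm_num), eE_two]; exact hq2)
  have hb0 : b 0 = 1 := K.inj (by rw [hbq 0 (by norm_num), eE_zero, map_one, mul_one, inv_mul_cancel])
  have hb3 : b 3 = eE 3 := by
    rw [show (3 : ℕ) = 1 ^^^ 2 from rfl, ← hmul 1 (by norm_num) 2 (by norm_num), hb1, hb2, ← eE_two, ← eE_one,
      eE_mul (by norm_num) (by norm_num)]
    rfl
  have hpure : ∀ a < 16, a ≠ 0 → Pure (b a) := fun a ha h0 => (K.isT_iff_pure hx).1 (by
    rw [hbq a ha]
    exact (K.pure_isT hx ((eW_facts ha).2.2.1 h0)).conj q)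
  obtain ⟨-, -, -, -, hxw, -⟩ := clsKeys_facts
  have hpt : ∀ a < 16, 4 ≤ a → ∃ p ∈ vPts, b a = cls p := by
    intro a ha ha4
    rcases hpure a ha (by omega) with h | ⟨p, hp, h⟩
    · exact absurd (hinj a ha 2 (by norm_num) (h.trans hb2.symm)) (by omega)
    refine ⟨p, ?_, h⟩
    have hc := List.all_eq_true.mp v_ok.1 p (List.mem_range.mpr hp)
    simp only [vAt, Bool.or_eq_true, Bool.not_eq_true', Nat.beq_eq, memK_iff] at hc
    have hokp := (cls_facts hp).1
    rcases hc with ((((hc | hc) | hc) | hc) | hc) | hc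
    · exact hc
    · subst hc
      exact absurd (hinj a ha 1 (by norm_num) (h.trans hb1.symm)) (by omega)
    · subst hc
      refine absurd (hinj a ha 3 (by norm_num) ?_) (by omega)
      rw [h, hb3, cls, same_sound v_ok.2.1, eE]
    · exfalso
      have e : img (cls 0) p = p := (commute_cls_iff _ hp).1 (by
        rw [← h]
        exact (mem_Xs_iff.1 (hbX a ha)).symm)
      rw [cls_zero, img_pw hxw (by omega)] at e
      rw [e, Nat.beq_refl] at hc
      exact Bool.noConfusion hc
    · exfalso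
      rw [(pureB_iff (ok_append.2 ⟨hokp, hxw⟩)).2 ?_] at hc
      · exact Bool.noConfusion hc
      rw [pw_append, ← cls_zero, ← cls, ← h, ← hb1, hmul a ha 1 (by norm_num)]
      exact hpure _ (xor_lt16 ha (by norm_num)) (fun h => by have := Nat.xor_eq_zero_iff.1 h; omega)
    · exfalso
      rw [(pureB_iff (ok_append.2 ⟨hokp, ok_append.2 ⟨clsKeys_facts.2.2.2.1, hxw⟩⟩)).2 ?_] at hc
      · exact Bool.noConfusion hc
      rw [pw_append, pw_append, ← cls_zero, ← cls, ← h, ← zP, ← hb1, ← hb2,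
        hmul 2 (by norm_num) 1 (by norm_num), hmul a ha _ (by norm_num)]
      exact hpure _ (xor_lt16 ha (by norm_num)) (fun h => by have : a = 3 := Nat.xor_eq_zero_iff.1 h; omega)
  obtain ⟨p, hp, e4⟩ := hpt 4 (by norm_num) le_rfl
  obtain ⟨r, hr, e8⟩ := hpt 8 (by norm_num) (by norm_num)
  have hlt : ∀ p ∈ vPts, p < 630 := fun p hp => by simpa using List.all_eq_true.mp v_ok.2.2 p hp
  obtain ⟨s, hs, hps, hrs⟩ : ∃ s ∈ triPts, p ∈ s ∧ r ∈ s := by
    have hc := List.all_eq_true.mp (List.all_eq_true.mp pair_ok p hp) r hr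
    have hokp := (cls_facts (hlt p hp)).1
    have hokr := (cls_facts (hlt r hr)).1
    obtain ⟨hzw, -⟩ := clsKeys_facts.2.2.2
    simp only [pairAt, Bool.or_eq_true, Bool.not_eq_true', List.any_eq_true, Bool.and_eq_true, memK_iff,
      List.mem_range] at hc
    have h48 : ∀ k < 16, 12 ^^^ k ≠ 0 → Pure (pw (cw p ++ cw r) * b k) := fun k hk hne => by
      rw [pw_append, ← cls, ← cls, ← e4, ← e8, hmul 4 (by norm_num) 8 (by norm_num),
        hmul _ (by decide) k hk]
      exact hpure _ (xor_lt16 (by decide) hk) hne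
    rcases hc with (((((hc | hc) | hc) | hc) | hc) | hc) | hc
    · exact hc
    · exfalso
      have e : img (cls p) r = r := (commute_cls_iff _ (hlt r hr)).1 (by
        rw [← e4, ← e8, hmul 4 (by norm_num) 8 (by norm_num), hmul 8 (by norm_num) 4 (by norm_num)]; rfl)
      rw [cls, img_pw hokp (lt_trans (hlt r hr) (by norm_num))] at e
      rw [e, Nat.beq_refl] at hc
      exact Bool.noConfusion hc
    · exfalso
      have := h48 0 (by norm_num) (by decide)
      rw [hb0, mul_one] at this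
      rw [(pureB_iff (ok_append.2 ⟨hokp, hokr⟩)).2 this] at hc
      exact Bool.noConfusion hc
    · exfalso
      rw [(pureB_iff (ok_append.2 ⟨hokp, ok_append.2 ⟨hokr, hzw⟩⟩)).2 ?_] at hc
      · exact Bool.noConfusion hc
      rw [← List.append_assoc, pw_append, ← zP, ← hb2]
      exact h48 2 (by norm_num) (by decide)
    · exfalso
      rw [(pureB_iff (ok_append.2 ⟨hokp, ok_append.2 ⟨hokr, hxw⟩⟩)).2 ?_] at hc
      · exact Bool.noConfusion hc
      rw [← List.append_assoc, pw_append, ← cls_zero, ← hb1]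
      exact h48 1 (by norm_num) (by decide)
    · exfalso
      rw [(pureB_iff (ok_append.2 ⟨hokp, ok_append.2 ⟨hokr, ok_append.2 ⟨hzw, hxw⟩⟩⟩)).2 ?_] at hc
      · exact Bool.noConfusion hc
      rw [← List.append_assoc (cw p), pw_append, pw_append zw, ← zP, ← cls_zero, ← hb2, ← hb1,
        hmul 2 (by norm_num) 1 (by norm_num)]
      exact h48 _ (by norm_num) (by decide)
    · exfalso
      obtain ⟨i, hi, hc⟩ := hc
      have e := same_sound hc
      rw [pw_append, ← cls, ← cls, ← e4, ← e8, show pw (eW i) = eE i from rfl] at e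
      have hi' : ∃ k < 4, b k = eE i := by
        interval_cases i
        · exact ⟨0, by norm_num, hb0.trans eE_zero.symm⟩
        · exact ⟨2, by norm_num, hb2.trans eE_one.symm⟩
        · exact ⟨1, by norm_num, hb1.trans eE_two.symm⟩
        · exact ⟨3, by norm_num, hb3⟩
      obtain ⟨k, hk, hk'⟩ := hi'
      rw [← hk', hmul 4 (by norm_num) k (by omega)] at e
      have h8 := hinj 8 (by norm_num) _ (xor_lt16 (by norm_num) (by omega)) e
      interval_cases k <;> simp at h8
  obtain ⟨si, hsi, rfl⟩ := List.getElem_of_mem hs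
  have hk := List.all_eq_true.mp kj_ok si (List.mem_range.mpr hsi)
  simp only [Bool.and_eq_true, List.all_eq_true, List.any_eq_true, List.mem_range,
    List.getD_eq_getElem _ _ hsi] at hk
  obtain ⟨⟨hkok, hk0⟩, hkE⟩ := hk
  have hkX : pw (nthWord kjW si) ∈ Xs := by
    rw [mem_Xs, img_pw hkok (by norm_num)]; exact Nat.eq_of_beq_eq_true hk0
  set k := pw (nthWord kjW si)
  have hkp : ∀ x ∈ triPts[si], ∃ a < 16, k⁻¹ * cls x * k = eE a := fun x hx' => by
    obtain ⟨a, ha, h⟩ := hkE x hx'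
    refine ⟨a, ha, ?_⟩
    have e := same_sound h
    rw [pw_append, pw_append, pw_iw, ← mul_assoc] at e
    simpa only [k, cls, eE] using e
  obtain ⟨a4, ha4, f4⟩ := hkp p hps
  obtain ⟨a8, ha8, f8⟩ := hkp r hrs
  rw [← e4] at f4
  rw [← e8] at f8
  have hkz : k⁻¹ * zP * k = zP := by rw [mul_assoc, zP_comm, inv_mul_cancel_left]
  have hkx : k⁻¹ * cls 0 * k = cls 0 := by rw [mul_assoc, ← mem_Xs_iff.1 hkX, inv_mul_cancel_left]
  -- choose a normalising element
  have f1 : k⁻¹ * b 1 * k = eE 2 := by rw [hb1, hkx, eE_two]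
  have f2 : k⁻¹ * b 2 * k = eE 1 := by rw [hb2, hkz, eE_one]
  have fmul : ∀ a < 16, ∀ c < 16, k⁻¹ * b (a ^^^ c) * k = (k⁻¹ * b a * k) * (k⁻¹ * b c * k) := fun a ha c hc => by
    rw [← hmul a ha c hc]; group
  have hlow : ∀ i < 4, ∃ u < 16, k⁻¹ * b u * k = eE i ∧ u < 4 := by
    intro i hi
    interval_cases i
    · exact ⟨0, by norm_num, by rw [hb0, eE_zero]; group, by norm_num⟩
    · exact ⟨2, by norm_num, f2, by norm_num⟩
    · exact ⟨1, by norm_num, f1, by norm_num⟩
    · exact ⟨1 ^^^ 2, by decide, by rw [fmul 1 (by norm_num) 2 (by norm_num), f1, f2, eE_mul (by norm_num) (by norm_num)]; rfl,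
        by decide⟩
  have finj : ∀ a < 16, ∀ c < 16, k⁻¹ * b a * k = k⁻¹ * b c * k → a = c := fun a ha c hc h =>
    hinj a ha c hc (mul_left_cancel (mul_right_cancel h))
  have h := List.all_eq_true.mp (List.all_eq_true.mp tab_ok a4 (List.mem_range.mpr ha4)) a8 (List.mem_range.mpr ha8)
  simp only [tabAt, Bool.or_eq_true, Nat.blt_eq, List.any_eq_true, List.mem_range, Nat.beq_eq, Bool.and_eq_true] at h
  rcases h with ((h | h) | ⟨i, hi, h⟩) | ⟨⟨⟨hgok, hg0⟩, hg4⟩, hg8⟩
  · obtain ⟨u, hu, e, hu4⟩ := hlow a4 h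
    have := finj u hu 4 (by norm_num) (e.trans f4.symm)
    omega
  · obtain ⟨u, hu, e, hu4⟩ := hlow a8 h
    have := finj u hu 8 (by norm_num) (e.trans f8.symm)
    omega
  · obtain ⟨u, hu, e, hu4⟩ := hlow i hi
    have := finj (4 ^^^ u) (xor_lt16 (by norm_num) hu) 8 (by norm_num) (by
      rw [fmul 4 (by norm_num) u hu, f4, e, eE_mul ha4 (by omega), f8, h])
    interval_cases u <;> simp at this
  have hgX : pw (nthWord tab96 (16 * a4 + a8)) ∈ Xs := by
    rw [mem_Xs, img_pw hgok (by norm_num)]; exact hg0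
  set g := pw (nthWord tab96 (16 * a4 + a8))
  have g4 : g⁻¹ * eE a4 * g = eE 4 := pw_cjE hg4
  have g8 : g⁻¹ * eE a8 * g = eE 8 := pw_cjE hg8
  have g1 : g⁻¹ * eE 1 * g = eE 1 := by rw [eE_one, mul_assoc, zP_comm, inv_mul_cancel_left]
  have g2 : g⁻¹ * eE 2 * g = eE 2 := by rw [eE_two, mul_assoc, ← mem_Xs_iff.1 hgX, inv_mul_cancel_left]
  refine ⟨q * K.φ k * K.φ g, fun a ha => ?_⟩
  have key : ∀ a < 16, (k * g)⁻¹ * b a * (k * g) = eE (rr a) := by
    have base : ∀ a, a = 1 ∨ a = 2 ∨ a = 4 ∨ a = 8 → (k * g)⁻¹ * b a * (k * g) = eE (rr a) := by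
      intro a ha
      rw [show (k * g)⁻¹ * b a * (k * g) = g⁻¹ * (k⁻¹ * b a * k) * g by group]
      rcases ha with rfl | rfl | rfl | rfl
      · rw [f1, g2]; rfl
      · rw [f2, g1]; rfl
      · rw [f4, g4]; rfl
      · rw [f8, g8]; rfl
    have step : ∀ a < 16, ∀ c < 16, (k * g)⁻¹ * b a * (k * g) = eE (rr a) → (k * g)⁻¹ * b c * (k * g) = eE (rr c) →
        (k * g)⁻¹ * b (a ^^^ c) * (k * g) = eE (rr (a ^^^ c)) := by
      intro a ha c hc h1 h2
      rw [← hmul a ha c hc, (rr_facts a ha).2.2.2 c hc, ← eE_mul (rr_facts a ha).1 (rr_facts c hc).1, ← h1, ← h2]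
      group
    have b1 := base 1 (Or.inl rfl)
    have b2 := base 2 (Or.inr (Or.inl rfl))
    have b4 := base 4 (Or.inr (Or.inr (Or.inl rfl)))
    have b8 := base 8 (Or.inr (Or.inr (Or.inr rfl)))
    have b0 : (k * g)⁻¹ * b 0 * (k * g) = eE (rr 0) := by rw [hb0, show rr 0 = 0 from rfl, eE_zero]; group
    have b3 := step 1 (by norm_num) 2 (by norm_num) b1 b2
    have b12 := step 4 (by norm_num) 8 (by norm_num) b4 b8
    intro a ha
    have low : ∀ l < 4, (k * g)⁻¹ * b l * (k * g) = eE (rr l) := by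
      intro l hl
      interval_cases l <;> assumption
    have high : ∀ h < 4, (k * g)⁻¹ * b (4 * h) * (k * g) = eE (rr (4 * h)) := by
      intro h hh
      interval_cases h <;> assumption
    have ea : a % 4 ^^^ 4 * (a / 4) = a := split4 a ha
    rw [← ea]
    exact step _ (by omega) _ (by omega) (low _ (Nat.mod_lt _ (by norm_num))) (high _ (by omega))
  calc (q * K.φ k * K.φ g)⁻¹ * K.φ (eE a) * (q * K.φ k * K.φ g)
      = (K.φ (k * g))⁻¹ * (q⁻¹ * K.φ (eE a) * q) * K.φ (k * g) := by rw [map_mul]; group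
    _ = K.φ (eE (rr a)) := by rw [← hbq a ha, ← map_inv, ← map_mul, ← map_mul, key a ha]

theorem ActR.mul_E {d : G} (hd : K.ActR d) {f : ℕ} (hf : f < 16) : K.ActR (d * K.φ (eE f)) := fun a ha => by
  have hra := (rr_facts a ha).1
  calc (d * K.φ (eE f))⁻¹ * K.φ (eE a) * (d * K.φ (eE f))
      = (K.φ (eE f))⁻¹ * (d⁻¹ * K.φ (eE a) * d) * K.φ (eE f) := by group
    _ = K.φ (eE (rr a)) := by
      rw [hd a ha, ← map_inv, ← map_mul, ← map_mul, mul_assoc, eE_comm hra hf, inv_mul_cancel_left]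

/-- The normalised element: eight cases. -/
theorem exists_case (hx : K.IsT (K.φ (cls 0))) :
    ∃ (d : G) (t c : ℕ), (t = 4 ∨ t = 5) ∧ (c = 0 ∨ c = 7 ∨ c = 8 ∨ c = 15) ∧ d * d = 1 ∧
      d⁻¹ * K.t * d = K.φ (cls 0) ∧
      (∀ j < 4, K.φ (gl j) * d = d * K.φ (pw (gWord (thW t j)))) ∧
      d * K.φ (pw ksW) * (d * K.φ (pw ksW) * (d * K.φ (pw ksW))) = K.φ (eE c) := by
  obtain ⟨d0, hd0⟩ := exists_actR hx
  obtain ⟨e0, he0, hsq0, hre0⟩ := hd0.exists_sq
  obtain ⟨t0, ht0, hth0⟩ := hd0.exists_theta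
  obtain ⟨hadj, -⟩ := hd0.case_of he0 hre0 hsq0 ht0 hth0
  have ha := List.all_eq_true.mp adj_ok t0 (List.mem_range.mpr ht0)
  simp only [adjAt, strict_eq, Bool.or_eq_true, Bool.and_eq_true, List.all_eq_true, List.mem_range,
    Nat.beq_eq, Nat.ble_eq] at ha
  rcases ha with ha | ⟨ht, hconj⟩
  · omega
  set f := nth adjs t0 256 % 16
  set t := nth adjs t0 256 / 16
  have hf : f < 16 := Nat.mod_lt _ (by norm_num)
  have hd1 := hd0.mul_E hf
  set d1 := d0 * K.φ (eE f)
  obtain ⟨e, he, hsq, hre⟩ := hd1.exists_sq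
  have hth : ∀ j < 4, K.φ (pw (gWord (thW t j))) = d1⁻¹ * K.φ (gl j) * d1 := fun j hj => by
    rw [← same_sound (hconj j hj), pw_append, pw_append, show pw (eW f) = eE f from rfl, map_mul, map_mul, hth0 j hj]
    have hi : K.φ (eE f) = (K.φ (eE f))⁻¹ := by rw [← map_inv, eE_inv hf]
    calc K.φ (eE f) * (d0⁻¹ * K.φ (gl j) * d0 * K.φ (eE f))
        = (K.φ (eE f))⁻¹ * (d0⁻¹ * K.φ (gl j) * d0 * K.φ (eE f)) := by rw [← hi]
      _ = d1⁻¹ * K.φ (gl j) * d1 := by simp only [d1]; group
  obtain ⟨-, he03⟩ := hd1.case_of he hre hsq (by omega) hth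
  obtain ⟨d, hdR, hd2, hdt⟩ : ∃ d, K.ActR d ∧ d * d = 1 ∧
      ∀ j < 4, K.φ (gl j) * d = d * K.φ (pw (gWord (thW t j))) := by
    have tw : ∀ j < 4, K.φ (gl j) * d1 = d1 * K.φ (pw (gWord (thW t j))) := fun j hj => by
      rw [hth j hj]; group
    rcases he03 with rfl | rfl
    · exact ⟨d1, hd1, by rw [hsq, eE_zero, map_one], tw⟩
    · refine ⟨d1 * K.φ (eE 1), hd1.mul_E (by norm_num), ?_, fun j hj => ?_⟩
      · calc d1 * K.φ (eE 1) * (d1 * K.φ (eE 1)) = d1 * d1 * (d1⁻¹ * K.φ (eE 1) * d1) * K.φ (eE 1) := by group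
          _ = 1 := by
            rw [hsq, hd1 1 (by norm_num), ← map_mul, ← map_mul, eE_mul (by norm_num) (rr_facts 1 (by norm_num)).1,
              eE_mul (by decide) (by norm_num), show (3 ^^^ rr 1) ^^^ 1 = 0 from rfl, eE_zero, map_one]
      · rw [← mul_assoc, tw j hj, mul_assoc, eE_one]
        show _ * (K.φ _ * K.t) = _
        rw [K.comm_t, ← mul_assoc]
        rfl
  have hk := ks_ok
  simp only [ksOK, Bool.and_eq_true, List.all_eq_true, List.any_eq_true, List.mem_range] at hk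
  set ks := pw ksW
  have hstep : ∀ a < 16, ∀ b, cjE ksW (rr a) b = true →
      (d * K.φ ks)⁻¹ * K.φ (eE a) * (d * K.φ ks) = K.φ (eE b) := fun a ha b h => by
    rw [← pw_cjE h, map_mul, map_mul, map_inv, ← hdR a ha, show pw ksW = ks from rfl]; group
  obtain ⟨c, hc, hce⟩ := cent_E (K := K) (g := d * K.φ ks * (d * K.φ ks * (d * K.φ ks))) fun a ha => by
    obtain ⟨b, hb, h1, c, hc, h2, d', hd', ⟨h3, hda⟩, -⟩ := hk.2 a ha
    obtain rfl := Nat.eq_of_beq_eq_true hda
    have e3 := hstep c hc d' h3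
    rw [← hstep b hb c h2, ← hstep d' ha b h1] at e3
    generalize d * K.φ ks = u at e3 ⊢
    conv_lhs => rw [← e3]
    group
  refine ⟨d, t, c, ht, ?_, hd2, hdR.swap.1, hdt, hce⟩
  obtain ⟨b, hb, h1, c', hc', h2, d', hd', ⟨-, -⟩, hfix⟩ := hk.2 c hc
  have e1 := hstep c hc b h1
  rw [← hce] at e1
  have : b = c := eE_inj hb hc (K.inj (by rw [← e1, ← hce]; group))
  simp only [this, Nat.beq_refl, Bool.or_eq_true, Bool.not_eq_true', memK_iff] at hfix
  simpa using hfix

end Ctx

end CfsgLib.CoThreeUniq
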