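import Cfsg.Agent.Lib.CoThreeUniq.XSub
import Cfsg.Agent.Lib.CoThreeUniq.SwapChecks
import Cfsg.Agent.Lib.CoThreeUniq.DataRel
import Cfsg.Agent.Lib.TwistCoset.Tree

/-!
The group side of the double coset certificates.
-/

set_option autoImplicit false
set_option Elab.async false
set_option maxRecDepth 20000

namespace CfsgLib.CoThreeUniq

open CfsgLib.CosetEnum CfsgLib.TwistCoset

/-- an element with the relations of a case -/
structure CaseHyp {W : Type*} [Group W] (ψ : P →* W) (δ : W) (t c : ℕ) : Prop where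
  sq : δ * δ = 1
  twist : ∀ j < 4, ψ (gl j) * δ = δ * ψ (pw (gWord (thW t j)))
  ks : δ * ψ (pw ksW) * (δ * ψ (pw ksW) * (δ * ψ (pw ksW))) = ψ (eE c)
  top : Subgroup.closure (insert δ (ψ.range : Set W)) = ⊤

/-- a letter or the exchanging element -/
noncomputable def valL {W : Type*} [Group W] (ψ : P →* W) (δ : W) (c : ℕ) : W := if c < 11 then ψ (g0 c) else δ

/-- the inverse of a letter, the exchanging element being an involution -/
noncomputable def inv12 (c : ℕ) : ℕ := if c < 11 then tC.inv c else 11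

/-- the formal inverse of a word with the exchanging element -/
noncomputable def iw12 (w : List ℕ) : List ℕ := (w.map inv12).reverse

/-- the relation of a case -/
noncomputable def relW (c : ℕ) : List ℕ :=
  [11] ++ ksW ++ ([11] ++ ksW ++ ([11] ++ ksW)) ++ ((cInvW.find? fun e => Nat.beq e.1 c).getD (0, [])).2

/-- a rotation of the relation or of its inverse -/
noncomputable def rot12 (c : ℕ) (e : Bool × ℕ) : List ℕ :=
  (if e.1 then iw12 (relW c) else relW c).drop e.2 ++ (if e.1 then iw12 (relW c) else relW c).take e.2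

theorem rel_ok : ([0, 7, 8, 15].all fun c =>
    ok ((cInvW.find? fun e => Nat.beq e.1 c).getD (0, [])).2 &&
      same (eW c ++ ((cInvW.find? fun e => Nat.beq e.1 c).getD (0, [])).2) []) = true ∧ ok ksW = true := by
  refine ⟨?_, ?_⟩ <;> decide +kernel

variable {W : Type*} [Group W] {ψ : P →* W} {δ : W} {t c : ℕ}

theorem prodW_valL : ∀ {w : List ℕ}, ok w = true → prodW (valL ψ δ) w = ψ (pw w)
  | [], _ => by rw [pw_nil, map_one]; rfl
  | g :: w, h => by
    rw [ok_iff, List.forall_mem_cons] at h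
    rw [prodW_cons, prodW_valL (ok_iff.2 h.2), valL, if_pos h.1, ← map_mul]
    simp only [pw, prodW_cons]

theorem CaseHyp.rel_one (h : CaseHyp ψ δ t c) (hc : c ∈ [0, 7, 8, 15]) : prodW (valL ψ δ) (relW c) = 1 := by
  have h' := List.all_eq_true.mp rel_ok.1 c hc
  simp only [Bool.and_eq_true] at h'
  have h11 : prodW (valL ψ δ) [11] = δ := by simp [valL]
  have e := same_sound h'.2
  rw [pw_append, pw_nil] at e
  rw [relW]
  simp only [prodW_append, h11, prodW_valL rel_ok.2, prodW_valL h'.1]
  rw [h.ks, ← map_mul, show eE c = pw (eW c) from eE.eq_1 c, e, map_one]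

theorem CaseHyp.prodW_iw12 (h : CaseHyp ψ δ t c) : ∀ w : List ℕ, prodW (valL ψ δ) (iw12 w) = (prodW (valL ψ δ) w)⁻¹
  | [] => by simp [iw12]
  | g :: w => by
    have e : iw12 (g :: w) = iw12 w ++ [inv12 g] := by simp [iw12]
    have e2 : valL ψ δ (inv12 g) = (valL ψ δ g)⁻¹ := by
      refine (inv_eq_of_mul_eq_one_right ?_).symm
      by_cases hg : g < 11
      · rw [inv12, if_pos hg, valL, valL, if_pos hg, if_pos (inv_lt hg).1, ← map_mul, g0_inv, map_one]
      · rw [inv12, if_neg hg, valL, valL, if_neg hg, if_neg (by norm_num)]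
        exact h.sq
    rw [e, prodW_append, h.prodW_iw12 w, show prodW (valL ψ δ) [inv12 g] = valL ψ δ (inv12 g) by simp, prodW_cons, e2, mul_inv_rev]

theorem CaseHyp.rot_one (h : CaseHyp ψ δ t c) (hc : c ∈ [0, 7, 8, 15]) (e : Bool × ℕ) :
    prodW (valL ψ δ) (rot12 c e) = 1 := by
  have hr : prodW (valL ψ δ) (if e.1 then iw12 (relW c) else relW c) = 1 := by
    split
    · rw [h.prodW_iw12, h.rel_one hc, inv_one]
    · exact h.rel_one hc
  rw [rot12]
  generalize (if e.1 then iw12 (relW c) else relW c) = r at hr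
  rw [prodW_append]
  rw [← List.take_append_drop e.2 r, prodW_append] at hr
  exact mul_eq_one_comm.mp hr

/-- the shape of the data of a case -/
noncomputable def shapeOK (D : TData) (t c : ℕ) (wE wS : List (Bool × ℕ)) : Bool :=
  (D.menuE == wE.map fun e => iw12 (rot12 c e).tail) &&
  (wE.all fun e => (rot12 c e).head? == some 11) &&
  (D.menuS == wS.map fun e => rot12 c e) &&
  ((D.menuE ++ D.menuS).all fun Q => Q.all fun c => Nat.ble c 11) &&
  (D.U == (List.range 4).map fun j => (glW j, gWord (thW t j))) &&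
  (D.pgens == (List.range 4).map glW) && (D.sq == []) && (D.par.getD 0 (0, []) == (0, []))

theorem trig (D : TData) (hC : D.C = { tC with N := 630 }) (hB : D.B = bB) (h : CaseHyp ψ δ t c)
    (hc : c ∈ [0, 7, 8, 15]) {wE wS : List (Bool × ℕ)} (hs : shapeOK D t c wE wS = true) :
    TRig D g0 ψ ψ.range δ := by
  simp only [shapeOK, Bool.and_eq_true, beq_iff_eq, List.all_eq_true, Nat.ble_eq] at hs
  obtain ⟨⟨⟨⟨⟨⟨⟨hE, hEh⟩, hS⟩, hlt⟩, hU⟩, hP⟩, hsq⟩, hpar⟩ := hs
  have hK : D.C.K = 11 := by rw [hC]; rfl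
  have hinv : ∀ g, D.C.inv g = tC.inv g := fun g => by rw [hC]; rfl
  have hrun : ∀ x w, D.C.run x w = tC.run x w := fun x w => by rw [hC]; rfl
  have hval : ∀ Q ∈ D.menuE ++ D.menuS, prodW (fun c => if c < D.C.K then ψ (g0 c) else δ) Q =
      prodW (valL ψ δ) Q := fun Q _ => prodW_congr fun g _ => by rw [hK]; rfl
  refine
    { inv_mul := fun g => by rw [hinv]; exact g0_inv g
      inv_lt := fun g hg => by rw [hK] at hg ⊢; rw [hinv]; exact (inv_lt hg).1
      eq_sound := fun l m hlm => ?_
      H_eq := rfl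
      gen_top := h.top
      gen0_top := by rw [hK]; exact gen0_top
      twist := fun e he => ?_
      t_sq := by rw [hsq, prodW_nil, map_one]; exact h.sq
      menuE := fun Q hQ => ?_
      menuS := fun Q hQ => ?_
      par0 := hpar
      fixZero := fun w hw h0 => ?_
      run_cong := fun u w hu hw e => ?_ }
  · have h' : Act.eqW tC bB l m = true := by
      have h1 : Act.eqW D.C D.B l m = true := hlm
      rw [hC, hB] at h1
      exact h1
    exact eq_sound h'
  · rw [hU, List.mem_map] at he
    obtain ⟨j, hj, rfl⟩ := he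
    have := h.twist j (List.mem_range.mp hj)
    rwa [gl] at this
  · rw [hval Q (List.mem_append_left _ hQ)]
    rw [hE, List.mem_map] at hQ
    obtain ⟨e, he, rfl⟩ := hQ
    have h1 := h.rot_one hc e
    have h2 := hEh e he
    cases hr : rot12 c e with
    | nil => simp [hr] at h2
    | cons g r =>
      simp only [hr, List.head?_cons, Option.some.injEq] at h2
      subst h2
      rw [hr, prodW_cons, show valL ψ δ 11 = δ from rfl] at h1
      rw [List.tail_cons, h.prodW_iw12]
      exact inv_eq_of_mul_eq_one_left h1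
  · rw [hval Q (List.mem_append_right _ hQ)]
    rw [hS, List.mem_map] at hQ
    obtain ⟨e, -, rfl⟩ := hQ
    exact h.rot_one hc e
  · rw [hK] at hw
    rw [hrun] at h0
    have hX : pw w ∈ Xs := by rw [mem_Xs, img_pw (ok_iff.2 hw) (by norm_num)]; exact h0
    rw [← closure_gl] at hX
    refine Subgroup.closure_mono ?_ hX
    rintro y ⟨j, hj, rfl⟩
    exact ⟨glW j, by rw [hP]; exact List.mem_map.2 ⟨j, List.mem_range.2 hj, rfl⟩, (gl.eq_1 j).symm⟩
  · rw [hK] at hu hw
    rw [hrun, hrun, ← img_pw (ok_iff.2 hu) (by norm_num), ← img_pw (ok_iff.2 hw) (by norm_num),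
      show pw u = pw w from e]

/-- the facts of a case are right -/
noncomputable def factsOK (D : TData) (M : ℕ) : Bool := allUp (fun n => pick (ltB n M) (D.factOK n) true) 8 0

theorem holds_of_ok {D : TData} {H : Subgroup W} (R : TRig D g0 ψ H δ) {M : ℕ} (hM : M ≤ 256)
    (h : factsOK D M = true) : ∀ f < M, TData.Holds R (D.fct f) :=
  TData.facts_holds R fun n hn => by
    have h1 := allUp_spec h n (Nat.zero_le _) (by omega)
    rwa [show ltB n M = true from ltB_iff.mpr hn, pick_true] at h1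

/-- the last fact fixes the exchanged double coset and moves point zero -/
noncomputable def badOK (D : TData) (M : ℕ) : Bool :=
  (D.par.getD 1 (1, []) == (0, [])) &&
    match D.fct (M - 1) with
    | .stab 1 p => ok p && !Nat.beq (tC.run 0 p) 0
    | _ => false

theorem false_of_bad {D : TData} (R : TRig D g0 ψ ψ.range δ) (hinj : Function.Injective ψ)
    (hx : δ⁻¹ * ψ zP * δ = ψ (cls 0)) {M : ℕ} (hM0 : 0 < M) (hM : M ≤ 256)
    (hf : factsOK D M = true) (hb : badOK D M = true) : False := by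
  have hH := holds_of_ok R hM hf (M - 1) (by omega)
  simp only [badOK, Bool.and_eq_true, beq_iff_eq] at hb
  obtain ⟨hpar, hb⟩ := hb
  have hw : TData.wst R 1 = δ := by
    rw [TData.wst, dif_pos (by rw [hpar]; exact Nat.one_pos), hpar, TData.wst_zero, TData.ev_nil, one_mul, one_mul]
  split at hb
  case h_2 => simp at hb
  rename_i p hfct
  simp only [Bool.and_eq_true, Bool.not_eq_true'] at hb
  rw [hfct] at hH
  simp only [TData.Holds, CfsgLib.DCoset.Same, hw] at hH
  have hc : δ * ψ (pw p) * δ⁻¹ ∈ ψ.range := hH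
  obtain ⟨a, ha⟩ := hc
  have hxa : pw p * cls 0 = cls 0 * pw p := by
    refine hinj ?_
    rw [map_mul, map_mul, ← hx]
    have hz : ψ a * ψ zP = ψ zP * ψ a := by rw [← map_mul, ← map_mul, zP_comm]
    calc ψ (pw p) * (δ⁻¹ * ψ zP * δ) = δ⁻¹ * (δ * ψ (pw p) * δ⁻¹ * ψ zP) * δ := by group
      _ = δ⁻¹ * (ψ zP * (δ * ψ (pw p) * δ⁻¹)) * δ := by rw [← ha, hz]
      _ = δ⁻¹ * ψ zP * δ * ψ (pw p) := by group
  have := (commute_cls_iff _ (by norm_num)).1 hxa
  rw [img_pw hb.1 (by norm_num)] at this
  rw [this, Nat.beq_refl] at hb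
  exact Bool.noConfusion hb.2

end CfsgLib.CoThreeUniq
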