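import Cfsg.Agent.Lib.CoThreeUniq.Order
import Cfsg.Agent.Lib.CoThreeUniq.DataVec
import Cfsg.Agent.Lib.Classical.SympOrder

/-!
The map of the group onto `Sp(6, 2)`, with kernel the central involution.
-/

set_option autoImplicit false
set_option Elab.async false
set_option maxRecDepth 20000

namespace CfsgLib.CoThreeUniq

open CfsgLib.CosetEnum CfsgLib.TwistCoset Matrix

/-- six coordinates -/
abbrev I6 : Type := Fin 3 ⊕ Fin 3

/-- position of a coordinate -/
def pos6 : I6 → ℕ := Sum.elim (fun i => i.val) (fun i => i.val + 3)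

/-- the vector of a number -/
def vOf (k : ℕ) : I6 → ZMod 2 := fun i => if k.testBit (pos6 i) then 1 else 0

/-- the number of a vector -/
def idxV (v : I6 → ZMod 2) : ℕ :=
  (v (.inl 0)).val + 2 * (v (.inl 1)).val + 4 * (v (.inl 2)).val + 8 * (v (.inr 0)).val +
    16 * (v (.inr 1)).val + 32 * (v (.inr 2)).val

theorem vOf_idxV : ∀ v : I6 → ZMod 2, idxV v < 64 ∧ vOf (idxV v) = v := by decide +kernel

/-- the point of a vector -/
def vpt (v : I6 → ZMod 2) : ℕ := 870 + idxV v

theorem vpt_lt (v : I6 → ZMod 2) : vpt v < 934 := by have := (vOf_idxV v).1; unfold vpt; omega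

theorem vpt_inj {v w : I6 → ZMod 2} (h : vpt v = vpt w) : v = w := by
  rw [← (vOf_idxV v).2, ← (vOf_idxV w).2, show idxV v = idxV w by unfold vpt at h; omega]

/-- the matrix of a letter -/
def matOf (g : ℕ) : Matrix I6 I6 (ZMod 2) := fun i j =>
  if ((matRows.getD g []).getD (pos6 i) 0).testBit (pos6 j) then 1 else 0

theorem mat_symp : ∀ g < 11, matOf g * Matrix.J (Fin 3) (ZMod 2) * (matOf g)ᵀ = Matrix.J (Fin 3) (ZMod 2) := by
  decide +kernel

theorem mat_act : (List.range 11).all (fun g => (List.range 64).all fun k =>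
    Nat.beq (tC.T (870 + k) g) (vpt (vOf k ᵥ* matOf g))) = true := by
  decide +kernel

/-- an element acts on the vectors by a matrix -/
def ActsBy (a : P) (A : Matrix.symplecticGroup (Fin 3) (ZMod 2)) : Prop :=
  ∀ v, img a (vpt v) = vpt (v ᵥ* (A : Matrix I6 I6 (ZMod 2)))

theorem ActsBy.unique {a : P} {A B : Matrix.symplecticGroup (Fin 3) (ZMod 2)} (hA : ActsBy a A)
    (hB : ActsBy a B) : A = B := by
  refine Subtype.ext (Matrix.ext fun i j => ?_)
  have h := congrFun (vpt_inj ((hA (Pi.single i 1)).symm.trans (hB (Pi.single i 1)))) j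
  simpa using h

theorem ActsBy.mul {a b : P} {A B : Matrix.symplecticGroup (Fin 3) (ZMod 2)} (hA : ActsBy a A)
    (hB : ActsBy b B) : ActsBy (a * b) (A * B) := fun v => by
  rw [img_mul a b (vpt_lt v), hA v, hB]
  show vpt (v ᵥ* (A : Matrix I6 I6 (ZMod 2)) ᵥ* (B : Matrix I6 I6 (ZMod 2))) = _
  rw [Matrix.vecMul_vecMul]
  rfl

theorem exists_acts (a : P) : ∃ A, ActsBy a A := by
  obtain ⟨w, hw, rfl⟩ := exists_word a
  induction w with
  | nil => exact ⟨1, fun v => by rw [pw_nil, img_one]; simp⟩
  | cons g w ih =>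
    rw [ok_iff, List.forall_mem_cons] at hw
    obtain ⟨B, hB⟩ := ih (ok_iff.2 hw.2)
    let A : Matrix.symplecticGroup (Fin 3) (ZMod 2) :=
      ⟨matOf g, (SymplecticGroup.mem_iff).2 (mat_symp g hw.1)⟩
    have hA : ActsBy (pw [g]) A := fun v => by
      rw [img_pw (by simp [ok, hw.1]) (vpt_lt v), Cert.run_cons, Cert.run_nil]
      have h := List.all_eq_true.mp mat_act g (List.mem_range.mpr hw.1)
      have h2 := List.all_eq_true.mp h (idxV v) (List.mem_range.mpr (vOf_idxV v).1)
      rw [(vOf_idxV v).2] at h2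
      exact Nat.eq_of_beq_eq_true h2
    refine ⟨A * B, ?_⟩
    rw [show g :: w = [g] ++ w from rfl, pw_append]
    exact hA.mul hB

/-- the map onto the symplectic group -/
noncomputable def rho : P →* Matrix.symplecticGroup (Fin 3) (ZMod 2) where
  toFun a := (exists_acts a).choose
  map_one' := (exists_acts 1).choose_spec.unique fun v => by rw [img_one]; simp
  map_mul' a b := (exists_acts (a * b)).choose_spec.unique
    ((exists_acts a).choose_spec.mul (exists_acts b).choose_spec)

theorem rho_acts (a : P) : ActsBy a (rho a) := (exists_acts a).choose_spec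

theorem vec_bases : vecChain.map CLev.base = [871, 872, 874, 878, 886, 902] := rfl

theorem zw_facts : ok zw = true ∧ (List.range 64).all (fun k => Nat.beq (tC.run (870 + k) zw) (870 + k)) = true ∧
    Nat.beq (tC.run 630 zw) 630 = false ∧ same (zw ++ zw) [] = true ∧
    (List.range 11).all (fun g => same (zw ++ [g]) ([g] ++ zw)) = true ∧
    same zw ([6] ++ iw [6] ++ (iw [6] ++ iw [0, 3] ++ ([6] ++ [0, 3]))) = true := by
  refine ⟨?_, ?_, ?_, ?_, ?_, ?_⟩ <;> decide +kernel

theorem zP_ne : zP ≠ 1 := fun h => by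
  have e := img_pw zw_facts.1 (show 630 < 934 by norm_num)
  rw [show pw zw = 1 from h, img_one] at e
  have := zw_facts.2.2.1
  rw [← e, Nat.beq_refl] at this
  exact Bool.noConfusion this

theorem zP_sq : zP * zP = 1 := by
  rw [zP, ← pw_append, same_sound zw_facts.2.2.2.1, pw_nil]

theorem zP_comm (a : P) : zP * a = a * zP := by
  obtain ⟨w, hw, rfl⟩ := exists_word a
  induction w with
  | nil => simp [pw_nil]
  | cons g w ih =>
    rw [ok_iff, List.forall_mem_cons] at hw
    have e := same_sound (List.all_eq_true.mp zw_facts.2.2.2.2.1 g (List.mem_range.mpr hw.1))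
    rw [pw_append, pw_append] at e
    rw [show g :: w = [g] ++ w from rfl, pw_append, ← mul_assoc, zP, e, mul_assoc, ← zP, ih (ok_iff.2 hw.2),
      mul_assoc]

theorem zP_mem_commutator : zP ∈ commutator P := by
  have e := same_sound zw_facts.2.2.2.2.2
  rw [zP, e, pw_append, pw_append, pw_iw, mul_inv_cancel, one_mul, pw_append, pw_append, pw_append, pw_iw,
    pw_iw]
  rw [commutator_def]
  have h := Subgroup.commutator_mem_commutator (H₁ := (⊤ : Subgroup P)) (H₂ := ⊤)
    (Subgroup.mem_top (pw [6])⁻¹) (Subgroup.mem_top (pw [0, 3])⁻¹)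
  simpa [commutatorElement_def, mul_assoc] using h

theorem rho_ker (a : P) : rho a = 1 ↔ a = 1 ∨ a = zP := by
  classical
  have hfix : ∀ b : P, rho b = 1 → b ∈ act.fixer (⊤ : Subgroup P) ((vecChain.map CLev.base).reverse ++ []) := by
    intro b hb
    refine ⟨trivial, fun x hx hxN => Fin.ext ?_⟩
    rw [vec_bases] at hx
    obtain ⟨v, rfl⟩ : ∃ v, vpt v = x := by
      refine ⟨vOf (x - 870), ?_⟩
      simp only [List.reverse_cons, List.reverse_nil, List.nil_append, List.append_assoc, List.cons_append,
        List.append_nil, List.mem_cons, List.not_mem_nil, or_false] at hx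
      rcases hx with rfl | rfl | rfl | rfl | rfl | rfl <;> rfl
    have e := rho_acts b v
    rw [hb, OneMemClass.coe_one, Matrix.vecMul_one, img, dif_pos (vpt_lt v)] at e
    exact e
  have hz : rho zP = 1 := (rho_acts zP).unique fun v => by
    rw [OneMemClass.coe_one, Matrix.vecMul_one, zP, img_pw zw_facts.1 (vpt_lt v)]
    exact Nat.eq_of_beq_eq_true (List.all_eq_true.mp zw_facts.2.1 (idxV v) (List.mem_range.mpr (vOf_idxV v).1))
  constructor
  · intro ha
    have hle := act.cOK_card (⊤ : Subgroup P) vec_cOK fun _ _ _ _ => trivial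
    rw [vec_size] at hle
    have hle2 := hle.trans ((Subgroup.card_le_card_group _).trans card_P.le)
    by_contra hne
    rw [not_or] at hne
    set F := act.fixer (⊤ : Subgroup P) ((vecChain.map CLev.base).reverse ++ [])
    have h3 : 3 ≤ Nat.card F := by
      have hs : ({⟨1, one_mem F⟩, ⟨zP, hfix _ hz⟩, ⟨a, hfix _ ha⟩} : Set F).ncard = 3 := by
        refine Set.ncard_eq_three.2 ⟨_, _, _, ?_, ?_, ?_, rfl⟩
        · exact fun e => zP_ne (congrArg Subtype.val e).symm
        · exact fun e => hne.1 (congrArg Subtype.val e).symm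
        · exact fun e => hne.2 (congrArg Subtype.val e).symm
      exact hs ▸ Set.ncard_le_card _
    nlinarith
  · rintro (rfl | rfl)
    · exact map_one rho
    · exact hz

theorem card_sp : Nat.card (Matrix.symplecticGroup (Fin 3) (ZMod 2)) = 1451520 := by
  rw [CfsgLib.Classical.SympTrans.card_symplectic, Nat.card_zmod]
  decide

theorem rho_surjective : Function.Surjective rho := by
  rw [← MonoidHom.range_eq_top]
  refine Subgroup.eq_top_of_card_eq _ ?_
  have h := Subgroup.card_eq_card_quotient_mul_card_subgroup rho.ker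
  rw [Nat.card_congr (QuotientGroup.quotientKerEquivRange rho).toEquiv, card_P] at h
  have hk : Nat.card rho.ker ≤ 2 := by
    have : ∀ x : rho.ker, (x : P) = 1 ∨ (x : P) = zP := fun x => (rho_ker x).1 x.2
    refine (Nat.card_le_card_of_injective (fun x : rho.ker => if (x : P) = 1 then (0 : Fin 2) else 1) ?_).trans
      (by simp)
    intro x y hxy
    refine Subtype.ext ?_
    rcases this x with hx | hx <;> rcases this y with hy | hy
    · exact hx.trans hy.symm
    · simp only [if_pos hx, if_neg (fun e : (y : P) = 1 => zP_ne (hy.symm.trans e))] at hxy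
      exact absurd hxy (by decide)
    · simp only [if_pos hy, if_neg (fun e : (x : P) = 1 => zP_ne (hx.symm.trans e))] at hxy
      exact absurd hxy (by decide)
    · exact hx.trans hy.symm
  have hle := Subgroup.card_le_card_group rho.range
  rw [card_sp] at hle ⊢
  nlinarith

end CfsgLib.CoThreeUniq
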